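import Groth.Agent.L18.TildeFunctor
import Groth.Prelude.Def_Flatn

/-!
Sections of a module over an affine open as the module of a restriction to the spectrum.
-/

set_option autoImplicit false
set_option backward.isDefEq.respectTransparency false
set_option backward.isDefEq.respectTransparency.types false

universe u

open CategoryTheory CategoryTheory.Limits AlgebraicGeometry Opposite

namespace Groth.L29.RelPC

variable {X : Scheme.{u}}

/-- sections over an affine open -/
theorem nonempty_sections_iso {U : X.Opens} (hU : IsAffineOpen U) (M : X.Modules) :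
    Nonempty (ModuleCat.of Γ(X, U) (M.val.obj (op U)) ≅
      (moduleSpecΓFunctor (R := Γ(X, U))).obj ((Scheme.Modules.restrictFunctor hU.fromSpec).obj M)) := by
  let j := hU.fromSpec
  have e : j ''ᵁ ⊤ = U := by rw [Scheme.Hom.image_top_eq_opensRange, hU.opensRange_fromSpec]
  have hring : (Scheme.ΓSpecIso Γ(X, U)).inv ≫ (j.appIso ⊤).inv = X.presheaf.map (homOfLE e.le).op := by
    have h1 : j.appLE U ⊤ hU.fromSpec_preimage_self.ge = (Scheme.ΓSpecIso Γ(X, U)).inv := by
      rw [Scheme.Hom.appLE, hU.fromSpec_app_self, Category.assoc, ← Functor.map_comp]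
      exact (congrArg _ ((Spec Γ(X, U)).presheaf.map_id _)).trans (Category.comp_id _)
    rw [← h1]
    exact j.appLE_appIso_inv _
  let k : M.val.obj (op U) ≃+ Γ(M, j ''ᵁ ⊤) :=
    ((M.presheaf.mapIso (eqToIso e).op)).addCommGroupIsoToAddEquiv
  refine ⟨LinearEquiv.toModuleIso (X₂ := (moduleSpecΓFunctor (R := Γ(X, U))).obj
    ((Scheme.Modules.restrictFunctor hU.fromSpec).obj M)) { k with map_smul' := fun s x => ?_ }⟩
  change M.presheaf.map (eqToHom e).op (s • x) = (j.appIso ⊤).inv ((Scheme.ΓSpecIso Γ(X, U)).inv s) • M.presheaf.map (eqToHom e).op x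
  rw [show (j.appIso ⊤).inv ((Scheme.ΓSpecIso Γ(X, U)).inv s) = X.presheaf.map (homOfLE e.le).op s from
    ConcreteCategory.congr_hom hring s]
  exact M.map_smul (eqToHom e) s x

end Groth.L29.RelPC
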