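import Groth.Agent.L29.RelPC.Mor
import Groth.Agent.L29.RelPC.Sections
import Groth.Agent.L16.CohKernel
import Groth.Agent.L29.DCoh.RHomBound

/-!
Relative pseudo-coherence of a module in degree zero.
-/

set_option autoImplicit false
set_option backward.defeqAttrib.useBackward true
set_option backward.isDefEq.respectTransparency false
set_option backward.isDefEq.respectTransparency.types false

universe u

open CategoryTheory CategoryTheory.Limits CategoryTheory.Pretriangulated AlgebraicGeometry Opposite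

attribute [local instance] HasDerivedCategory.standard

namespace Groth.L29.RelPC

open Groth.L29.DC Groth.L29.DC.ClosedPC

attribute [local instance] ClosedPC.additive ClosedPC.exactLeft ClosedPC.exactRight

variable {Z W : Scheme.{u}}

theorem isZero_HD_inD {N : Z.Modules} {j : ℤ} (hj : j ≠ 0) : IsZero (DCoh.HD (DCoh.inD Z N) j) :=
  (ShortComplex.isZero_homology_of_isZero_X₂ _
    (HomologicalComplex.isZero_single_obj_X (ComplexShape.up ℤ) 0 N j hj)).of_iso
    ((DerivedCategory.homologyFunctor _ j).mapIso ((DerivedCategory.singleFunctorIsoCompQ Z.Modules 0).app N) ≪≫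
      (DerivedCategory.homologyFunctorFactors _ j).app _)

theorem nonempty_HD0_inD (N : Z.Modules) : Nonempty (DCoh.HD (DCoh.inD Z N) 0 ≅ N) :=
  ⟨(DerivedCategory.homologyFunctor _ 0).mapIso ((DerivedCategory.singleFunctorIsoCompQ Z.Modules 0).app N) ≪≫
      (DerivedCategory.homologyFunctorFactors _ 0).app _ ≪≫
      HomologicalComplex.singleObjHomologySelfIso (ComplexShape.up ℤ) 0 N⟩

/-- zero-pseudo-coherence of free modules pushed forward -/
theorem pp_free_zero (i : Z ⟶ W) [IsClosedImmersion i]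
    (hO : DCoh.IsPseudoCoherentD 0 ((pD i).obj (DCoh.inD Z (Coh.structureModule Z)))) (q : ℕ) :
    DCoh.IsPseudoCoherentD 0 ((pD i).obj (DCoh.inD Z (FlatMod.freeMod Z q))) := by
  induction q with
  | zero =>
    refine pc_of_isZero fun j _ => (DerivedCategory.homologyFunctor _ j).map_isZero ((pD i).map_isZero
      ((DerivedCategory.singleFunctor Z.Modules 0).map_isZero ?_))
    exact (IsZero.iff_id_eq_zero _).2 (Sigma.hom_ext _ _ fun j => j.elim0)
  | succ q ih =>
    let F := pD i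
    let s := DerivedCategory.singleFunctor Z.Modules 0
    haveI := preservesBinaryBiproducts_of_preservesBiproducts F
    haveI := preservesBinaryBiproducts_of_preservesBiproducts s
    let e : F.obj (DCoh.inD Z (FlatMod.freeMod Z (q + 1))) ≅
        F.obj (s.obj (Coh.structureModule Z)) ⊞ F.obj (s.obj (FlatMod.freeMod Z q)) :=
      F.mapIso (s.mapIso (coprodFinSuccIso fun _ : Fin (q + 1) => Coh.structureModule Z) ≪≫ s.mapBiprod _ _) ≪≫
        F.mapBiprod _ _
    exact isPseudoCoherentD_of_iso e.symm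
      ((pc_two_out_of_three (binaryBiproductTriangle_distinguished _ _) 0).2.1 hO ih)

theorem PP.zero_inD_iff (i : Z ⟶ W) [IsClosedImmersion i]
    (hO : DCoh.IsPseudoCoherentD 0 ((pD i).obj (DCoh.inD Z (Coh.structureModule Z)))) (N : Z.Modules) :
    PP i 0 (DCoh.inD Z N) ↔ CohB1.IsFT N := by
  obtain ⟨a⟩ := nonempty_HD0_inD N
  obtain ⟨b⟩ := nonempty_HD_iso i (DCoh.inD Z N) 0
  constructor
  · intro h
    exact TildeAlg.isFT_of_iso a (isFT_of_push i (TildeAlg.isFT_of_iso b (TopCoh.isFT_top (m := 0) le_rfl h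
      fun j hj => (isZero_HD_iff i _ j).2 (isZero_HD_inD (by omega)))))
  · intro hN
    refine PP.of_cover i fun z => ?_
    haveI : (DCoh.inD Z N).IsLE 0 := (DerivedCategory.isLE_iff _ _).2 fun j hj => isZero_HD_inD (by omega)
    obtain ⟨U, q, α, hzU, hα⟩ := exists_top_map (n := 0) (DCoh.inD Z N) (TildeAlg.isFT_of_iso a.symm hN) z
    obtain ⟨O, hO', hOU⟩ := i.isClosedEmbedding.isInducing.isOpen_iff.1 U.2
    let V : W.Opens := ⟨O, hO'⟩
    have hUV : U = i ⁻¹ᵁ V := TopologicalSpace.Opens.ext hOU.symm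
    subst hUV
    refine ⟨_, _, (i ⁻¹ᵁ V).ι, V.ι, inferInstance, inferInstance, i ∣_ V, inferInstance,
      by rw [Scheme.Opens.opensRange_ι]; exact hzU, by simp, morphismRestrict_ι i V, ?_⟩
    have hO₁ : DCoh.IsPseudoCoherentD 0 ((pD (i ∣_ V)).obj (DCoh.inD _ (Coh.structureModule (i ⁻¹ᵁ V : Scheme.{u})))) := by
      obtain ⟨r⟩ := ClosedPC.nonempty_res i V
      exact PP.of_iso (((Scheme.Modules.restrictFunctor (i ⁻¹ᵁ V).ι).mapDerivedCategorySingleFunctor 0).app _ ≪≫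
        (DerivedCategory.singleFunctor _ 0).mapIso (Scheme.Modules.restrictUnitIso (i ⁻¹ᵁ V).ι))
        (isPseudoCoherentD_of_iso (r.app _) (PCStalk.pc_res V.ι hO))
    obtain ⟨C, g, d, hT⟩ := distinguished_cocone_triangle α
    have hC := (approx_iff_triangle _ hT 0).1 hα
    have hT' := (pD (i ∣_ V)).map_distinguished _ hT
    refine (pc_two_out_of_three hT' 0).2.1 ?_ (pc_of_isZero fun j hj => (isZero_HD_iff (i ∣_ V) C j).2
      (haveI : DerivedCategory.IsLE C (0 - 1) := hC; DerivedCategory.isZero_of_isLE C (0 - 1) j (by omega)))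
    exact PP.of_iso (i := i ∣_ V) ((shiftFunctorZero' (DCoh.D _) (-(0 : ℤ)) neg_zero).app _).symm
      (pp_free_zero (i ∣_ V) hO₁ q)

section

variable {X Y : Scheme.{u}} {f : X ⟶ Y}

/-- the chart of a module in degree zero -/
noncomputable def chartInD (U : X.Opens) {Q : Type u} [CommRing Q] (h : Q →+* Γ(X, U))
    [IsClosedImmersion (chartI U h)] (M : X.Modules) :
    (resD U).obj (DCoh.inD X M) ≅ DCoh.inD _ (M.restrict U.ι) :=
  ((Scheme.Modules.restrictFunctor U.ι).mapDerivedCategorySingleFunctor 0).app M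

theorem rel_pos [LocallyOfFiniteType f] (M : X.Modules) {m : ℤ} (hm : 0 < m) :
    DerSch.IsPseudoCoherentRel f m (DCoh.inD X M) :=
  rel_iff.2 fun U V hU hV _ hle n φ hφ => by
    haveI := isClosedImmersion_chartI hU hφ.1
    exact ⟨inferInstance, PP.of_iso (chartInD U φ M).symm
      (pc_of_isZero fun j hj => (isZero_HD_iff _ _ j).2 (isZero_HD_inD (by omega)))⟩

theorem CP.zero_inD_iff {U : X.Opens} (hU : IsAffineOpen U) {Q : Type u} [CommRing Q] {h : Q →+* Γ(X, U)}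
    (hh : Function.Surjective h) (M : X.Modules) :
    CP U h 0 (DCoh.inD X M) ↔ CohB1.IsFT (M.restrict U.ι) := by
  haveI := isClosedImmersion_chartI hU hh
  have hfin : Groth.L10.RelPC.Pc h 0 (Dual.inD Γ(X, U) Γ(X, U)) := by
    letI := h.toAlgebra
    haveI : Module.Finite Q Γ(X, U) := Module.Finite.of_surjective (Algebra.linearMap Q Γ(X, U)) hh
    exact Groth.L02.PC.pc_of_iso (Groth.L10.RelPC.inDIso h Γ(X, U) fun a x => Algebra.smul_def a x).symm
      (Groth.L10.DR.pcModule_zero (A := Q) Γ(X, U))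
  have hO : DCoh.IsPseudoCoherentD 0 ((pD (chartI U h)).obj (DCoh.inD _ (Coh.structureModule (U : Scheme.{u})))) :=
    PP.of_iso (chartInD U h (Coh.structureModule X) ≪≫
      (DerivedCategory.singleFunctor _ 0).mapIso (Scheme.Modules.restrictUnitIso U.ι))
      ((CP.unit_iff hU hh 0).2 hfin).2
  refine Iff.trans ⟨fun ⟨_, hp⟩ => PP.of_iso (chartInD U h M) hp,
    fun hp => ⟨inferInstance, PP.of_iso (chartInD U h M).symm hp⟩⟩ (PP.zero_inD_iff (chartI U h) hO (M.restrict U.ι))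

theorem rel_zero_iff [LocallyOfFiniteType f] (M : X.Modules) :
    DerSch.IsPseudoCoherentRel f 0 (DCoh.inD X M) ↔ CohB1.IsFT M := by
  constructor
  · intro h
    refine Groth.L00.Local.isFT_of_generators M fun x => ?_
    obtain ⟨U, V, hle, hU, hV, hx⟩ := exists_affine x f
    obtain ⟨n, φ, hφ⟩ := exists_isChart f hU hV hle
    have hFT := (CP.zero_inD_iff hU hφ.1 M).1 (good_of_rel h hU hV hle hle n φ hφ)
    obtain ⟨W, σ, hxW, hσ⟩ := Groth.L00.Local.exists_generators_of_isFT _ hFT ⟨x, hx⟩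
    let j : (W : Scheme.{u}) ⟶ X := W.ι ≫ U.ι
    let k := j.isoOpensRange.inv
    obtain ⟨σ', hσ'⟩ := Groth.L16.CohKernel.exists_generators_of_comp k (W.ι ≫ U.ι) j.opensRange.ι
      (j.isoOpensRange_inv_comp) M (σ.ofEpi ((Scheme.Modules.restrictFunctorComp W.ι U.ι).app M).inv)
    exact ⟨j.opensRange, σ', ⟨⟨⟨x, hx⟩, hxW⟩, rfl⟩, hσ'.symm ▸ hσ⟩
  · intro h
    exact rel_iff.2 fun U V hU hV _ hle n φ hφ =>
      (CP.zero_inD_iff hU hφ.1 M).2 (Groth.L16.CohKernel.isFT_restrict U.ι M h)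

/-- the object of a quasi-coherent module -/
theorem nonempty_sections_tildeD {U : X.Opens} (hU : IsAffineOpen U) [IsClosedImmersion U.toSpecΓ]
    [PreservesFiniteLimits (tilde.functor Γ(X, U))] (M : X.Modules) [Coh.IsQCoh M] :
    Nonempty ((DCoh.tildeD Γ(X, U)).obj (Dual.inD Γ(X, U) (M.val.obj (op U))) ≅
      (pD U.toSpecΓ).obj ((resD U).obj (DCoh.inD X M))) := by
  obtain ⟨a⟩ := nonempty_fromSpec hU (DCoh.inD X M)
  obtain ⟨s⟩ := nonempty_sections_iso hU M
  haveI : (tilde.functor Γ(X, U)).Additive := inferInstance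
  haveI : PreservesFiniteColimits (tilde.functor Γ(X, U)) := inferInstance
  haveI : Coh.IsQCoh ((Scheme.Modules.restrictFunctor hU.fromSpec).obj M) :=
    inferInstance
  exact ⟨((tilde.functor Γ(X, U)).mapDerivedCategorySingleFunctor 0).app _ ≪≫
    (DerivedCategory.singleFunctor _ 0).mapIso ((tilde.functor _).mapIso s ≪≫
      Groth.L18.TildeF.counitIso ((Scheme.Modules.restrictFunctor hU.fromSpec).obj M)) ≪≫
    (((Scheme.Modules.restrictFunctor hU.fromSpec).mapDerivedCategorySingleFunctor 0).app _).symm ≪≫ a.symm⟩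

theorem good_negOne_iff [LocallyOfFiniteType f] (M : X.Modules) [Coh.IsQCoh M] (U : X.affineOpens) (V : Y.affineOpens)
    (h : (U : X.Opens) ≤ f ⁻¹ᵁ (V : Y.Opens)) :
    Good f (-1) (DCoh.inD X M) U V ↔ Flatn.RelFPOn f M U V h := by
  haveI := isClosedImmersion_toSpecΓ U.2
  haveI := Groth.L18.TildeF.tilde_preservesFiniteLimits (R := Γ(X, (U : X.Opens)))
  obtain ⟨e⟩ := nonempty_sections_tildeD U.2 M
  rw [good_iff_rel U.2 V.2 h e]
  letI := (f.appLE (V : Y.Opens) (U : X.Opens) h).hom.toAlgebra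
  haveI : Algebra.FiniteType Γ(Y, (V : Y.Opens)) Γ(X, (U : X.Opens)) := f.finiteType_appLE V.2 U.2 h
  constructor
  · intro hr
    obtain ⟨n, α, hα⟩ := Groth.L10.RelPC.exists_presentation Γ(Y, (V : Y.Opens)) Γ(X, (U : X.Opens))
    exact ⟨n, α, hα, (Groth.L10.RelPC.module_iff α hα (M.val.obj (op (U : X.Opens)))).2.1 hr⟩
  · rintro ⟨n, α, hα, hr⟩
    exact (Groth.L10.RelPC.module_iff α hα (M.val.obj (op (U : X.Opens)))).2.2 hr

theorem rel_negOne_iff [LocallyOfFiniteType f] (M : X.Modules) :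
    DerSch.IsPseudoCoherentRel f (-1) (DCoh.inD X M) ↔ (Coh.IsQCoh M ∧ Flatn.IsRelFP f M) := by
  constructor
  · intro h
    have hM : Coh.IsQCoh M := by
      refine RHom.isQCoh_of_cover fun x => ?_
      obtain ⟨V, U, n, φ, hx, hU, hφ, hp⟩ := Groth.L29.KSix.exists_chart h x
      haveI := Groth.L29.KSix.isQCoh_HD_of_chartPC hU hφ hp (i := 0) (by omega)
      obtain ⟨a⟩ := nonempty_HD0_inD M
      exact ⟨U, hx, isQCoh_of_iso' ((Scheme.Modules.restrictFunctor U.ι).mapIso a) inferInstance⟩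
    refine ⟨hM, Set.univ, ?_, fun V _ => ⟨{U | (U : X.Opens) ≤ f ⁻¹ᵁ (V : Y.Opens)}, ?_, fun U _ hle =>
      (good_negOne_iff M U V hle).1 (good_of_rel h U.2 V.2 hle)⟩⟩
    · refine eq_top_iff.2 fun y _ => ?_
      obtain ⟨_, ⟨V, hV, rfl⟩, hy, -⟩ := Y.isBasis_affineOpens.exists_subset_of_mem_open (Set.mem_univ y) isOpen_univ
      exact TopologicalSpace.Opens.mem_iSup.2 ⟨⟨V, hV⟩, TopologicalSpace.Opens.mem_iSup.2 ⟨trivial, hy⟩⟩
    · refine le_antisymm (iSup₂_le fun _ h => h) fun x hx => ?_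
      obtain ⟨_, ⟨U, hU, rfl⟩, hy, hle⟩ :=
        X.isBasis_affineOpens.exists_subset_of_mem_open hx (f ⁻¹ᵁ (V : Y.Opens)).isOpen
      exact TopologicalSpace.Opens.mem_iSup.2 ⟨⟨U, hU⟩, TopologicalSpace.Opens.mem_iSup.2 ⟨hle, hy⟩⟩
  · rintro ⟨hM, 𝒱, h𝒱, hh⟩
    refine rel_of_local fun x => ?_
    obtain ⟨V, hV⟩ := TopologicalSpace.Opens.mem_iSup.1 (show f x ∈ (⨆ V ∈ 𝒱, (V : Y.Opens)) by rw [h𝒱]; trivial)
    obtain ⟨hV𝒱, hxV⟩ := TopologicalSpace.Opens.mem_iSup.1 hV
    obtain ⟨𝒰, h𝒰, h'⟩ := hh V hV𝒱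
    obtain ⟨U, hU⟩ := TopologicalSpace.Opens.mem_iSup.1 (show x ∈ (⨆ U ∈ 𝒰, (U : X.Opens)) by rw [h𝒰]; exact hxV)
    obtain ⟨hU𝒰, hxU⟩ := TopologicalSpace.Opens.mem_iSup.1 hU
    have hle : (U : X.Opens) ≤ f ⁻¹ᵁ (V : Y.Opens) := h𝒰 ▸ le_iSup₂_of_le U hU𝒰 le_rfl
    exact ⟨U, V, hxU, U.2, V.2, hle, (good_negOne_iff M U V hle).2 (h' U hU𝒰 hle)⟩

end

end Groth.L29.RelPC
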