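import Groth.Agent.L00.DerivedApi
import Groth.Agent.L00.PullStalk
import Groth.Agent.L00.StalkFunctor
import Groth.Agent.L00.TorAmp
import Groth.Agent.L29.DCoh.PCStalk
import Mathlib.Algebra.Homology.DerivedCategory.ExactFunctor

/-!
Pullback along flat morphisms is exact and computes derived pullback.
-/

set_option autoImplicit false
set_option backward.defeqAttrib.useBackward true
set_option backward.isDefEq.respectTransparency false
set_option backward.isDefEq.respectTransparency.types false

universe u

open CategoryTheory CategoryTheory.Limits AlgebraicGeometry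

attribute [local instance] HasDerivedCategory.standard

namespace Groth.L29.RelPC

variable {X Y : Scheme.{u}} (f : X ⟶ Y)

theorem additive_pullback : (Scheme.Modules.pullback f).Additive :=
  (Scheme.Modules.pullbackPushforwardAdjunction f).left_adjoint_additive

theorem preservesFiniteColimits_pullback : PreservesFiniteColimits (Scheme.Modules.pullback f) :=
  haveI : PreservesColimitsOfSize.{0, 0} (Scheme.Modules.pullback f) :=
    (Scheme.Modules.pullbackPushforwardAdjunction f).leftAdjoint_preservesColimits
  PreservesColimitsOfSize.preservesFiniteColimits.{0, 0} _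

theorem preservesFiniteLimits_pullback [Flat f] : PreservesFiniteLimits (Scheme.Modules.pullback f) := by
  have hstk : ∀ x, PreservesFiniteLimits (Scheme.Modules.pullback f ⋙ Groth.L00.Stk.F X x) := fun x => by
    haveI : PreservesFiniteLimits (ModuleCat.extendScalars.{u, u, u} (Groth.L00.PullStalk.φ f x)) :=
      ModuleCat.preservesFiniteLimits_extendScalars_of_flat (AlgebraicGeometry.Flat.stalkMap f x)
    exact preservesFiniteLimits_of_natIso (Groth.L00.PullStalk.stalkIso f x).symm
  haveI := additive_pullback f
  haveI := preservesFiniteColimits_pullback f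
  haveI : (Scheme.Modules.pullback f).PreservesMonomorphisms := ⟨fun {M N} i _ => by
    refine (Groth.L21.Mod.mono_iff_stalk_injective _).2 fun x => ?_
    haveI := hstk x
    haveI : Mono ((Scheme.Modules.pullback f ⋙ Groth.L00.Stk.F X x).map i) := inferInstance
    exact (ModuleCat.mono_iff_injective ((Groth.L00.Stk.F X x).map ((Scheme.Modules.pullback f).map i))).1 this⟩
  refine (Functor.preservesFiniteLimits_iff_forall_exact_map_and_mono _).2 fun S hS => ?_
  have := hS.mono_f
  haveI : (Scheme.Modules.pullback f).PreservesHomology :=
    (Scheme.Modules.pullback f).preservesHomology_of_preservesMonos_and_cokernels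
  exact ⟨hS.exact.map _, inferInstance⟩

/-- derived pullback along a flat morphism -/
theorem nonempty_Lpull_flat [Flat f] [(Scheme.Modules.pullback f).Additive]
    [PreservesFiniteLimits (Scheme.Modules.pullback f)] [PreservesFiniteColimits (Scheme.Modules.pullback f)]
    [DCoh.HasLpull f] (K : DCoh.D Y) :
    Nonempty ((DCoh.Lpull f).obj K ≅ (Scheme.Modules.pullback f).mapDerivedCategory.obj K) := by
  let F := DerivedCategory.Q.objPreimage K
  let P := (Groth.L00.KFlat.RF Y).obj F
  haveI := Groth.L00.TorAmp.isIso_Q_rF F
  let eP : DCoh.toD Y P ≅ K := asIso (DerivedCategory.Q.map ((Groth.L00.KFlat.rF Y).app F)) ≪≫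
    DerivedCategory.Q.objObjPreimageIso K
  exact ⟨(DCoh.Lpull f).mapIso eP.symm ≪≫
    Groth.L00.DerivedApi.objIso (Groth.L00.DerivedApi.acyclicKFlat_pullback f) P (Groth.L00.KFlat.isKFlat_RF F) ≪≫
    ((Scheme.Modules.pullback f).mapDerivedCategoryFactors.app P).symm ≪≫
    (Scheme.Modules.pullback f).mapDerivedCategory.mapIso eP⟩

end Groth.L29.RelPC
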