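import Groth.Agent.L29.RelPC.Mor
import Groth.Agent.L10.RelPC.Local

/-!
Relative pseudo-coherence and pseudo-coherent intermediate bases.
-/

set_option autoImplicit false
set_option backward.defeqAttrib.useBackward true
set_option backward.isDefEq.respectTransparency false

universe u

open CategoryTheory CategoryTheory.Limits AlgebraicGeometry

attribute [local instance] HasDerivedCategory.standard

namespace Groth.L29.RelPC

open Groth.L10.RelPC

variable {X Y S : Scheme.{u}}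

theorem good_comp_base_iff (f : X ⟶ Y) (g : Y ⟶ S) [LocallyOfFiniteType f] [LocallyOfFiniteType g]
    (hg : MoreMor.IsPseudoCoherentMor g) {U : X.Opens} (hU : IsAffineOpen U) {W : Y.Opens} (hW : IsAffineOpen W)
    {V : S.Opens} (hV : IsAffineOpen V) (hle : U ≤ f ⁻¹ᵁ W) (hWV : W ≤ g ⁻¹ᵁ V) (m : ℤ) (K : DCoh.D X) :
    Good f m K U W ↔ Good (f ≫ g) m K U V := by
  letI := (g.appLE V W hWV).hom.toAlgebra
  obtain ⟨n, α, hα, hP⟩ := hg W V hW hV hWV
  obtain ⟨l, β, hβ⟩ := exists_isChart f hU hW hle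
  let a : MvPolynomial (Fin n) Γ(S, V) →+* Γ(Y, W) := α
  let σ : MvPolynomial (Fin l) (MvPolynomial (Fin n) Γ(S, V)) →+* MvPolynomial (Fin l) Γ(Y, W) := MvPolynomial.map a
  let e := (doubleEquiv Γ(S, V) l n).toRingEquiv
  let σ' : MvPolynomial (Fin (l + n)) Γ(S, V) →+* MvPolynomial (Fin l) Γ(Y, W) := σ.comp (RingHomClass.toRingHom e)
  have hσs : Function.Surjective σ' := (MvPolynomial.map_surjective _ hα).comp e.surjective
  have hσ : PCHom σ' := (PCHom.ringEquiv e).comp (PCHom.poly_map a hP l)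
  have hUV : U ≤ (f ≫ g) ⁻¹ᵁ V := hle.trans (f.preimage_mono hWV)
  have hψ : DerSch.IsChart (f ≫ g) U V hUV (β.comp σ') := by
    refine ⟨hβ.1.comp hσs, RingHom.ext fun r => ?_⟩
    have e0 : e (MvPolynomial.C r) = MvPolynomial.C (MvPolynomial.C r) := by
      change doubleEquiv Γ(S, V) l n (algebraMap _ _ r) = _
      rw [AlgEquiv.commutes]
      rw [IsScalarTower.algebraMap_apply Γ(S, V) (MvPolynomial (Fin n) Γ(S, V))]
      rfl
    change β (σ (e (MvPolynomial.C r))) = _
    rw [e0]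
    simp only [σ, MvPolynomial.map_C]
    rw [show β (MvPolynomial.C (a (MvPolynomial.C r))) = (f.appLE W U hle).hom (a (MvPolynomial.C r)) from
      RingHom.congr_fun hβ.2 _, show a (MvPolynomial.C r) = (g.appLE V W hWV).hom r from α.commutes r]
    exact ConcreteCategory.congr_hom (Scheme.Hom.appLE_comp_appLE f g V W U hWV hle) r
  have key := CP.comp_iff hU β hβ.1 σ' hσs hσ rfl m K
  exact ⟨fun hG => good_of_chart _ hU hψ (key.2 (hG hle l β hβ)),
    fun hG => good_of_chart f hU hβ (key.1 (hG hUV _ _ hψ))⟩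

theorem rel_comp_base_iff (f : X ⟶ Y) (g : Y ⟶ S) [LocallyOfFiniteType f] [LocallyOfFiniteType g]
    (hg : MoreMor.IsPseudoCoherentMor g) (m : ℤ) (K : DCoh.D X) :
    DerSch.IsPseudoCoherentRel f m K ↔ DerSch.IsPseudoCoherentRel (f ≫ g) m K := by
  constructor <;> intro h <;> refine rel_of_local fun x => ?_
  all_goals
    obtain ⟨W, V, hWV, hW, hV, hxW⟩ := exists_affine (f x) g
    obtain ⟨_, ⟨U, hU, rfl⟩, hx, hle⟩ := X.isBasis_affineOpens.exists_subset_of_mem_open
      (show x ∈ f ⁻¹ᵁ W from hxW) (f ⁻¹ᵁ W).isOpen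
    have hUV : U ≤ (f ≫ g) ⁻¹ᵁ V := le_trans hle (f.preimage_mono hWV)
  · exact ⟨U, V, hx, hU, hV, hUV, (good_comp_base_iff f g hg hU hW hV hle hWV m K).1 (good_of_rel h hU hW hle)⟩
  · exact ⟨U, W, hx, hU, hW, hle, (good_comp_base_iff f g hg hU hW hV hle hWV m K).2 (good_of_rel h hU hV hUV)⟩

end Groth.L29.RelPC
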