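import Groth.Agent.L29.RelPC.BCMain
import Groth.Agent.L29.RelPC.Trans
import Groth.Agent.L29.DCoh.Restrict
import Groth.Agent.L19.PerfectHomCases
import Mathlib.AlgebraicGeometry.Morphisms.UniversallyOpen

/-!
Relative pseudo-coherence is local on the base for flat finitely presented covering families.
-/

set_option autoImplicit false
set_option backward.defeqAttrib.useBackward true
set_option backward.isDefEq.respectTransparency false
set_option backward.isDefEq.respectTransparency.types false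

universe u

open CategoryTheory CategoryTheory.Limits AlgebraicGeometry

attribute [local instance] HasDerivedCategory.standard

namespace Groth.L29.RelPC

open Groth.L29.DC

theorem pcMor_of_flat {X Y : Scheme.{u}} (f : X ⟶ Y) [Flat f] [LocallyOfFinitePresentation f] :
    MoreMor.IsPseudoCoherentMor f := by
  intro U V hU hV hle
  letI := (f.appLE V U hle).hom.toAlgebra
  haveI : Module.Flat Γ(Y, V) Γ(X, U) := f.flat_appLE hV hU hle
  haveI : Algebra.FinitePresentation Γ(Y, V) Γ(X, U) := f.finitePresentation_appLE hV hU hle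
  exact Groth.L19.PerfectHom.isPerfectHom_of_flat.1

theorem nonempty_Lpull_congr {X Y Z Z' : Scheme.{u}} {a : X ⟶ Y} {b : Y ⟶ Z} {a' : X ⟶ Z'} {b' : Z' ⟶ Z}
    [DCoh.HasLpull a] [DCoh.HasLpull b] [DCoh.HasLpull a'] [DCoh.HasLpull b'] (w : a ≫ b = a' ≫ b')
    (K : DCoh.D Z) :
    Nonempty ((DCoh.Lpull a).obj ((DCoh.Lpull b).obj K) ≅ (DCoh.Lpull a').obj ((DCoh.Lpull b').obj K)) := by
  haveI := Groth.L00.KFlat.hasLpull (a ≫ b)
  haveI := Groth.L00.KFlat.hasLpull (a' ≫ b')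
  obtain ⟨e₁⟩ := Groth.L00.DerivedApi.lpull_comp a b
  obtain ⟨e₂⟩ := Groth.L00.DerivedApi.lpull_comp a' b'
  exact ⟨e₁.app K ≪≫ eqToIso (by congr 2) ≪≫ (e₂.app K).symm⟩

variable {X S : Scheme.{u}}

theorem rel_descends_family (f : X ⟶ S) [LocallyOfFiniteType f] {ι : Type u} (Si : ι → Scheme.{u})
    (h : ∀ i, Si i ⟶ S) [∀ i, Flat (h i)] [∀ i, LocallyOfFinitePresentation (h i)]
    (hcov : ∀ s : S, ∃ (i : ι) (t : Si i), (h i).base t = s) [∀ i, DCoh.HasLpull (pullback.fst f (h i))] {m : ℤ}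
    {K : DCoh.D X} (hK : ∀ i, DerSch.IsPseudoCoherentRel (pullback.snd f (h i)) m
      ((DCoh.Lpull (pullback.fst f (h i))).obj K)) : DerSch.IsPseudoCoherentRel f m K := by
  classical
  refine rel_of_local fun x => ?_
  obtain ⟨U, V, hle, hU, hV, hx⟩ := exists_affine x f
  have hch : ∀ s ∈ V, ∃ (i : ι) (W : (Si i).Opens), IsAffineOpen W ∧ W ≤ h i ⁻¹ᵁ V ∧ s ∈ h i '' W := fun s hs => by
    obtain ⟨i, t, ht⟩ := hcov s
    obtain ⟨_, ⟨W, hW, rfl⟩, htW, hle⟩ := (Si i).isBasis_affineOpens.exists_subset_of_mem_open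
      (show t ∈ h i ⁻¹ᵁ V by show (h i) t ∈ V; exact ht ▸ hs) (h i ⁻¹ᵁ V).2
    exact ⟨i, W, hW, hle, t, htW, ht⟩
  choose i W hW hWV hsW using hch
  obtain ⟨c, hc⟩ := hV.isCompact.elim_finite_subcover
    (fun s : V => (h (i s.1 s.2) '' (W s.1 s.2 : Set (Si (i s.1 s.2))) : Set S))
    (fun s => (h (i s.1 s.2)).isOpenMap _ (W s.1 s.2).2)
    (fun s hs => Set.mem_iUnion.2 ⟨⟨s, hs⟩, hsW s hs⟩)
  let P : ↥c → Scheme.{u} := fun k => (W k.1.1 k.1.2 : (Si (i k.1.1 k.1.2)).Opens)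
  haveI : ∀ k, IsAffine (P k) := fun k => hW k.1.1 k.1.2
  let a : ∀ k : ↥c, P k ⟶ Si (i k.1.1 k.1.2) := fun k => (W k.1.1 k.1.2).ι
  let q : ∐ P ⟶ S := Sigma.desc fun k => a k ≫ h (i k.1.1 k.1.2)
  haveI : Flat q := by
    rw [IsZariskiLocalAtSource.iff_of_openCover (P := @Flat) (sigmaOpenCover P)]
    intro k
    have : (sigmaOpenCover P).f k ≫ q = a k ≫ h (i k.1.1 k.1.2) := Sigma.ι_desc _ k
    rw [this]; infer_instance
  let g' := pullback.fst f q
  let f' := pullback.snd f q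
  haveI := Groth.L00.KFlat.hasLpull g'
  have hK' : DerSch.IsPseudoCoherentRel f' m ((DCoh.Lpull g').obj K) := by
    refine rel_of_openCover fun z => ?_
    obtain ⟨k, t, ht⟩ := (sigmaOpenCover P).exists_eq (f' z)
    let j : P k ⟶ ∐ P := Sigma.ι P k
    haveI : IsOpenImmersion j := inferInstanceAs (IsOpenImmersion ((sigmaOpenCover P).f k))
    let e := pullback.fst f' j
    let h' := h (i k.1.1 k.1.2)
    have w : (e ≫ g') ≫ f = (pullback.snd f' j ≫ a k) ≫ h' := by
      rw [Category.assoc, pullback.condition, ← Category.assoc, show e ≫ pullback.snd f q = pullback.snd f' j ≫ j from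
        pullback.condition, Category.assoc, show j ≫ q = a k ≫ h' from Sigma.ι_desc _ k, Category.assoc]
    let l := pullback.lift (e ≫ g') (pullback.snd f' j ≫ a k) w
    have hbig : IsPullback (e ≫ g') (pullback.snd f' j) f (a k ≫ h') := by
      rw [show a k ≫ h' = j ≫ q from (Sigma.ι_desc (fun k => a k ≫ h (i k.1.1 k.1.2)) k).symm]
      exact (IsPullback.of_hasPullback f' j).paste_horiz (IsPullback.of_hasPullback f q)
    have hl : IsPullback l (pullback.snd f' j) (pullback.snd f h') (a k) :=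
      IsPullback.of_right (h₁₂ := pullback.fst f h') (by rw [pullback.lift_fst]; exact hbig) (pullback.lift_snd _ _ _)
        (IsPullback.of_hasPullback f h')
    haveI := Groth.L00.KFlat.hasLpull l
    haveI := Groth.L00.KFlat.hasLpull e
    have h1 := rel_baseChange hl (hK (i k.1.1 k.1.2))
    haveI := h1.1
    have h2 := (rel_comp_base_iff (pullback.snd f' j) j (pcMor_of_flat j) m _).1 h1
    obtain ⟨r⟩ := nonempty_Lpull_iso_restrictD e ((DCoh.Lpull g').obj K)
    obtain ⟨c2⟩ := nonempty_Lpull_congr (show l ≫ pullback.fst f h' = e ≫ g' from pullback.lift_fst _ _ _) K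
    refine ⟨_, e, inferInstance, ?_, ?_⟩
    · rw [← SetLike.mem_coe, Scheme.Hom.coe_opensRange, Scheme.Pullback.range_fst]
      exact ⟨t, ht⟩
    · rw [show e ≫ f' = pullback.snd f' j ≫ j from pullback.condition]
      exact rel_iso (c2 ≪≫ r) h2
  haveI := hK'.1
  have eW : (⊤ : (∐ P).Opens) ≤ q ⁻¹ᵁ V := fun z _ => by
    obtain ⟨k, t, rfl⟩ := (sigmaOpenCover P).exists_eq z
    show q ((sigmaOpenCover P).f k t) ∈ V
    rw [← Scheme.Hom.comp_apply, show (sigmaOpenCover P).f k ≫ q = a k ≫ h (i k.1.1 k.1.2) from Sigma.ι_desc _ k]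
    exact hWV k.1.1 k.1.2 t.2
  have hsq := exists_square (IsPullback.of_hasPullback f q) hV hU (isAffineOpen_top _) hle eW
  refine ⟨U, V, hx, hU, hV, hle, (good_square (IsPullback.of_hasPullback f q) hV hU (isAffineOpen_top _) hle eW m K).2 ?_
    (good_of_rel hK' hsq.1 (isAffineOpen_top _) inf_le_right)⟩
  intro s hs
  obtain ⟨s', hs', t, htW, ht⟩ := Set.mem_iUnion₂.1 (hc hs)
  refine ⟨Sigma.ι P ⟨s', hs'⟩ ⟨t, htW⟩, trivial, ?_⟩
  rw [← ht, ← Scheme.Hom.comp_apply, Sigma.ι_desc]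
  rfl

end Groth.L29.RelPC
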