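import Groth.Agent.L29.RelPC.Mor

/-!
Relative pseudo-coherence along closed immersions, and against absolute pseudo-coherence.
-/

set_option autoImplicit false
set_option backward.defeqAttrib.useBackward true
set_option backward.isDefEq.respectTransparency false
set_option backward.isDefEq.respectTransparency.types false

universe u

open CategoryTheory CategoryTheory.Limits AlgebraicGeometry

attribute [local instance] HasDerivedCategory.standard

namespace Groth.L29.RelPC

open Groth.L29.DC Groth.L29.DC.ClosedPC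

attribute [local instance] ClosedPC.additive ClosedPC.exactLeft ClosedPC.exactRight

variable {Y Z : Scheme.{u}}

/-- charts of a pseudo-coherent morphism have pseudo-coherent structure sheaf -/
theorem PO.chart {g : Y ⟶ Z} [LocallyOfFiniteType g] (hg : ∀ k : ℤ, DerSch.IsNPseudoCoherent g k) {U : Y.Opens}
    {V : Z.Opens} (hU : IsAffineOpen U) (hV : IsAffineOpen V) {hle : U ≤ g ⁻¹ᵁ V} {n : ℕ}
    {φ : MvPolynomial (Fin n) Γ(Z, V) →+* Γ(Y, U)} (hφ : DerSch.IsChart g U V hle φ)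
    [IsClosedImmersion (chartI U φ)] : PO (chartI U φ) := fun k =>
  isPseudoCoherentD_of_iso ((pD (chartI U φ)).mapIso
      (((Scheme.Modules.restrictFunctor U.ι).mapDerivedCategorySingleFunctor 0).app _ ≪≫
        (DerivedCategory.singleFunctor _ 0).mapIso (Scheme.Modules.restrictUnitIso U.ι)) ≪≫
    ((Scheme.Modules.pushforward (chartI U φ)).mapDerivedCategorySingleFunctor 0).app _)
    (good_of_rel ((unit_pc_iff k).1 (hg k)) hU hV hle hle n φ hφ).2

/-- over a pseudo-coherent morphism, relative and absolute pseudo-coherence agree -/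
theorem pc_iff_rel {g : Y ⟶ Z} [LocallyOfFiniteType g] (hg : ∀ k : ℤ, DerSch.IsNPseudoCoherent g k) (r : ℤ)
    (E : DCoh.D Y) : DCoh.IsPseudoCoherentD r E ↔ DerSch.IsPseudoCoherentRel g r E := by
  constructor
  · intro hE
    refine rel_iff.2 fun U V hU hV hle _ n φ hφ => ?_
    haveI := isClosedImmersion_chartI hU hφ.1
    exact ⟨inferInstance, (pc_push_iff _ (PO.chart hg hU hV hφ) _ r).1 (PCStalk.pc_res U.ι hE)⟩
  · intro hE
    refine PCDesc.pc_of_local fun y => ?_
    obtain ⟨U, V, hle, hU, hV, hy⟩ := exists_affine y g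
    obtain ⟨n, φ, hφ⟩ := exists_isChart g hU hV hle
    obtain ⟨_, hp⟩ := good_of_rel hE hU hV hle hle n φ hφ
    exact ⟨U, hy, (pc_push_iff _ (PO.chart hg hU hV hφ) _ r).2 hp⟩

variable {X P S : Scheme.{u}}

theorem good_closed_iff (i : X ⟶ P) [IsClosedImmersion i] (g : P ⟶ S) [LocallyOfFiniteType g] {W : P.Opens}
    (hW : IsAffineOpen W) {V : S.Opens} (hV : IsAffineOpen V) (h : W ≤ g ⁻¹ᵁ V) (m : ℤ) (K : DCoh.D X) :
    Good (i ≫ g) m K (i ⁻¹ᵁ W) V ↔ Good g m ((pD i).obj K) W V := by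
  obtain ⟨n, φ, hφ⟩ := exists_isChart g hW hV h
  have hU := hW.preimage i
  have hs : Function.Surjective (i.app W).hom := i.app_surjective W hW
  let φ' : MvPolynomial (Fin n) Γ(S, V) →+* Γ(X, i ⁻¹ᵁ W) := (i.app W).hom.comp φ
  have h' : i ⁻¹ᵁ W ≤ (i ≫ g) ⁻¹ᵁ V := i.preimage_mono h
  have hφ' : DerSch.IsChart (i ≫ g) (i ⁻¹ᵁ W) V h' φ' := by
    refine ⟨hs.comp hφ.1, ?_⟩
    rw [RingHom.comp_assoc, hφ.2, ← CommRingCat.hom_comp, Scheme.Hom.app_eq_appLE]
    exact congrArg CommRingCat.Hom.hom (Scheme.Hom.appLE_comp_appLE i g V W (i ⁻¹ᵁ W) h le_rfl)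
  haveI := isClosedImmersion_chartI hW hφ.1
  haveI := isClosedImmersion_chartI hU hφ'.1
  have w : chartI (i ⁻¹ᵁ W) φ' = (i ∣_ W) ≫ chartI W φ := by
    change (i ⁻¹ᵁ W).toSpecΓ ≫ Spec.map (CommRingCat.ofHom φ ≫ i.app W) = _
    rw [Spec.map_comp, ← Category.assoc, Scheme.Hom.app_eq_appLE, Scheme.Opens.toSpecΓ_SpecMap_appLE,
      Category.assoc, Scheme.Hom.resLE_eq_morphismRestrict]
  obtain ⟨c⟩ := nonempty_comp (i ∣_ W) (chartI W φ)
  obtain ⟨r⟩ := ClosedPC.nonempty_res i W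
  have key : CP (i ⁻¹ᵁ W) φ' m K ↔ CP W φ m ((pD i).obj K) := by
    constructor
    · rintro ⟨_, hp⟩
      exact ⟨inferInstance, PP.of_iso (r.app K).symm
        (isPseudoCoherentD_of_iso (c.app _) ((PP.congr w m _).1 hp))⟩
    · rintro ⟨_, hp⟩
      exact ⟨inferInstance, (PP.congr w m _).2 (isPseudoCoherentD_of_iso (c.app _).symm
        (PP.of_iso (r.app K) hp))⟩
  exact ⟨fun hG => good_of_chart g hW hφ (key.1 (hG h' n φ' hφ')),
    fun hG => good_of_chart _ hU hφ' (key.2 (hG h n φ hφ))⟩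

theorem rel_closed_iff (i : X ⟶ P) [IsClosedImmersion i] (g : P ⟶ S) [LocallyOfFiniteType g] (m : ℤ) (K : DCoh.D X) :
    DerSch.IsPseudoCoherentRel (i ≫ g) m K ↔ DerSch.IsPseudoCoherentRel g m ((pD i).obj K) := by
  constructor
  · exact fun h => rel_iff.2 fun W V hW hV hle =>
      (good_closed_iff i g hW hV hle m K).1 (good_of_rel h (hW.preimage i) hV (i.preimage_mono hle))
  · intro h
    refine rel_of_local fun x => ?_
    obtain ⟨W, V, hle, hW, hV, hx⟩ := exists_affine (i x) g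
    exact ⟨i ⁻¹ᵁ W, V, hx, hW.preimage i, hV, i.preimage_mono hle,
      (good_closed_iff i g hW hV hle m K).2 (good_of_rel h hW hV hle)⟩

end Groth.L29.RelPC
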