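import Groth.Agent.L29.RelPC.Basic

/-!
Relative pseudo-coherence and open immersions into the source.
-/

set_option autoImplicit false
set_option backward.defeqAttrib.useBackward true
set_option backward.isDefEq.respectTransparency false
set_option backward.isDefEq.respectTransparency.types false

universe u

open CategoryTheory CategoryTheory.Limits AlgebraicGeometry

attribute [local instance] HasDerivedCategory.standard

namespace Groth.L29.RelPC

open Groth.L29.DC Groth.L29.DC.ClosedPC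

attribute [local instance] ClosedPC.additive ClosedPC.exactLeft ClosedPC.exactRight

variable {U U' W : Scheme.{u}}

/-- isomorphic sources -/
theorem PP.iso_iff (i : U ⟶ W) [IsClosedImmersion i] (i' : U' ⟶ W) [IsClosedImmersion i'] (e : U' ⟶ U) [IsIso e]
    (w : i' = e ≫ i) (m : ℤ) (E : DCoh.D U) : PP i m E ↔ PP i' m ((DCoh.restrictD e).obj E) := by
  have hr : i ⁻¹ᵁ (Scheme.Hom.opensRange (𝟙 W)) ≤ e.opensRange := by
    rw [Scheme.Hom.opensRange_of_isIso e]; exact le_top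
  have hw : i' ≫ 𝟙 W = e ≫ i := by rw [Category.comp_id, w]
  exact ⟨PP.square i e (𝟙 W) i' hr hw, fun h => PP.of_cover i fun z =>
    ⟨_, _, e, 𝟙 W, inferInstance, inferInstance, i', inferInstance,
      by rw [Scheme.Hom.opensRange_of_isIso (𝟙 W)]; trivial, hr, hw, h⟩⟩

variable {X X' Y : Scheme.{u}}

theorem CP.iso {U : X.Opens} {Q : Type u} [CommRing Q] {h : Q →+* Γ(X, U)} {m : ℤ} {K L : DCoh.D X} (e : K ≅ L) :
    CP U h m K → CP U h m L :=
  fun ⟨_, hp⟩ => ⟨inferInstance, PP.of_iso ((resD U).mapIso e) hp⟩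

theorem rel_iso {f : X ⟶ Y} {m : ℤ} {K L : DCoh.D X} (e : K ≅ L) (h : DerSch.IsPseudoCoherentRel f m K) :
    DerSch.IsPseudoCoherentRel f m L :=
  haveI := h.1
  rel_iff.2 fun U V hU hV hle _ n φ hφ => (good_of_rel h hU hV hle hle n φ hφ).iso e

theorem good_comp_iff (e : X' ⟶ X) [IsOpenImmersion e] (f : X ⟶ Y) [LocallyOfFiniteType f] {U' : X'.Opens}
    (hU' : IsAffineOpen U') {V : Y.Opens} (hV : IsAffineOpen V) (h : e ''ᵁ U' ≤ f ⁻¹ᵁ V) (m : ℤ) (K : DCoh.D X) :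
    Good f m K (e ''ᵁ U') V ↔ Good (e ≫ f) m ((DCoh.restrictD e).obj K) U' V := by
  have hW := hU'.image_of_isOpenImmersion e
  obtain ⟨n, φ, hφ⟩ := exists_isChart f hW hV h
  have hle : U' ≤ e ⁻¹ᵁ (e ''ᵁ U') := (e.preimage_image_eq U').ge
  let r := e.appLE (e ''ᵁ U') U' hle
  have hr : Function.Surjective r.hom := by
    have : r = (e.appIso U').hom := (Scheme.Hom.appIso_hom' e U').symm
    rw [this]
    exact (e.appIso U').commRingCatIsoToRingEquiv.surjective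
  let φ' : MvPolynomial (Fin n) Γ(Y, V) →+* Γ(X', U') := r.hom.comp φ
  have h' : U' ≤ (e ≫ f) ⁻¹ᵁ V := hle.trans (e.preimage_mono h)
  have hφ' : DerSch.IsChart (e ≫ f) U' V h' φ' := by
    refine ⟨hr.comp hφ.1, ?_⟩
    rw [RingHom.comp_assoc, hφ.2, ← CommRingCat.hom_comp]
    exact congrArg CommRingCat.Hom.hom (Scheme.Hom.appLE_comp_appLE e f V (e ''ᵁ U') U' h hle)
  haveI := isClosedImmersion_chartI hW hφ.1
  haveI := isClosedImmersion_chartI hU' hφ'.1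
  let e' : (U' : Scheme.{u}) ⟶ (e ''ᵁ U' : X.Opens) := e.resLE (e ''ᵁ U') U' hle
  have he : e' ≫ (e ''ᵁ U').ι = U'.ι ≫ e := Scheme.Hom.resLE_comp_ι e hle
  haveI : IsOpenImmersion (e' ≫ (e ''ᵁ U').ι) := by rw [he]; infer_instance
  haveI : IsOpenImmersion e' := IsOpenImmersion.of_comp e' (e ''ᵁ U').ι
  haveI : Surjective e' := ⟨fun ⟨y, x, hx, hxy⟩ => ⟨⟨x, hx⟩, Subtype.ext
    ((congrArg (fun g : (U' : Scheme.{u}) ⟶ X => g ⟨x, hx⟩) he).trans hxy)⟩⟩
  haveI : IsIso e' := (isIso_iff_isOpenImmersion_and_surjective e').2 ⟨inferInstance, inferInstance⟩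
  have w : chartI U' φ' = e' ≫ chartI (e ''ᵁ U') φ := by
    change U'.toSpecΓ ≫ Spec.map (CommRingCat.ofHom φ ≫ r) = _
    rw [Spec.map_comp, ← Category.assoc, Scheme.Opens.toSpecΓ_SpecMap_appLE, Category.assoc]
  let t : (DCoh.restrictD e').obj ((resD (e ''ᵁ U')).obj K) ≅ (resD U').obj ((DCoh.restrictD e).obj K) :=
    (resTransD (e ''ᵁ U').ι e' (U'.ι ≫ e) he).app K ≪≫ ((resTransD e U'.ι (U'.ι ≫ e) rfl).app K).symm
  have key : CP (e ''ᵁ U') φ m K ↔ CP U' φ' m ((DCoh.restrictD e).obj K) :=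
    ⟨fun ⟨_, hp⟩ => ⟨inferInstance, PP.of_iso t ((PP.iso_iff _ _ e' w m _).1 hp)⟩,
      fun ⟨_, hp⟩ => ⟨inferInstance, (PP.iso_iff _ _ e' w m _).2 (PP.of_iso t.symm hp)⟩⟩
  exact ⟨fun hG => good_of_chart _ hU' hφ' (key.1 (hG h n φ hφ)),
    fun hG => good_of_chart f hW hφ (key.2 (hG h' n φ' hφ'))⟩

theorem rel_restrict (e : X' ⟶ X) [IsOpenImmersion e] {f : X ⟶ Y} {m : ℤ} {K : DCoh.D X}
    (h : DerSch.IsPseudoCoherentRel f m K) : DerSch.IsPseudoCoherentRel (e ≫ f) m ((DCoh.restrictD e).obj K) := by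
  haveI := h.1
  refine rel_iff.2 fun U V hU hV hle => ?_
  have h' : e ''ᵁ U ≤ f ⁻¹ᵁ V := by
    rintro _ ⟨x, hx, rfl⟩
    exact hle hx
  exact (good_comp_iff e f hU hV h' m K).1 (good_of_rel h (hU.image_of_isOpenImmersion e) hV h')

theorem rel_of_openCover {f : X ⟶ Y} [LocallyOfFiniteType f] {m : ℤ} {K : DCoh.D X}
    (h : ∀ x : X, ∃ (X' : Scheme.{u}) (e : X' ⟶ X) (_ : IsOpenImmersion e), x ∈ e.opensRange ∧
      DerSch.IsPseudoCoherentRel (e ≫ f) m ((DCoh.restrictD e).obj K)) : DerSch.IsPseudoCoherentRel f m K := by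
  refine rel_of_local fun x => ?_
  obtain ⟨X', e, _, ⟨x', rfl⟩, hr⟩ := h x
  haveI := hr.1
  obtain ⟨U, V, hx, hU, hV, hle, hG⟩ := exists_good hr x'
  have h' : e ''ᵁ U ≤ f ⁻¹ᵁ V := by
    rintro _ ⟨y, hy, rfl⟩
    exact hle hy
  exact ⟨_, V, Set.mem_image_of_mem e hx, hU.image_of_isOpenImmersion e, hV, h', (good_comp_iff e f hU hV h' m K).2 hG⟩

end Groth.L29.RelPC
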