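import Groth.Agent.L29.RelPC.BCRel
import Groth.Agent.L29.RelPC.Open
import Groth.Agent.L29.LocFree
import Mathlib.AlgebraicGeometry.Morphisms.Descent

/-!
Relative pseudo-coherence: flat base change and descent along faithfully flat quasi-compact base change.
-/

set_option autoImplicit false
set_option backward.defeqAttrib.useBackward true
set_option backward.isDefEq.respectTransparency false
set_option backward.isDefEq.respectTransparency.types false

universe u

open CategoryTheory CategoryTheory.Limits AlgebraicGeometry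

attribute [local instance] HasDerivedCategory.standard

namespace Groth.L29.RelPC

open Groth.L29.DC

variable {X Y X' Y' : Scheme.{u}} {f : X ⟶ Y} {f' : X' ⟶ Y'} {g' : X' ⟶ X} {g : Y' ⟶ Y}

theorem rel_baseChange (hc : IsPullback g' f' f g) [Flat g] [DCoh.HasLpull g'] {m : ℤ} {K : DCoh.D X}
    (hK : DerSch.IsPseudoCoherentRel f m K) : DerSch.IsPseudoCoherentRel f' m ((DCoh.Lpull g').obj K) := by
  haveI := hK.1
  haveI : LocallyOfFiniteType f' := MorphismProperty.of_isPullback hc inferInstance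
  refine rel_of_local fun x' => ?_
  obtain ⟨_, ⟨W, hW, rfl⟩, hxW, -⟩ :=
    Y.isBasis_affineOpens.exists_subset_of_mem_open (Set.mem_univ (f (g' x'))) isOpen_univ
  obtain ⟨_, ⟨V, hV, rfl⟩, hxV, hVW⟩ :=
    X.isBasis_affineOpens.exists_subset_of_mem_open (a := g' x') (show g' x' ∈ f ⁻¹ᵁ W from hxW) (f ⁻¹ᵁ W).2
  have hxW' : f' x' ∈ g ⁻¹ᵁ W := by
    show g (f' x') ∈ W
    rw [← Scheme.Hom.comp_apply, ← hc.w, Scheme.Hom.comp_apply]
    exact hxW
  obtain ⟨_, ⟨W', hW', rfl⟩, hxW'', hW'W⟩ :=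
    Y'.isBasis_affineOpens.exists_subset_of_mem_open hxW' (g ⁻¹ᵁ W).2
  exact ⟨g' ⁻¹ᵁ V ⊓ f' ⁻¹ᵁ W', W', ⟨hxV, hxW''⟩, (exists_square hc hW hV hW' hVW hW'W).1, hW', inf_le_right,
    (good_square hc hW hV hW' hVW hW'W m K).1 (good_of_rel hK hV hW hVW)⟩

theorem rel_descends (hc : IsPullback g' f' f g) [Flat g] [Surjective g] [QuasiCompact g] [LocallyOfFiniteType f]
    [DCoh.HasLpull g'] {m : ℤ} {K : DCoh.D X} (hK : DerSch.IsPseudoCoherentRel f' m ((DCoh.Lpull g').obj K)) :
    DerSch.IsPseudoCoherentRel f m K := by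
  haveI : LocallyOfFiniteType f' := MorphismProperty.of_isPullback hc inferInstance
  refine rel_iff.2 fun U V hU hV hle => ?_
  haveI : CompactSpace (g ⁻¹ᵁ V : Scheme.{u}) :=
    isCompact_iff_compactSpace.1 (g.isCompact_preimage hV.isCompact)
  obtain ⟨T, p, hsurj, hp, hT⟩ := (g ⁻¹ᵁ V : Scheme.{u}).exists_hom_isAffine_of_isZariskiLocalAtSource @Flat
  haveI := hp
  let q := p ≫ (g ⁻¹ᵁ V).ι
  have hc2 := IsPullback.of_hasPullback f' q
  have hc'' : IsPullback (pullback.fst f' q ≫ g') (pullback.snd f' q) f (q ≫ g) := hc2.paste_horiz hc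
  haveI := Groth.L00.KFlat.hasLpull (pullback.fst f' q)
  haveI := Groth.L00.KFlat.hasLpull (pullback.fst f' q ≫ g')
  obtain ⟨e⟩ := Groth.L00.DerivedApi.lpull_comp (pullback.fst f' q) g'
  have hK2 : DerSch.IsPseudoCoherentRel (pullback.snd f' q) m ((DCoh.Lpull (pullback.fst f' q ≫ g')).obj K) :=
    rel_iso (e.app K) (rel_baseChange hc2 hK)
  haveI := hK2.1
  have eW : (⊤ : T.Opens) ≤ (q ≫ g) ⁻¹ᵁ V := fun t _ => (p t).2
  refine (good_square hc'' hV hU (isAffineOpen_top T) hle eW m K).2 ?_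
    (good_of_rel hK2 (exists_square hc'' hV hU (isAffineOpen_top T) hle eW).1 (isAffineOpen_top T) inf_le_right)
  intro y hy
  obtain ⟨z, rfl⟩ := g.surjective y
  obtain ⟨t, ht⟩ := hsurj.surj ⟨z, hy⟩
  exact ⟨t, trivial, congrArg (fun w => g ((g ⁻¹ᵁ V).ι w)) ht⟩

theorem nonempty_Lpull_unit (g : X' ⟶ X) [Flat g] [DCoh.HasLpull g] :
    Nonempty ((DCoh.Lpull g).obj (DCoh.inD X (Coh.structureModule X)) ≅ DCoh.inD X' (Coh.structureModule X')) := by
  haveI := additive_pullback g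
  haveI := preservesFiniteColimits_pullback g
  haveI := preservesFiniteLimits_pullback g
  obtain ⟨a⟩ := nonempty_Lpull_flat g (DCoh.inD X (Coh.structureModule X))
  exact ⟨a ≪≫ ((Scheme.Modules.pullback g).mapDerivedCategorySingleFunctor 0).app _ ≪≫
    (DerivedCategory.singleFunctor _ 0).mapIso (Groth.L29.LocFree.pullbackUnitIso g)⟩

theorem nPC_descends (hc : IsPullback g' f' f g) [Flat g] [Surjective g] [QuasiCompact g] [LocallyOfFiniteType f]
    {m : ℤ} (hf : DerSch.IsNPseudoCoherent f' m) : DerSch.IsNPseudoCoherent f m := by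
  haveI := Groth.L00.KFlat.hasLpull g'
  haveI : Flat g' := MorphismProperty.of_isPullback hc.flip inferInstance
  obtain ⟨e⟩ := nonempty_Lpull_unit g'
  exact (unit_pc_iff m).2 (rel_descends hc (rel_iso e.symm ((unit_pc_iff m).1 hf)))

end Groth.L29.RelPC
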