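import Groth.Agent.L17.ClosedPush
import Groth.Agent.L29.DCoh.PullTensor
import Groth.Agent.L29.DCoh.PushTilde
import Groth.Agent.L18.TildeFunctor
import Groth.Agent.L10.RelPC.BC
import Groth.Agent.L29.DCoh.PCDescent

/-!
Pullback commutes with direct image along closed immersions of affine schemes.
-/

set_option autoImplicit false
set_option backward.defeqAttrib.useBackward true
set_option backward.isDefEq.respectTransparency false
set_option backward.isDefEq.respectTransparency.types false

universe u

open CategoryTheory CategoryTheory.Limits AlgebraicGeometry MonoidalCategory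

namespace Groth.L29.RelPC

open Groth.L17.ClosedPush Groth.L00.Tensor

section Scheme

variable {X Y : Scheme.{u}} (f : X ⟶ Y)

/-- tensor with the structure sheaf of a closed subscheme -/
noncomputable def pullPushIso [IsClosedImmersion f] :
    tensorRightF ((Scheme.Modules.pushforward f).obj (Coh.structureModule X)) ≅
      Scheme.Modules.pullback f ⋙ Scheme.Modules.pushforward f :=
  thetaIso f (Coh.structureModule X) ≪≫ Functor.isoWhiskerLeft _ (Functor.isoWhiskerRight
    (NatIso.ofComponents (fun N => tensorUnitRight N) (fun {N N'} g => by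
      refine ((Category.assoc _ _ _).symm.trans ?_).trans (Category.assoc _ _ _).symm
      have h1 : tensorMap g (𝟙 (Coh.structureModule X)) ≫ (shf X).map (ρ_ (pre N')).hom =
          (shf X).map (ρ_ (pre N)).hom ≫ (shf X).map ((preF X).map g) := by
        rw [tensorMap, ← Functor.map_comp, ← Functor.map_comp]
        refine congrArg (shf X).map ?_
        refine ((congrArg (fun k => ((preF X).map g ⊗ₘ k) ≫ (ρ_ (pre N')).hom) ((preF X).map_id _)).trans ?_)
        exact (congrArg (· ≫ (ρ_ (pre N')).hom) (MonoidalCategory.tensorHom_id _ _)).trans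
          (MonoidalCategory.rightUnitor_naturality ((preF X).map g))
      refine ((congrArg (· ≫ (counitIso N').hom) h1).trans ?_)
      refine (Category.assoc _ _ _).trans ?_
      exact congrArg ((shf X).map (ρ_ (pre N)).hom ≫ ·)
        ((shAdj X).counit.naturality g)) :
      tensorRightF (Coh.structureModule X) ≅ 𝟭 _) _) ≪≫
    Functor.isoWhiskerLeft _ (Functor.leftUnitor _)

/-- pullback of tensoring with a fixed module -/
noncomputable def pullTensorRight (N : Y.Modules) :
    tensorRightF N ⋙ Scheme.Modules.pullback f ≅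
      Scheme.Modules.pullback f ⋙ tensorRightF ((Scheme.Modules.pullback f).obj N) :=
  (NatIso.ofComponents (fun M => Groth.L29.DC.PullTensor.pullTensor f M N) (fun {M M'} g => by
    have h := Groth.L29.DC.PullTensor.pullTensor_natural f g (𝟙 N)
    rw [CategoryTheory.Functor.map_id] at h
    exact h)).symm

/-- an isomorphism of fixed factors -/
noncomputable def tensorRightMap {N N' : X.Modules} (e : N ≅ N') : tensorRightF N ≅ tensorRightF N' :=
  NatIso.ofComponents (fun M =>
    { hom := tensorMap (𝟙 M) e.hom
      inv := tensorMap (𝟙 M) e.inv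
      hom_inv_id := by rw [← tensorMap_comp, Category.comp_id, e.hom_inv_id, tensorMap_id]; rfl
      inv_hom_id := by rw [← tensorMap_comp, Category.comp_id, e.inv_hom_id, tensorMap_id]; rfl })
    (fun {M M'} g => by
      show tensorMap g (𝟙 N) ≫ tensorMap (𝟙 M') e.hom = tensorMap (𝟙 M) e.hom ≫ tensorMap g (𝟙 N')
      rw [← tensorMap_comp, ← tensorMap_comp, Category.id_comp, Category.comp_id, Category.id_comp, Category.comp_id])

variable {X' Y' : Scheme.{u}} {i : X ⟶ Y} {i' : X' ⟶ Y'} {ψ : X' ⟶ X} {h : Y' ⟶ Y}

/-- the base change isomorphism, given it on the structure sheaf -/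
noncomputable def pushPullIso [IsClosedImmersion i] [IsClosedImmersion i'] (w : i' ≫ h = ψ ≫ i)
    (e : (Scheme.Modules.pullback h).obj ((Scheme.Modules.pushforward i).obj (Coh.structureModule X)) ≅
      (Scheme.Modules.pushforward i').obj (Coh.structureModule X')) :
    Scheme.Modules.pullback ψ ⋙ Scheme.Modules.pushforward i' ≅
      Scheme.Modules.pushforward i ⋙ Scheme.Modules.pullback h :=
  let pi := Scheme.Modules.pushforward i
  let qi := Scheme.Modules.pullback i
  let pi' := Scheme.Modules.pushforward i'
  let qi' := Scheme.Modules.pullback i'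
  let qh := Scheme.Modules.pullback h
  let qψ := Scheme.Modules.pullback ψ
  haveI := Groth.L17.ClosedPush.isIso_counit i
  let c : pi ⋙ qi ≅ 𝟭 _ := asIso (Scheme.Modules.pullbackPushforwardAdjunction i).counit
  let sw : qi ⋙ qψ ≅ qh ⋙ qi' :=
    Scheme.Modules.pullbackComp ψ i ≪≫ Scheme.Modules.pullbackCongr w.symm ≪≫ (Scheme.Modules.pullbackComp i' h).symm
  (Functor.leftUnitor _).symm ≪≫ Functor.isoWhiskerRight c.symm (qψ ⋙ pi') ≪≫
    Functor.associator _ _ _ ≪≫ Functor.isoWhiskerLeft pi ((Functor.associator _ _ _).symm ≪≫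
      Functor.isoWhiskerRight sw pi' ≪≫ Functor.associator _ _ _ ≪≫
      Functor.isoWhiskerLeft qh ((pullPushIso i').symm ≪≫ tensorRightMap e.symm) ≪≫
      (pullTensorRight h (pi.obj (Coh.structureModule X))).symm ≪≫
      Functor.isoWhiskerRight (pullPushIso i) qh) ≪≫
    Functor.isoWhiskerLeft pi (Functor.associator _ _ _) ≪≫ (Functor.associator _ _ _).symm ≪≫
    Functor.isoWhiskerRight c (pi ⋙ qh) ≪≫ Functor.leftUnitor _

end Scheme

section Ring

variable (P P' B B' : Type u) [CommRing P] [CommRing P'] [CommRing B] [CommRing B'] [Algebra P P'] [Algebra P B]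
  [Algebra P' B'] [Algebra B B'] [Algebra P B'] [IsScalarTower P P' B'] [IsScalarTower P B B']
  [Algebra.IsPushout P P' B B']

/-- base change of the structure sheaf of a closed subscheme -/
noncomputable def pushPullUnit :
    (Scheme.Modules.pullback (Spec.map (CommRingCat.ofHom (algebraMap P P')))).obj
        ((Scheme.Modules.pushforward (Spec.map (CommRingCat.ofHom (algebraMap P B)))).obj
          (Coh.structureModule (Spec (CommRingCat.of B)))) ≅
      (Scheme.Modules.pushforward (Spec.map (CommRingCat.ofHom (algebraMap P' B')))).obj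
        (Coh.structureModule (Spec (CommRingCat.of B'))) :=
  let R := CommRingCat.of P
  let R' := CommRingCat.of P'
  let σ : R ⟶ R' := CommRingCat.ofHom (algebraMap P P')
  let φ : R ⟶ CommRingCat.of B := CommRingCat.ofHom (algebraMap P B)
  let φ' : R' ⟶ CommRingCat.of B' := CommRingCat.ofHom (algebraMap P' B')
  let eM : (ModuleCat.extendScalars.{u, u, u} (algebraMap B B')).obj (ModuleCat.of B B) ≅ ModuleCat.of B' B' :=
    ((Groth.L29.FlatBC.extEquiv B B' (ModuleCat.of B B)).trans
      (Algebra.TensorProduct.rid B B' B').toLinearEquiv).toModuleIso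
  let T := tilde.functor R'
  (Scheme.Modules.pullback (Spec.map σ)).mapIso
      ((Scheme.Modules.pushforward (Spec.map φ)).mapIso tildeSelf.symm ≪≫
        (Groth.L29.DC.PushTilde.pushTildeIso φ).app _) ≪≫
    (Groth.L18.TildeF.pullbackTildeIso σ).app _ ≪≫
    T.mapIso (Groth.L10.RelPC.extResApp P P' B B' (ModuleCat.of B B) ≪≫
      (ModuleCat.restrictScalars φ'.hom).mapIso eM) ≪≫
    ((Groth.L29.DC.PushTilde.pushTildeIso φ').app _).symm ≪≫
    (Scheme.Modules.pushforward (Spec.map φ')).mapIso tildeSelf

end Ring

end Groth.L29.RelPC
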