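import Groth.Agent.L29.RelPC.BaseChange
import Groth.Agent.L29.RelPC.FlatPull
import Groth.Agent.L29.RelPC.PushPull
import Groth.Agent.L29.DCoh.PCDescent
import Groth.Agent.L29.DCoh.QCohLocal
import Groth.Agent.L20.ModPullback
import Mathlib.RingTheory.Flat.FaithfullyFlat.Algebra
import Mathlib.AlgebraicGeometry.Morphisms.Flat

/-!
Relative pseudo-coherence on a chart and flat base change, in both directions.
-/

set_option autoImplicit false
set_option backward.defeqAttrib.useBackward true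
set_option backward.isDefEq.respectTransparency false
set_option backward.isDefEq.respectTransparency.types false

universe u

open CategoryTheory CategoryTheory.Limits AlgebraicGeometry TensorProduct

attribute [local instance] HasDerivedCategory.standard

namespace Groth.L29.RelPC

open Groth.L29.DC Groth.L29.DC.ClosedPC

attribute [local instance] ClosedPC.additive ClosedPC.exactLeft ClosedPC.exactRight

/-- affine piece of a cartesian square -/
theorem exists_square {X S X' S' : Scheme.{u}} {f : X ⟶ S} {f' : X' ⟶ S'} {g' : X' ⟶ X} {g : S' ⟶ S}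
    (hc : IsPullback g' f' f g) {W : S.Opens} {V : X.Opens} {W' : S'.Opens} (hW : IsAffineOpen W)
    (hV : IsAffineOpen V) (hW' : IsAffineOpen W') (eV : V ≤ f ⁻¹ᵁ W) (eW : W' ≤ g ⁻¹ᵁ W) :
    IsAffineOpen (g' ⁻¹ᵁ V ⊓ f' ⁻¹ᵁ W') ∧ IsPushout (f.appLE W V eV) (g.appLE W W' eW)
      (g'.appLE V (g' ⁻¹ᵁ V ⊓ f' ⁻¹ᵁ W') inf_le_left) (f'.appLE W' (g' ⁻¹ᵁ V ⊓ f' ⁻¹ᵁ W') inf_le_right) := by
  have hpb := Scheme.Hom.isPullback_resLE hc (UT := W') eW eV (UY := g' ⁻¹ᵁ V ⊓ f' ⁻¹ᵁ W') rfl
  haveI : IsAffine W.toScheme := hW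
  haveI : IsAffine V.toScheme := hV
  haveI : IsAffine W'.toScheme := hW'
  have hU : IsAffineOpen (g' ⁻¹ᵁ V ⊓ f' ⁻¹ᵁ W') := IsAffine.of_isPullback hpb
  refine ⟨hU, ?_⟩
  refine (isPushout_appTop_of_isPullback hpb).of_iso W.topIso V.topIso W'.topIso
    (g' ⁻¹ᵁ V ⊓ f' ⁻¹ᵁ W').topIso ?_ ?_ ?_ ?_ <;>
  simp only [Scheme.Hom.appTop, Scheme.Hom.resLE_app_top, Category.assoc, Iso.inv_hom_id, Category.comp_id]

section Spec

variable (P P' B B' : Type u) [CommRing P] [CommRing P'] [CommRing B] [CommRing B'] [Algebra P P'] [Algebra P B]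
  [Algebra P' B'] [Algebra B B'] [Algebra P B'] [IsScalarTower P P' B'] [IsScalarTower P B B']
  [Algebra.IsPushout P P' B B']

theorem pushPull_w :
    Spec.map (CommRingCat.ofHom (algebraMap P' B')) ≫ Spec.map (CommRingCat.ofHom (algebraMap P P')) =
      Spec.map (CommRingCat.ofHom (algebraMap B B')) ≫ Spec.map (CommRingCat.ofHom (algebraMap P B)) := by
  rw [← Spec.map_comp, ← Spec.map_comp, ← CommRingCat.ofHom_comp, ← CommRingCat.ofHom_comp,
    ← IsScalarTower.algebraMap_eq, ← IsScalarTower.algebraMap_eq]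

variable [Module.Flat P P'] [IsClosedImmersion (Spec.map (CommRingCat.ofHom (algebraMap P B)))]
  [IsClosedImmersion (Spec.map (CommRingCat.ofHom (algebraMap P' B')))]
  [DCoh.HasLpull (Spec.map (CommRingCat.ofHom (algebraMap P P')))]
  [DCoh.HasLpull (Spec.map (CommRingCat.ofHom (algebraMap B B')))]

/-- derived flat base change along a closed immersion of affine schemes -/
theorem nonempty_pD_Lpull (L : DCoh.D (Spec (CommRingCat.of B))) :
    Nonempty ((DCoh.Lpull (Spec.map (CommRingCat.ofHom (algebraMap P P')))).obj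
        ((pD (Spec.map (CommRingCat.ofHom (algebraMap P B)))).obj L) ≅
      (pD (Spec.map (CommRingCat.ofHom (algebraMap P' B')))).obj
        ((DCoh.Lpull (Spec.map (CommRingCat.ofHom (algebraMap B B')))).obj L)) := by
  let h := Spec.map (CommRingCat.ofHom (algebraMap P P'))
  let ψ := Spec.map (CommRingCat.ofHom (algebraMap B B'))
  haveI : Flat h := Flat.SpecMap_iff.2 (RingHom.flat_algebraMap_iff.2 inferInstance)
  haveI : Module.Flat B B' := Module.Flat.isBaseChange P B P' B'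
    (Algebra.IsPushout.symm (inferInstance : Algebra.IsPushout P P' B B')).out
  haveI : Flat ψ := Flat.SpecMap_iff.2 (RingHom.flat_algebraMap_iff.2 inferInstance)
  haveI := additive_pullback h
  haveI := preservesFiniteColimits_pullback h
  haveI := preservesFiniteLimits_pullback h
  haveI := additive_pullback ψ
  haveI := preservesFiniteColimits_pullback ψ
  haveI := preservesFiniteLimits_pullback ψ
  obtain ⟨a⟩ := nonempty_Lpull_flat h ((pD (Spec.map (CommRingCat.ofHom (algebraMap P B)))).obj L)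
  obtain ⟨b⟩ := nonempty_Lpull_flat ψ L
  exact ⟨a ≪≫ (Groth.L09.DerivedRetract.compIso _ _ ≪≫
    Groth.L09.DerivedRetract.natIso (pushPullIso (pushPull_w P P' B B') (pushPullUnit P P' B B')).symm ≪≫
    (Groth.L09.DerivedRetract.compIso _ _).symm).app L ≪≫
    (pD (Spec.map (CommRingCat.ofHom (algebraMap P' B')))).mapIso b.symm⟩

theorem pc_push_bc {m : ℤ} {L : DCoh.D (Spec (CommRingCat.of B))}
    (h : DCoh.IsPseudoCoherentD m ((pD (Spec.map (CommRingCat.ofHom (algebraMap P B)))).obj L)) :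
    DCoh.IsPseudoCoherentD m ((pD (Spec.map (CommRingCat.ofHom (algebraMap P' B')))).obj
      ((DCoh.Lpull (Spec.map (CommRingCat.ofHom (algebraMap B B')))).obj L)) :=
  isPseudoCoherentD_of_iso (nonempty_pD_Lpull P P' B B' L).some
    (isPseudoCoherentD_Lpull _ h)

theorem pc_push_descends [Module.FaithfullyFlat P P'] {m : ℤ} {L : DCoh.D (Spec (CommRingCat.of B))}
    (h : DCoh.IsPseudoCoherentD m ((pD (Spec.map (CommRingCat.ofHom (algebraMap P' B')))).obj
      ((DCoh.Lpull (Spec.map (CommRingCat.ofHom (algebraMap B B')))).obj L))) :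
    DCoh.IsPseudoCoherentD m ((pD (Spec.map (CommRingCat.ofHom (algebraMap P B)))).obj L) := by
  haveI : Flat (Spec.map (CommRingCat.ofHom (algebraMap P P'))) :=
    Flat.SpecMap_iff.2 (RingHom.flat_algebraMap_iff.2 inferInstance)
  haveI : Surjective (Spec.map (CommRingCat.ofHom (algebraMap P P'))) :=
    ⟨PrimeSpectrum.comap_surjective_of_faithfullyFlat⟩
  exact PCDesc.pc_descends _ (AlgebraicGeometry.Flat.isQuotientMap_of_surjective _)
    (isPseudoCoherentD_of_iso (nonempty_pD_Lpull P P' B B' L).some.symm h)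

end Spec

variable {X Y : Scheme.{u}}

/-- a chart read on the spectrum -/
theorem CP.iff_spec {U : X.Opens} (hU : IsAffineOpen U) {Q : Type u} [CommRing Q] {h : Q →+* Γ(X, U)}
    (hh : Function.Surjective h) [IsClosedImmersion (Spec.map (CommRingCat.ofHom h))] (m : ℤ) (K : DCoh.D X) :
    CP U h m K ↔ DCoh.IsPseudoCoherentD m
      ((pD (Spec.map (CommRingCat.ofHom h))).obj ((DCoh.restrictD hU.fromSpec).obj K)) := by
  haveI := isClosedImmersion_toSpecΓ hU
  haveI := isClosedImmersion_chartI hU hh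
  obtain ⟨c⟩ := nonempty_comp U.toSpecΓ (Spec.map (CommRingCat.ofHom h))
  obtain ⟨d⟩ := nonempty_fromSpec hU K
  let t := c.app ((resD U).obj K) ≪≫ (pD (Spec.map (CommRingCat.ofHom h))).mapIso d
  exact ⟨fun ⟨_, hp⟩ => isPseudoCoherentD_of_iso t hp,
    fun hp => ⟨inferInstance, isPseudoCoherentD_of_iso t.symm hp⟩⟩

/-- derived pullback read on affine opens -/
theorem nonempty_restrict_chart {X' : Scheme.{u}} (g : X' ⟶ X) [DCoh.HasLpull g] {U : X.Opens}
    (hU : IsAffineOpen U) {U' : X'.Opens} (hU' : IsAffineOpen U') (e : U' ≤ g ⁻¹ᵁ U)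
    [DCoh.HasLpull (Spec.map (g.appLE U U' e))] (K : DCoh.D X) :
    Nonempty ((DCoh.Lpull (Spec.map (g.appLE U U' e))).obj ((DCoh.restrictD hU.fromSpec).obj K) ≅
      (DCoh.restrictD hU'.fromSpec).obj ((DCoh.Lpull g).obj K)) := by
  let i := hU'.fromSpec
  let j := hU.fromSpec
  let φ := g.appLE U U' e
  have hc : Spec.map φ ≫ j = i ≫ g := IsAffineOpen.SpecMap_appLE_fromSpec g hU hU' e
  haveI := Groth.L00.KFlat.hasLpull i
  haveI := Groth.L00.KFlat.hasLpull j
  haveI := Groth.L00.KFlat.hasLpull (i ≫ g)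
  haveI := Groth.L00.KFlat.hasLpull (Spec.map φ ≫ j)
  obtain ⟨e₁⟩ := nonempty_Lpull_iso_restrictD i ((DCoh.Lpull g).obj K)
  obtain ⟨e₂⟩ := Groth.L00.DerivedApi.lpull_comp i g
  obtain ⟨e₃⟩ := Groth.L00.DerivedApi.lpull_comp (Spec.map φ) j
  obtain ⟨e₄⟩ := nonempty_Lpull_iso_restrictD j K
  exact ⟨(DCoh.Lpull (Spec.map φ)).mapIso e₄.symm ≪≫ e₃.app K ≪≫ eqToIso (by congr 2) ≪≫ (e₂.app K).symm ≪≫ e₁⟩

variable {X' Y' : Scheme.{u}} {f : X ⟶ Y} {f' : X' ⟶ Y'} {g' : X' ⟶ X} {g : Y' ⟶ Y}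

/-- flat base change on an affine piece, both directions -/
theorem good_square (hc : IsPullback g' f' f g) [Flat g] [LocallyOfFiniteType f] [LocallyOfFiniteType f']
    [DCoh.HasLpull g'] {W : Y.Opens} {V : X.Opens} {W' : Y'.Opens} (hW : IsAffineOpen W) (hV : IsAffineOpen V)
    (hW' : IsAffineOpen W') (eV : V ≤ f ⁻¹ᵁ W) (eW : W' ≤ g ⁻¹ᵁ W) (m : ℤ) (K : DCoh.D X) :
    (Good f m K V W → Good f' m ((DCoh.Lpull g').obj K) (g' ⁻¹ᵁ V ⊓ f' ⁻¹ᵁ W') W') ∧
      ((W : Set Y) ⊆ g '' W' → Good f' m ((DCoh.Lpull g').obj K) (g' ⁻¹ᵁ V ⊓ f' ⁻¹ᵁ W') W' → Good f m K V W) := by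
  obtain ⟨hU, hp⟩ := exists_square hc hW hV hW' eV eW
  let U := g' ⁻¹ᵁ V ⊓ f' ⁻¹ᵁ W'
  have eU : U ≤ g' ⁻¹ᵁ V := inf_le_left
  have eU' : U ≤ f' ⁻¹ᵁ W' := inf_le_right
  obtain ⟨n, φ, hφ⟩ := exists_isChart f hV hW eV
  letI : Algebra Γ(Y, W) Γ(X, V) := (f.appLE W V eV).hom.toAlgebra
  letI : Algebra Γ(Y, W) Γ(Y', W') := (g.appLE W W' eW).hom.toAlgebra
  letI : Algebra Γ(Y', W') Γ(X', U) := (f'.appLE W' U eU').hom.toAlgebra
  letI : Algebra Γ(X, V) Γ(X', U) := (g'.appLE V U eU).hom.toAlgebra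
  letI : Algebra Γ(Y, W) Γ(X', U) := ((f.appLE W V eV) ≫ g'.appLE V U eU).hom.toAlgebra
  haveI : IsScalarTower Γ(Y, W) Γ(X, V) Γ(X', U) := IsScalarTower.of_algebraMap_eq fun _ => rfl
  haveI : IsScalarTower Γ(Y, W) Γ(Y', W') Γ(X', U) :=
    IsScalarTower.of_algebraMap_eq fun r => ConcreteCategory.congr_hom hp.w r
  haveI : Algebra.IsPushout Γ(Y, W) Γ(Y', W') Γ(X, V) Γ(X', U) := CommRingCat.isPushout_iff_isPushout.1 hp.flip
  haveI : Module.Flat Γ(Y, W) Γ(Y', W') := g.flat_appLE hW hW' eW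
  let A := Γ(Y, W)
  let A' := Γ(Y', W')
  let B := Γ(X, V)
  let B' := Γ(X', U)
  let α : MvPolynomial (Fin n) A →ₐ[A] B := { φ with commutes' := fun r => RingHom.congr_fun hφ.2 r }
  let φ' : MvPolynomial (Fin n) A' →ₐ[A'] B' := MvPolynomial.aeval fun i => algebraMap B B' (α (MvPolynomial.X i))
  let P := MvPolynomial (Fin n) A
  let P' := MvPolynomial (Fin n) A'
  letI : Algebra P B := α.toRingHom.toAlgebra
  letI : Algebra P' B' := φ'.toRingHom.toAlgebra
  letI : Algebra P B' := ((algebraMap B B').comp α.toRingHom).toAlgebra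
  letI : Algebra P P' := MvPolynomial.algebraMvPolynomial
  haveI : IsScalarTower A P B := IsScalarTower.of_algebraMap_eq fun r => (α.commutes r).symm
  haveI : IsScalarTower A' P' B' := IsScalarTower.of_algebraMap_eq fun r => (φ'.commutes r).symm
  haveI : IsScalarTower P B B' := IsScalarTower.of_algebraMap_eq fun _ => rfl
  haveI : IsScalarTower P P' B' := IsScalarTower.of_algebraMap_eq' (MvPolynomial.ringHom_ext
    (fun r => by
      change algebraMap B B' (α (MvPolynomial.C r)) = φ' (MvPolynomial.map (algebraMap A A') (MvPolynomial.C r))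
      rw [MvPolynomial.map_C]
      simp only [φ', MvPolynomial.aeval_C]
      rw [show α (MvPolynomial.C r) = algebraMap A B r from α.commutes r, ← IsScalarTower.algebraMap_apply A B B',
        ← IsScalarTower.algebraMap_apply A A' B'])
    (fun i => by
      change algebraMap B B' (α (MvPolynomial.X i)) = φ' (MvPolynomial.map (algebraMap A A') (MvPolynomial.X i))
      simp [φ']))
  haveI : IsScalarTower A P B' := IsScalarTower.of_algebraMap_eq fun r => by
    change _ = algebraMap B B' (α (algebraMap A P r))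
    rw [α.commutes, ← IsScalarTower.algebraMap_apply]
  haveI : IsScalarTower A P' B' := IsScalarTower.of_algebraMap_eq fun r => by
    rw [IsScalarTower.algebraMap_apply A A' P', ← IsScalarTower.algebraMap_apply A' P' B',
      ← IsScalarTower.algebraMap_apply A A' B']
  haveI hPA : Algebra.IsPushout A P A' P' := inferInstance
  haveI hPP : Algebra.IsPushout P P' B B' :=
    ((Algebra.IsPushout.comp_iff (R := A) (S := P) (R' := A') (S' := P') (T := B) (T' := B')).1
      (Algebra.IsPushout.symm inferInstance)).symm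
  haveI : Module.Flat P P' := Module.Flat.isBaseChange A P A' P' hPA.out
  have hs' : Function.Surjective φ' := fun b => by
    refine Subalgebra.mem_toSubmodule (S := φ'.range) |>.1 ?_
    refine (Algebra.IsPushout.out (R := A) (S := A') (R' := B) (S' := B')).inductionOn b _ ?_ ?_ ?_ ?_
    · exact zero_mem _
    · intro x
      obtain ⟨q, rfl⟩ := hφ.1 x
      exact ⟨MvPolynomial.map (algebraMap A A') q, (IsScalarTower.algebraMap_apply P P' B' q).symm.trans
        (IsScalarTower.algebraMap_apply P B B' q)⟩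
    · exact fun a x hx => Submodule.smul_mem _ a hx
    · exact fun x y hx hy => add_mem hx hy
  have hφ' : DerSch.IsChart f' U W' eU' φ'.toRingHom := ⟨hs', RingHom.ext fun r => φ'.commutes r⟩
  haveI : IsClosedImmersion (Spec.map (CommRingCat.ofHom (algebraMap P B))) :=
    IsClosedImmersion.spec_of_surjective _ hφ.1
  haveI : IsClosedImmersion (Spec.map (CommRingCat.ofHom (algebraMap P' B'))) :=
    IsClosedImmersion.spec_of_surjective _ hs'
  haveI := Groth.L00.KFlat.hasLpull (Spec.map (CommRingCat.ofHom (algebraMap P P')))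
  haveI := Groth.L00.KFlat.hasLpull (Spec.map (CommRingCat.ofHom (algebraMap B B')))
  haveI : DCoh.HasLpull (Spec.map (g'.appLE V U eU)) := Groth.L00.KFlat.hasLpull _
  obtain ⟨r⟩ := nonempty_restrict_chart g' hV hU eU K
  haveI : IsClosedImmersion (Spec.map (CommRingCat.ofHom φ'.toRingHom)) := IsClosedImmersion.spec_of_surjective _ hs'
  haveI : IsClosedImmersion (Spec.map (CommRingCat.ofHom φ)) := IsClosedImmersion.spec_of_surjective _ hφ.1
  refine ⟨fun hG => ?_, fun hsurj hG => ?_⟩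
  · have h0 := (CP.iff_spec hV hφ.1 m K).1 (hG eV n φ hφ)
    refine good_of_chart f' hU (h := eU') hφ' ((CP.iff_spec hU hs' m _).2 ?_)
    exact isPseudoCoherentD_of_iso ((pD (Spec.map (CommRingCat.ofHom φ'.toRingHom))).mapIso r)
      (pc_push_bc P P' B B' h0)
  · haveI : Module.FaithfullyFlat A A' := by
      refine Module.FaithfullyFlat.of_comap_surjective fun y => ?_
      obtain ⟨t, ht, hty⟩ := hsurj (hW.range_fromSpec.le (Set.mem_range_self y) : hW.fromSpec y ∈ W)
      obtain ⟨z, rfl⟩ := hW'.range_fromSpec.ge ht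
      refine ⟨z, hW.fromSpec.isOpenEmbedding.injective ?_⟩
      rw [← hty, ← Scheme.Hom.comp_apply, ← IsAffineOpen.SpecMap_appLE_fromSpec g hW hW' eW, Scheme.Hom.comp_apply]
      rfl
    haveI : Module.FaithfullyFlat P P' :=
      haveI : Module.FaithfullyFlat P (P ⊗[A] A') := inferInstance
      Module.FaithfullyFlat.of_linearEquiv (M := P ⊗[A] A') (R := P) hPA.out.equiv.symm
    have h0 := (CP.iff_spec hU hs' m _).1 (hG eU' n φ'.toRingHom hφ')
    refine good_of_chart f hV (h := eV) hφ ((CP.iff_spec hV hφ.1 m K).2 (pc_push_descends P P' B B' ?_))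
    exact isPseudoCoherentD_of_iso ((pD (Spec.map (CommRingCat.ofHom φ'.toRingHom))).mapIso r).symm h0

end Groth.L29.RelPC
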