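import Groth.Agent.L29.RelPC.Mor
import Groth.Agent.L10.DRing.Modules
import Groth.Agent.S6985

/-!
Pseudo-coherent ring maps: towers, finite maps.
-/

set_option autoImplicit false
set_option backward.defeqAttrib.useBackward true
set_option backward.isDefEq.respectTransparency false

universe u

open CategoryTheory

attribute [local instance] HasDerivedCategory.standard

namespace Groth.L29.RelPC

open Groth.L10.RelPC

theorem finiteType_of_hom {R A : Type u} [CommRing R] [CommRing A] [Algebra R A]
    (h : MoreMor.IsPseudoCoherentHom R A) : Algebra.FiniteType R A := by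
  obtain ⟨n, φ, hs, -⟩ := h
  exact Algebra.FiniteType.iff_quotient_mvPolynomial''.2 ⟨n, φ, hs⟩

theorem hom_iff_rel {R A : Type u} [CommRing R] [CommRing A] [Algebra R A] [Algebra.FiniteType R A] :
    MoreMor.IsPseudoCoherentHom R A ↔ DerCA.IsRelPseudoCoherentModuleAll R A A := by
  constructor
  · rintro ⟨n, φ, hs, h⟩ m
    exact ⟨n, φ, hs, PCHom.pcModule' (φ := φ.toRingHom) h m⟩
  · intro h
    obtain ⟨n, φ, hs⟩ := exists_presentation R A
    exact ⟨n, φ, hs, PCHom.of_forall (φ := φ.toRingHom) fun m => (Groth.L10.RelPC.rel_iff φ hs).1 (h m)⟩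

theorem hom_tower_iff {R A B : Type u} [CommRing R] [CommRing A] [CommRing B] [Algebra R A] [Algebra A B]
    [Algebra R B] [IsScalarTower R A B] (hA : MoreMor.IsPseudoCoherentHom R A) :
    MoreMor.IsPseudoCoherentHom A B ↔ MoreMor.IsPseudoCoherentHom R B := by
  haveI := finiteType_of_hom hA
  constructor
  · intro h
    haveI := finiteType_of_hom h
    haveI : Algebra.FiniteType R B := Algebra.FiniteType.trans (S := A) inferInstance inferInstance
    exact hom_iff_rel.2 ((Groth.Agent.S6985.result (hom_iff_rel.1 hA) (Dual.inD B B) 0).2.1 (hom_iff_rel.1 h))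
  · intro h
    haveI := finiteType_of_hom h
    haveI : Algebra.FiniteType A B := Algebra.FiniteType.of_restrictScalars_finiteType R A B
    exact hom_iff_rel.2 ((Groth.Agent.S6985.result (hom_iff_rel.1 hA) (Dual.inD B B) 0).2.2 (hom_iff_rel.1 h))

theorem hom_finite_iff {A B : Type u} [CommRing A] [CommRing B] [Algebra A B] [Module.Finite A B] :
    MoreMor.IsPseudoCoherentHom A B ↔ DRing.IsPseudoCoherentModule' A B := by
  obtain ⟨n, α, hα⟩ := exists_presentation A B
  have hC : α.toRingHom.comp MvPolynomial.C = algebraMap A B := RingHom.ext fun r => α.commutes r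
  have hint : ∀ i, (α.toRingHom.comp MvPolynomial.C).IsIntegralElem (α.toRingHom (MvPolynomial.X i)) := fun i => by
    rw [hC]; exact Algebra.IsIntegral.isIntegral (R := A) (α.toRingHom (MvPolynomial.X i))
  refine Iff.trans ⟨fun h => (hom_iff_rel.1 h), fun h => hom_iff_rel.2 h⟩ ?_
  rw [← PCHom.algebraMap_iff (A := A) (B := B)]
  constructor
  · intro h
    refine PCHom.of_forall fun m => ?_
    have h2 := (Pc.poly_integral_iff n α.toRingHom hint _).1 ((Groth.L10.RelPC.rel_iff α hα).1 (h m))
    rwa [hC] at h2
  · intro h m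
    have h2 := PCHom.pcModule' h m
    rw [← hC] at h2
    exact (Groth.L10.RelPC.rel_iff α hα).2 ((Pc.poly_integral_iff n α.toRingHom hint _).2 h2)

theorem fg_ker_of_pc {P B : Type u} [CommRing P] [CommRing B] (φ : P →+* B) (hs : Function.Surjective φ)
    (h : Groth.L10.RelPC.PCHom φ) : (RingHom.ker φ).FG := by
  letI := φ.toAlgebra
  haveI : Module.FinitePresentation P B :=
    Groth.L10.DR.finitePresentation_of_pcModule (A := P) (M := B) (Groth.L02.PC.pc_of_pc' (A := P) h (-1))
  haveI : Module.Finite P P := Module.Finite.self P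
  have hk : (LinearMap.ker (Algebra.linearMap P B)).FG :=
    Module.FinitePresentation.fg_ker (Algebra.linearMap P B) hs
  exact hk

theorem finitePresentation_of_hom {A B : Type u} [CommRing A] [CommRing B] [Algebra A B]
    (h : MoreMor.IsPseudoCoherentHom A B) : Algebra.FinitePresentation A B := by
  obtain ⟨n, φ, hs, hP⟩ := h
  exact Algebra.FinitePresentation.of_surjective (f := φ) hs (fg_ker_of_pc φ.toRingHom hs hP)

end Groth.L29.RelPC
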