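import Groth.Agent.L24.Alg.FlatModel
import Mathlib.RingTheory.Spectrum.Prime.Chevalley
import Mathlib.RingTheory.Flat.FaithfullyFlat.Algebra
import Mathlib.RingTheory.FiniteType
import Mathlib.RingTheory.Polynomial.Basic

/-!
A faithfully flat algebra of finite presentation over a quotient of `P` comes from a finitely presented quotient.
-/

set_option autoImplicit false

universe u

open TensorProduct

namespace Groth.L29.Src

theorem exists_model_flat {P : Type u} (B C : Type u) [CommRing P] [CommRing B] [CommRing C] [Algebra P B]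
    (hs : Function.Surjective (algebraMap P B)) [Algebra B C] [Algebra.FinitePresentation B C] [Module.Flat B C] :
    ∃ (I : Ideal P) (_ : Algebra (P ⧸ I) B) (_ : IsScalarTower P (P ⧸ I) B) (D : Type u) (_ : CommRing D)
      (_ : Algebra (P ⧸ I) D), I.FG ∧ I ≤ RingHom.ker (algebraMap P B) ∧ Algebra.FinitePresentation (P ⧸ I) D ∧
        Module.Flat (P ⧸ I) D ∧ Nonempty (C ≃ₐ[B] B ⊗[P ⧸ I] D) := by
  obtain ⟨B₀, C₀, _, _, hfg, _, _, ⟨e⟩⟩ := Groth.L24.Alg.exists_subalgebra_fg_flat ℤ (B := B) C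
  haveI : Algebra.FiniteType ℤ B₀ := B₀.fg_iff_finiteType.1 hfg
  obtain ⟨n, f, hf⟩ := Algebra.FiniteType.iff_quotient_mvPolynomial''.1 (inferInstance : Algebra.FiniteType ℤ B₀)
  choose p hp using fun i => hs (f (MvPolynomial.X i) : B)
  let g : MvPolynomial (Fin n) ℤ →+* P := MvPolynomial.eval₂Hom (Int.castRingHom P) p
  have hcomp : (algebraMap P B).comp g = B₀.val.toRingHom.comp f.toRingHom :=
    MvPolynomial.ringHom_ext (fun r => RingHom.congr_fun (RingHom.ext_int
      (((algebraMap P B).comp g).comp MvPolynomial.C) ((B₀.val.toRingHom.comp f.toRingHom).comp MvPolynomial.C)) r)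
      fun i => by simp [g, hp]
  let I : Ideal P := (RingHom.ker f.toRingHom).map g
  have hI : I ≤ RingHom.ker (algebraMap P B) := Ideal.map_le_iff_le_comap.2 fun a ha => by
    show algebraMap P B (g a) = 0
    rw [← RingHom.comp_apply, hcomp, RingHom.comp_apply, RingHom.mem_ker.1 ha, map_zero]
  have hIfg : I.FG := Ideal.FG.map ((isNoetherianRing_iff_ideal_fg _).1 inferInstance _) g
  let σ : P ⧸ I →+* B := Ideal.Quotient.lift I (algebraMap P B) fun a ha => hI ha
  let φ : B₀ →+* P ⧸ I := f.toRingHom.liftOfSurjective hf ⟨(Ideal.Quotient.mk I).comp g, fun a ha => by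
    show Ideal.Quotient.mk I (g a) = 0
    exact Ideal.Quotient.eq_zero_iff_mem.2 (Ideal.mem_map_of_mem g ha)⟩
  letI : Algebra (P ⧸ I) B := σ.toAlgebra
  letI : Algebra B₀ (P ⧸ I) := φ.toAlgebra
  haveI : IsScalarTower P (P ⧸ I) B := IsScalarTower.of_algebraMap_eq fun _ => rfl
  haveI : IsScalarTower B₀ (P ⧸ I) B := IsScalarTower.of_algebraMap_eq fun x => by
    obtain ⟨a, rfl⟩ := hf x
    show _ = σ (φ (f.toRingHom a))
    rw [RingHom.liftOfRightInverse_comp_apply]
    exact (RingHom.congr_fun hcomp a).symm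
  exact ⟨I, inferInstance, inferInstance, (P ⧸ I) ⊗[B₀] C₀, inferInstance, inferInstance, hIfg, hI, inferInstance,
    inferInstance, ⟨e.trans (Algebra.TensorProduct.cancelBaseChange B₀ (P ⧸ I) B B C₀).symm⟩⟩

theorem exists_prime_tensor {A A' D : Type u} [CommRing A] [CommRing A'] [CommRing D] [Algebra A A'] [Algebra A D]
    (hπ : Function.Surjective (algebraMap A A')) (q : PrimeSpectrum A') (d : PrimeSpectrum D)
    (h : PrimeSpectrum.comap (algebraMap A D) d = PrimeSpectrum.comap (algebraMap A A') q) :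
    ∃ t, PrimeSpectrum.comap (algebraMap A' (A' ⊗[A] D)) t = q := by
  let κ := (Ideal.Quotient.mk d.asIdeal).comp (algebraMap A D)
  have hκ : RingHom.ker (algebraMap A A') ≤ RingHom.ker κ := fun a ha => by
    refine Ideal.Quotient.eq_zero_iff_mem.2 ?_
    show a ∈ (PrimeSpectrum.comap (algebraMap A D) d).asIdeal
    rw [h]
    show algebraMap A A' a ∈ q.asIdeal
    rw [RingHom.mem_ker.1 ha]; exact zero_mem _
  let l : A' →ₐ[A] D ⧸ d.asIdeal :=
    { (algebraMap A A').liftOfSurjective hπ ⟨κ, hκ⟩ with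
      commutes' := fun a => RingHom.liftOfRightInverse_comp_apply _ _ _ ⟨κ, hκ⟩ a }
  let r : D →ₐ[A] D ⧸ d.asIdeal := Ideal.Quotient.mkₐ A d.asIdeal
  let ev := Algebra.TensorProduct.lift l r fun _ _ => Commute.all _ _
  refine ⟨⟨RingHom.ker ev.toRingHom, RingHom.ker_isPrime _⟩, ?_⟩
  ext a'
  obtain ⟨a, rfl⟩ := hπ a'
  show ev (algebraMap A A' a ⊗ₜ[A] 1) = 0 ↔ _
  rw [Algebra.TensorProduct.lift_tmul, map_one, mul_one, l.commutes]
  show κ a = 0 ↔ _
  refine Ideal.Quotient.eq_zero_iff_mem.trans ?_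
  show a ∈ (PrimeSpectrum.comap (algebraMap A D) d).asIdeal ↔ _
  rw [h]
  rfl

/-- with a faithfully flat model -/
theorem exists_model_ff {P : Type u} (B C : Type u) [CommRing P] [CommRing B] [CommRing C] [Algebra P B]
    (hs : Function.Surjective (algebraMap P B)) [Algebra B C] [Algebra.FinitePresentation B C]
    [Module.FaithfullyFlat B C] :
    ∃ (I : Ideal P) (_ : Algebra (P ⧸ I) B) (_ : IsScalarTower P (P ⧸ I) B) (D : Type u) (_ : CommRing D)
      (_ : Algebra (P ⧸ I) D), I.FG ∧ I ≤ RingHom.ker (algebraMap P B) ∧ Algebra.FinitePresentation (P ⧸ I) D ∧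
        Module.FaithfullyFlat (P ⧸ I) D ∧ Nonempty (C ≃ₐ[B] B ⊗[P ⧸ I] D) := by
  obtain ⟨I, _, _, D, _, _, hIfg, hI, _, _, ⟨e⟩⟩ := exists_model_flat B C hs
  let U := Set.range (PrimeSpectrum.comap (algebraMap (P ⧸ I) D))
  have hU : IsOpen U := PrimeSpectrum.isOpenMap_comap_of_hasGoingDown_of_finitePresentation.isOpen_range
  obtain ⟨S, hS⟩ := (PrimeSpectrum.isClosed_iff_zeroLocus _).1 hU.isClosed_compl
  let J : Ideal P := (Ideal.span S).comap (Ideal.Quotient.mk I)
  have hBU : ∀ q : PrimeSpectrum B, PrimeSpectrum.comap (algebraMap (P ⧸ I) B) q ∈ U := fun q => by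
    obtain ⟨c, rfl⟩ := PrimeSpectrum.comap_surjective_of_faithfullyFlat (A := B) (B := C) q
    refine ⟨PrimeSpectrum.comap (e.symm.toAlgHom.toRingHom.comp
      (Algebra.TensorProduct.includeRight (R := P ⧸ I) (A := B) (B := D)).toRingHom) c, ?_⟩
    ext x
    show e.symm (Algebra.TensorProduct.includeRight (algebraMap (P ⧸ I) D x)) ∈ c.asIdeal ↔
      algebraMap B C (algebraMap (P ⧸ I) B x) ∈ c.asIdeal
    rw [AlgHom.commutes, IsScalarTower.algebraMap_apply (P ⧸ I) B (B ⊗[P ⧸ I] D), e.symm.commutes]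
  have hJI : J ⊔ RingHom.ker (algebraMap P B) = ⊤ := by
    by_contra hne
    obtain ⟨M, hM, hle⟩ := Ideal.exists_le_maximal _ hne
    haveI : (M.map (algebraMap P B)).IsMaximal :=
      (Ideal.map_eq_top_or_isMaximal_of_surjective _ hs hM).resolve_left fun h => hM.ne_top (by
        have := Ideal.comap_map_of_surjective _ hs M
        rw [h, Ideal.comap_top] at this
        exact (this.trans (sup_eq_left.2 (show RingHom.ker (algebraMap P B) ≤ M from le_sup_right.trans hle))).symm)
    have hmem := hBU ⟨M.map (algebraMap P B), inferInstance⟩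
    have hnot : PrimeSpectrum.comap (algebraMap (P ⧸ I) B) ⟨M.map (algebraMap P B), inferInstance⟩ ∈
        PrimeSpectrum.zeroLocus S := by
      intro x hx
      obtain ⟨a, rfl⟩ := Ideal.Quotient.mk_surjective x
      show algebraMap (P ⧸ I) B (algebraMap P (P ⧸ I) a) ∈ M.map (algebraMap P B)
      rw [← IsScalarTower.algebraMap_apply]
      exact Ideal.mem_map_of_mem _ (hle (Submodule.mem_sup_left (Ideal.subset_span hx)))
    rw [← hS] at hnot
    exact hnot hmem
  obtain ⟨j, hj, a, ha, hja⟩ := Submodule.mem_sup.1 (show (1 : P) ∈ J ⊔ RingHom.ker (algebraMap P B) by rw [hJI]; trivial)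
  let I' : Ideal P := I ⊔ Ideal.span {a}
  have hI' : I' ≤ RingHom.ker (algebraMap P B) := sup_le hI ((Ideal.span_singleton_le_iff_mem _).2 ha)
  let π : P ⧸ I →+* P ⧸ I' := Ideal.Quotient.factor le_sup_left
  let σ : P ⧸ I' →+* B := Ideal.Quotient.lift I' (algebraMap P B) fun x hx => hI' hx
  letI : Algebra (P ⧸ I) (P ⧸ I') := π.toAlgebra
  letI : Algebra (P ⧸ I') B := σ.toAlgebra
  haveI : IsScalarTower P (P ⧸ I') B := IsScalarTower.of_algebraMap_eq fun _ => rfl
  haveI : IsScalarTower (P ⧸ I) (P ⧸ I') B := IsScalarTower.of_algebraMap_eq fun x => by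
    obtain ⟨x, rfl⟩ := Ideal.Quotient.mk_surjective x
    exact (IsScalarTower.algebraMap_apply P (P ⧸ I) B x).symm
  refine ⟨I', inferInstance, inferInstance, (P ⧸ I') ⊗[P ⧸ I] D, inferInstance, inferInstance,
    Submodule.FG.sup hIfg ⟨{a}, by simp⟩, hI', inferInstance, ?_,
    ⟨e.trans (Algebra.TensorProduct.cancelBaseChange (P ⧸ I) (P ⧸ I') B B D).symm⟩⟩
  refine Module.FaithfullyFlat.of_comap_surjective fun q => ?_
  have hq : PrimeSpectrum.comap π q ∈ U := by
    by_contra hq
    rw [← Set.mem_compl_iff, hS, ← PrimeSpectrum.zeroLocus_span] at hq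
    have h1 : π (Ideal.Quotient.mk I j) ∈ q.asIdeal := hq (show Ideal.Quotient.mk I j ∈ Ideal.span S from hj)
    refine q.isPrime.ne_top ((Ideal.eq_top_iff_one _).2 ?_)
    have h2 : π (Ideal.Quotient.mk I a) = 0 :=
      Ideal.Quotient.eq_zero_iff_mem.2 (Submodule.mem_sup_right (Ideal.mem_span_singleton_self a))
    have : π (Ideal.Quotient.mk I j) + π (Ideal.Quotient.mk I a) = 1 := by
      rw [← map_add, ← map_add, hja, map_one, map_one]
    rwa [h2, add_zero, ← this] at *
  obtain ⟨d, hd⟩ := hq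
  exact exists_prime_tensor (A := P ⧸ I) (Ideal.Quotient.factor_surjective le_sup_left) q d hd

end Groth.L29.Src
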