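import Groth.Agent.L29.RelPC.SrcDescent
import Groth.Agent.L29.RelPC.SrcModel
import Groth.Agent.L10.RelPC.Local
import Groth.Agent.L10.RelPC.Tensor
import Groth.Agent.L29.RelPC.Hom2
import Groth.Agent.L19.PerfectHomCases

/-!
Relative pseudo-coherence and faithfully flat algebras of finite presentation.
-/

set_option autoImplicit false
set_option backward.defeqAttrib.useBackward true
set_option backward.isDefEq.respectTransparency false

universe u

open CategoryTheory CategoryTheory.Limits CategoryTheory.Pretriangulated TensorProduct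

attribute [local instance] HasDerivedCategory.standard

namespace Groth.L29.Src

open Groth.L02.PC Groth.L10.DR Groth.L10.RelPC Groth.L29.FlatBC

/-- the kernel of the map to the base change -/
theorem ker_includeRight_le {P B₁ B D C : Type u} [CommRing P] [CommRing B₁] [CommRing B] [CommRing D] [CommRing C]
    [Algebra P B₁] [Algebra P B] [Algebra B₁ B] [IsScalarTower P B₁ B] [Algebra B₁ D] [Algebra B C] [Algebra P D]
    [IsScalarTower P B₁ D] (h₁ : Function.Surjective (algebraMap P B₁)) (h : Function.Surjective (algebraMap P B))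
    (e : C ≃ₐ[B] B ⊗[B₁] D) {z : D}
    (hz : e.symm (Algebra.TensorProduct.includeRight (R := B₁) (A := B) z) = 0) :
    z ∈ RingHom.ker (algebraMap P B) • (⊤ : Submodule P D) := by
  have hs : Function.Surjective (Algebra.linearMap B₁ B) := fun b => by
    obtain ⟨p, rfl⟩ := h b
    exact ⟨algebraMap P B₁ p, (IsScalarTower.algebraMap_apply P B₁ B p).symm⟩
  have hex := rTensor_exact D (Algebra.linearMap B₁ B).exact_subtype_ker_map hs
  have hz' : (Algebra.linearMap B₁ B).rTensor D (1 ⊗ₜ[B₁] z) = 0 := by
    rw [LinearMap.rTensor_tmul, Algebra.linearMap_apply, map_one]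
    exact (map_eq_zero_iff e.symm e.symm.injective).1 hz
  obtain ⟨w, hw⟩ := (hex _).1 hz'
  have hz'' : z = TensorProduct.lid B₁ D ((LinearMap.ker (Algebra.linearMap B₁ B)).subtype.rTensor D w) := by
    rw [hw, TensorProduct.lid_tmul, one_smul]
  rw [hz'']
  clear hz'' hw
  induction w using TensorProduct.induction_on with
  | zero => simp
  | add x y hx hy => rw [map_add, map_add]; exact add_mem hx hy
  | tmul j d =>
    obtain ⟨j, hj⟩ := j
    obtain ⟨p, rfl⟩ := h₁ j
    show algebraMap P B₁ p • d ∈ _
    rw [algebraMap_smul]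
    refine Submodule.smul_mem_smul ?_ trivial
    rw [RingHom.mem_ker, IsScalarTower.algebraMap_apply P B₁ B]
    exact hj

section Compare

variable {P P' B D C : Type u} [CommRing P] [CommRing P'] [CommRing B] [CommRing D] [CommRing C]
  [Algebra P P'] [Algebra P B] [Algebra P D] [Algebra P' D] [IsScalarTower P P' D] [Algebra B C] [Algebra P' C]
  [Algebra P C] [IsScalarTower P B C] [IsScalarTower P P' C]

/-- the comparison map -/
noncomputable def cmp (π : D →ₐ[P'] C) (X : ModuleCat.{u} B) :
    (tens P P' D).obj ((ModuleCat.restrictScalars.{u} (algebraMap P B)).obj X) ⟶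
      (ModuleCat.restrictScalars.{u} (algebraMap P' C)).obj ((ext B C).obj X) :=
  letI : Module P X := Module.compHom X (algebraMap P B)
  haveI : IsScalarTower P B X := IsScalarTower.of_algebraMap_smul fun _ _ => rfl
  ModuleCat.ofHom
    (X := D ⊗[P] X) (Y := (ModuleCat.restrictScalars.{u} (algebraMap P' C)).obj ((ext B C).obj X))
    { toFun := fun z => (extEquiv B C X).symm ((TensorProduct.lift
        (LinearMap.mk₂ P (fun (d : D) (x : X) => π d ⊗ₜ[B] x)
          (fun a b x => by rw [map_add, TensorProduct.add_tmul])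
          (fun p a x => by
            rw [← IsScalarTower.algebraMap_smul P' p a, map_smul, IsScalarTower.algebraMap_smul,
              TensorProduct.smul_tmul'])
          (fun a x y => by rw [TensorProduct.tmul_add])
          (fun p a x => by rw [TensorProduct.tmul_smul]))) z)
      map_add' := fun a b => by rw [map_add, map_add]
      map_smul' := fun q z => by
        show (extEquiv B C X).symm _ = algebraMap P' C q • (extEquiv B C X).symm _
        rw [← map_smul]
        congr 1
        induction z using TensorProduct.induction_on with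
        | zero => simp
        | add x y hx hy => simp only [smul_add, map_add, hx, hy]
        | tmul d x =>
          rw [TensorProduct.smul_tmul', TensorProduct.lift.tmul, LinearMap.mk₂_apply, map_smul,
            TensorProduct.lift.tmul, LinearMap.mk₂_apply, TensorProduct.smul_tmul', Algebra.smul_def, smul_eq_mul] }

theorem cmp_tmul (π : D →ₐ[P'] C) (X : ModuleCat.{u} B) (d : D) (x : X) :
    cmp (P := P) π X (d ⊗ₜ[P] (show (ModuleCat.restrictScalars.{u} (algebraMap P B)).obj X from x)) =
      (extEquiv B C X).symm (π d ⊗ₜ[B] x) := rfl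

theorem cmp_bijective (hB : Function.Surjective (algebraMap P B)) (π : D →ₐ[P'] C) (hπ : Function.Surjective π)
    (hker : ∀ z, π z = 0 → z ∈ RingHom.ker (algebraMap P B) • (⊤ : Submodule P D)) (X : ModuleCat.{u} B) :
    Function.Bijective (cmp (P := P) π X) := by
  letI : Module P X := Module.compHom X (algebraMap P B)
  haveI : IsScalarTower P B X := IsScalarTower.of_algebraMap_smul fun _ _ => rfl
  haveI := TensorProduct.CompatibleSMul.of_algebraMap_surjective (R := P) (M := C) (N := X) hB
  let e0 := TensorProduct.equivOfCompatibleSMul P B P C X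
  let π' : D →ₗ[P] C := π.toLinearMap.restrictScalars P
  have h1 := rTensor_bijective_of_killed (RingHom.ker (algebraMap P B)) π' hπ (fun z hz => hker z hz) X
    fun a ha x => by
      show algebraMap P B a • x = 0
      rw [RingHom.mem_ker.1 ha, zero_smul]
  have : ⇑(cmp (P := P) π X) = ⇑(extEquiv B C X).symm ∘ ⇑e0.symm ∘ ⇑(π'.rTensor X) := funext fun z => by
    show cmp (P := P) π X z = (extEquiv B C X).symm (e0.symm (π'.rTensor X z))
    induction z using TensorProduct.induction_on with
    | zero => simp
    | add x y hx hy => rw [map_add, map_add, map_add, map_add, hx, hy]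
    | tmul d x =>
      refine (cmp_tmul π X d x).trans (congrArg _ ?_)
      exact e0.eq_symm_apply.2 rfl
  rw [this]
  exact (extEquiv B C X).symm.bijective.comp (e0.symm.bijective.comp h1)

/-- comparison of the two tensor products -/
noncomputable def cmpIso (hB : Function.Surjective (algebraMap P B)) (π : D →ₐ[P'] C) (hπ : Function.Surjective π)
    (hker : ∀ z, π z = 0 → z ∈ RingHom.ker (algebraMap P B) • (⊤ : Submodule P D)) :
    ModuleCat.restrictScalars.{u} (algebraMap P B) ⋙ tens P P' D ≅
      ext B C ⋙ ModuleCat.restrictScalars.{u} (algebraMap P' C) :=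
  NatIso.ofComponents
    (fun X => haveI : IsIso (cmp (P := P) π X) :=
      (ConcreteCategory.isIso_iff_bijective _).2 (cmp_bijective hB π hπ hker X)
      asIso (cmp (P := P) π X))
    (fun {X Y} h => ModuleCat.hom_ext (LinearMap.ext fun z => by
      show cmp (P := P) π Y (LinearMap.lTensor D ((ModuleCat.restrictScalars.{u} (algebraMap P B)).map h).hom z) =
        (ext B C).map h (cmp (P := P) π X z)
      induction z using TensorProduct.induction_on with
      | zero => simp
      | add x y hx hy => erw [map_add, map_add, map_add, map_add, hx, hy]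
      | tmul d x => rfl))

end Compare

variable {R B C : Type u} [CommRing R] [CommRing B] [CommRing C] [Algebra R B] [Algebra B C] [Algebra R C]
  [IsScalarTower R B C] [Algebra.FiniteType R B]

/-- pseudo-coherence relative to `R` goes down along faithfully flat maps of finite presentation -/
theorem rel_descends [Algebra.FinitePresentation B C] [Module.FaithfullyFlat B C] {m : ℤ} {K : Dual.D B}
    (h : DerCA.IsRelPseudoCoherent R C m ((L B C).obj K)) : DerCA.IsRelPseudoCoherent R B m K := by
  haveI : Algebra.FiniteType R C := Algebra.FiniteType.trans (inferInstance : Algebra.FiniteType R B) inferInstance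
  obtain ⟨n, α, hα⟩ := exists_presentation R B
  obtain ⟨N', α', hα'⟩ := exists_presentation R C
  let P := MvPolynomial (Fin n) R
  letI : Algebra P B := α.toRingHom.toAlgebra
  haveI : IsScalarTower R P B := IsScalarTower.of_algebraMap_eq fun r => (α.commutes r).symm
  obtain ⟨I, _, _, D, _, _, hIfg, hI, _, _, ⟨e⟩⟩ := exists_model_ff (P := P) B C hα
  obtain ⟨k, β, hβ⟩ := exists_presentation (P ⧸ I) D
  let P' := MvPolynomial (Fin k) P
  let B' := MvPolynomial (Fin k) (P ⧸ I)
  letI : Algebra P' B' := MvPolynomial.algebraMvPolynomial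
  letI : Algebra B' D := β.toRingHom.toAlgebra
  haveI : IsScalarTower (P ⧸ I) B' D := IsScalarTower.of_algebraMap_eq fun r => (β.commutes r).symm
  letI : Algebra P D := ((algebraMap (P ⧸ I) D).comp (algebraMap P (P ⧸ I))).toAlgebra
  haveI : IsScalarTower P (P ⧸ I) D := IsScalarTower.of_algebraMap_eq fun _ => rfl
  letI : Algebra P' D := ((algebraMap B' D).comp (algebraMap P' B')).toAlgebra
  haveI : IsScalarTower P' B' D := IsScalarTower.of_algebraMap_eq fun _ => rfl
  haveI : IsScalarTower P P' B' := IsScalarTower.of_algebraMap_eq fun r => by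
    show _ = MvPolynomial.map _ (MvPolynomial.C r)
    rw [MvPolynomial.map_C]; rfl
  haveI : IsScalarTower P P' D := IsScalarTower.of_algebraMap_eq fun r => by
    show algebraMap (P ⧸ I) D (algebraMap P (P ⧸ I) r) = algebraMap B' D (algebraMap P' B' (algebraMap P P' r))
    rw [← IsScalarTower.algebraMap_apply P P' B', IsScalarTower.algebraMap_apply P (P ⧸ I) B',
      ← IsScalarTower.algebraMap_apply (P ⧸ I) B' D]
  let inc : D →+* C := e.symm.toAlgHom.toRingHom.comp
    (Algebra.TensorProduct.includeRight (R := P ⧸ I) (A := B) (B := D)).toRingHom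
  letI : Algebra P' C := (inc.comp (algebraMap P' D)).toAlgebra
  letI : Algebra P C := ((algebraMap B C).comp (algebraMap P B)).toAlgebra
  haveI : IsScalarTower P B C := IsScalarTower.of_algebraMap_eq fun _ => rfl
  haveI : IsScalarTower P P' C := IsScalarTower.of_algebraMap_eq fun r => by
    show algebraMap B C (algebraMap P B r) = inc (algebraMap P' D (algebraMap P P' r))
    rw [← IsScalarTower.algebraMap_apply P P' D, IsScalarTower.algebraMap_apply P (P ⧸ I) D,
      IsScalarTower.algebraMap_apply P (P ⧸ I) B]
    show _ = e.symm (Algebra.TensorProduct.includeRight (algebraMap (P ⧸ I) D _))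
    rw [AlgHom.commutes, IsScalarTower.algebraMap_apply (P ⧸ I) B (B ⊗[P ⧸ I] D), e.symm.commutes]
  let π : D →ₐ[P'] C := { inc with commutes' := fun _ => rfl }
  have hπ : Function.Surjective π := fun c => by
    obtain ⟨t, rfl⟩ := e.symm.surjective c
    induction t using TensorProduct.induction_on with
    | zero => exact ⟨0, by rw [map_zero, map_zero]⟩
    | add x y hx hy =>
      obtain ⟨a, ha⟩ := hx; obtain ⟨b, hb⟩ := hy
      exact ⟨a + b, by rw [map_add, map_add, ha, hb]⟩
    | tmul b d =>
      obtain ⟨p, rfl⟩ := hα b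
      refine ⟨algebraMap P (P ⧸ I) p • d, congrArg e.symm ?_⟩
      show (1 : B) ⊗ₜ[P ⧸ I] (algebraMap P (P ⧸ I) p • d) = _
      rw [← TensorProduct.smul_tmul, Algebra.smul_def, mul_one, ← IsScalarTower.algebraMap_apply]
      rfl
  -- bounded above
  obtain ⟨b, hb⟩ : ∃ b, LEH K b := by
    obtain ⟨b, hb⟩ := bounded_of_pc ((rel_iff α' hα').1 h)
    obtain ⟨⟨Q, ⟨eQ⟩⟩⟩ : Nonempty (Σ' Q : DRing.Cx B, Nonempty (DRing.toD Q ≅ K)) :=
      ⟨⟨DerivedCategory.Q.objPreimage K, ⟨DerivedCategory.Q.objObjPreimageIso K⟩⟩⟩
    refine ⟨b, fun i hi => IsZero.of_iso ?_ ((HH i).mapIso eQ.symm)⟩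
    rw [isZero_HH_Q_iff]
    refine (Groth.L10.FlatDescent.faithful_of_faithfullyFlat (R := B) (S := C)).isZero _ fun _ => ?_
    have h0 : IsZero ((HH i).obj (DRing.toD ((bcCx (algebraMap B C)).obj Q))) :=
      (hb i hi).of_iso ((HH i).mapIso (((ext B C).mapDerivedCategoryFactors.app Q).symm ≪≫ (L B C).mapIso eQ))
    exact ((isZero_HH_Q_iff _ i).1 h0).of_iso
      (Groth.L10.FlatDescent.homologyIso _ (RingHom.flat_algebraMap_iff.2 inferInstance) Q i).symm
  obtain ⟨Q, hQb, -, -, ⟨eQ⟩⟩ := exists_free_rep hb
  -- the hypothesis over `P'`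
  have hγ : Function.Surjective (algebraMap P' C) :=
    hπ.comp (hβ.comp (MvPolynomial.map_surjective _ Ideal.Quotient.mk_surjective))
  have h' : Pc (algebraMap P' C) m ((L B C).obj K) :=
    (rel_iff_of_equiv (doubleEquiv R k n) (algebraMap P' C) (fun r => by
      rw [IsScalarTower.algebraMap_apply R P P', ← IsScalarTower.algebraMap_apply P P' C,
        IsScalarTower.algebraMap_apply P B C, ← IsScalarTower.algebraMap_apply R P B,
        ← IsScalarTower.algebraMap_apply R B C]) hγ).1 h
  let N := (DRing.restrictCx (algebraMap (P ⧸ I) B)).obj Q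
  have hNb : DRing.VanishesAbove N b := fun i hi => (ModuleCat.restrictScalars.{u} _).map_isZero (hQb i hi)
  let C₁ := (DRing.restrictCx (algebraMap P (P ⧸ I))).obj N
  let e₁ : C₁ ≅ (DRing.restrictCx (algebraMap P B)).obj Q :=
    HomologicalComplex.Hom.isoOfComponents (fun i => (ModuleCat.restrictScalarsComp'App.{u}
      (algebraMap P (P ⧸ I)) (algebraMap (P ⧸ I) B) (algebraMap P B)
      (IsScalarTower.algebraMap_eq P (P ⧸ I) B) (Q.X i)).symm) (fun i j _ => rfl)
  have hC : DRing.IsPseudoCoherent P' m (DRing.toD ((tensCx P P' D).obj C₁)) := by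
    let c : (tensCx P P' D).obj ((DRing.restrictCx (algebraMap P B)).obj Q) ≅
        (DRing.restrictCx (algebraMap P' C)).obj ((bcCx (algebraMap B C)).obj Q) :=
      (NatIso.mapHomologicalComplex (cmpIso (P := P) hα π hπ
        (fun z hz => ker_includeRight_le Ideal.Quotient.mk_surjective hα e hz)) (ComplexShape.up ℤ)).app Q
    refine Groth.L02.PC.pc_of_iso (DerivedCategory.Q.mapIso ((tensCx P P' D).mapIso e₁ ≪≫ c)).symm ?_
    exact pc_of_iso (resQ (algebraMap P' C) _) (Pc.of_iso
      ((L B C).mapIso eQ.symm ≪≫ (ext B C).mapDerivedCategoryFactors.app Q) h')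
  have hq : Quot P P' (P ⧸ I) B' :=
    { surjB := Ideal.Quotient.mk_surjective
      surj := MvPolynomial.map_surjective _ Ideal.Quotient.mk_surjective
      ker := fun x hx => by
        have hx' : x ∈ RingHom.ker (MvPolynomial.map (algebraMap P (P ⧸ I)) : P' →+* B') := hx
        rw [MvPolynomial.ker_map] at hx'
        rw [Ideal.smul_top_eq_map]
        exact hx' }
  have hIk : (RingHom.ker (algebraMap P (P ⧸ I))).FG := by
    rw [Ideal.Quotient.algebraMap_eq, Ideal.mk_ker]; exact hIfg
  have hDpc : DRing.IsPseudoCoherentModule' B' D :=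
    pc'_of_forall fun i => pc_of_iso (inDIso (β : B' →+* D) D fun _ _ => Algebra.smul_def _ _)
      ((rel_iff β hβ).1 (Groth.L29.RelPC.hom_iff_rel.1 Groth.L19.PerfectHom.isPerfectHom_of_flat.1 i))
  have hmain := descent (C := D) hq hIk hβ hDpc N hNb hC
  refine (rel_iff α hα).2 (Pc.of_iso eQ ?_)
  exact pc_of_iso (resQ (algebraMap P B) Q).symm (pc_of_iso (DerivedCategory.Q.mapIso e₁) hmain)

/-- pseudo-coherence relative to `R` goes up along flat maps of finite presentation -/
theorem rel_pull [Algebra.FinitePresentation B C] [Module.Flat B C] {m : ℤ} {K : Dual.D B}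
    (h : DerCA.IsRelPseudoCoherent R B m K) : DerCA.IsRelPseudoCoherent R C m ((L B C).obj K) := by
  obtain ⟨Q, e, -, N, γ, hγ, hQ⟩ :=
    rel_bc' (Groth.L29.RelPC.hom_iff_rel.1 (Groth.L19.PerfectHom.isPerfectHom_of_flat (A := B) (B := C)).1) h
  exact ⟨N, γ, hγ, Pc.of_iso (((ext B C).mapDerivedCategoryFactors.app Q).symm ≪≫ (L B C).mapIso e) hQ⟩

end Groth.L29.Src
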