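import Groth.Agent.L29.RelPC.BCRel
import Groth.Agent.L29.RelPC.BCMain
import Groth.Agent.L29.RelPC.SrcRing
import Groth.Agent.L18.TildeFunctor
import Groth.Agent.L24.Alg.SourceFppf
import Groth.Agent.L29.RelPC.Module
import Groth.Agent.L19.ConormalAffine
import Mathlib.AlgebraicGeometry.Morphisms.UniversallyOpen

/-!
Relative pseudo-coherence along fppf coverings of the source.
-/

set_option autoImplicit false
set_option backward.defeqAttrib.useBackward true
set_option backward.isDefEq.respectTransparency false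
set_option backward.isDefEq.respectTransparency.types false

universe u

open CategoryTheory CategoryTheory.Limits AlgebraicGeometry

attribute [local instance] HasDerivedCategory.standard

namespace Groth.L29.RelPC

open Groth.L29.DC Groth.L29.DC.ClosedPC

attribute [local instance] ClosedPC.additive ClosedPC.exactLeft ClosedPC.exactRight

/-- derived flat pullback of tilde -/
theorem nonempty_tildeD_Lpull (B C : CommRingCat.{u}) [Algebra B C] [Module.Flat B C]
    [PreservesFiniteLimits (tilde.functor B)] [PreservesFiniteLimits (tilde.functor C)]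
    [DCoh.HasLpull (Spec.map (CommRingCat.ofHom (algebraMap B C)))] (M : Dual.D B) :
    Nonempty ((DCoh.tildeD C).obj ((Groth.L29.FlatBC.L B C).obj M) ≅
      (DCoh.Lpull (Spec.map (CommRingCat.ofHom (algebraMap B C)))).obj ((DCoh.tildeD B).obj M)) := by
  let φ := CommRingCat.ofHom (algebraMap B C)
  haveI : Flat (Spec.map φ) := Flat.SpecMap_iff.2 (RingHom.flat_algebraMap_iff.2 inferInstance)
  haveI := additive_pullback (Spec.map φ)
  haveI := preservesFiniteColimits_pullback (Spec.map φ)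
  haveI := preservesFiniteLimits_pullback (Spec.map φ)
  haveI : (tilde.functor B).Additive := inferInstance
  haveI : PreservesFiniteColimits (tilde.functor B) := inferInstance
  haveI : (tilde.functor C).Additive := inferInstance
  haveI : PreservesFiniteColimits (tilde.functor C) := inferInstance
  haveI : PreservesFiniteLimits (ModuleCat.extendScalars.{u, u, u} φ.hom) :=
    Groth.L29.FlatBC.preservesFiniteLimits_ext B C
  haveI : PreservesFiniteColimits (ModuleCat.extendScalars.{u, u, u} φ.hom) :=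
    Groth.L29.FlatBC.preservesColimits_ext B C
  haveI : PreservesFiniteLimits (ModuleCat.extendScalars.{u, u, u} φ.hom ⋙ tilde.functor C) :=
    comp_preservesFiniteLimits _ _
  haveI : PreservesFiniteColimits (ModuleCat.extendScalars.{u, u, u} φ.hom ⋙ tilde.functor C) :=
    comp_preservesFiniteColimits _ _
  obtain ⟨a⟩ := nonempty_Lpull_flat (Spec.map φ) ((DCoh.tildeD B).obj M)
  exact ⟨((Groth.L09.DerivedRetract.compIso _ _) ≪≫
    Groth.L09.DerivedRetract.natIso (Groth.L18.TildeF.pullbackTildeIso φ).symm ≪≫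
    (Groth.L09.DerivedRetract.compIso _ _).symm).app M ≪≫ a.symm⟩

variable {X S X' : Scheme.{u}} {p : X ⟶ S} {g : X' ⟶ X}

/-- flat maps of finite presentation on affine pieces, both directions -/
theorem good_src [LocallyOfFiniteType p] [Flat g] [LocallyOfFinitePresentation g] [DCoh.HasLpull g] {m : ℤ}
    {E : DCoh.D X} (hE : DCoh.IsQCohD E) {V : S.Opens} {U : X.Opens} {U' : X'.Opens} (hV : IsAffineOpen V)
    (hU : IsAffineOpen U) (hU' : IsAffineOpen U') (h : U ≤ p ⁻¹ᵁ V) (e : U' ≤ g ⁻¹ᵁ U) :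
    (Good p m E U V → Good (g ≫ p) m ((DCoh.Lpull g).obj E) U' V) ∧
      ((U : Set X) ⊆ g '' U' → Good (g ≫ p) m ((DCoh.Lpull g).obj E) U' V → Good p m E U V) := by
  haveI := isClosedImmersion_toSpecΓ hU
  haveI := isClosedImmersion_toSpecΓ hU'
  haveI := Groth.L18.TildeF.tilde_preservesFiniteLimits (R := Γ(X, U))
  haveI := Groth.L18.TildeF.tilde_preservesFiniteLimits (R := Γ(X', U'))
  obtain ⟨M, ⟨eM⟩⟩ := exists_module (U := U) hE
  have h' : U' ≤ (g ≫ p) ⁻¹ᵁ V := fun y hy => h (e hy)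
  letI : Algebra Γ(X, U) Γ(X', U') := (g.appLE U U' e).hom.toAlgebra
  letI : Algebra Γ(S, V) Γ(X, U) := (p.appLE V U h).hom.toAlgebra
  letI : Algebra Γ(S, V) Γ(X', U') := ((g ≫ p).appLE V U' h').hom.toAlgebra
  haveI : IsScalarTower Γ(S, V) Γ(X, U) Γ(X', U') := IsScalarTower.of_algebraMap_eq fun r =>
    (ConcreteCategory.congr_hom (Scheme.Hom.appLE_comp_appLE g p V U U' h e) r).symm
  haveI : Algebra.FiniteType Γ(S, V) Γ(X, U) := p.finiteType_appLE hV hU h
  haveI : Module.Flat Γ(X, U) Γ(X', U') := g.flat_appLE hU hU' e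
  haveI : Algebra.FinitePresentation Γ(X, U) Γ(X', U') := g.finitePresentation_appLE hU hU' e
  haveI : DCoh.HasLpull (Spec.map (g.appLE U U' e)) := Groth.L00.KFlat.hasLpull _
  obtain ⟨a⟩ := nonempty_fromSpec hU E
  obtain ⟨b⟩ := nonempty_fromSpec hU' ((DCoh.Lpull g).obj E)
  obtain ⟨r⟩ := nonempty_restrict_chart g hU hU' e E
  haveI : DCoh.HasLpull (Spec.map (CommRingCat.ofHom (algebraMap Γ(X, U) Γ(X', U')))) := Groth.L00.KFlat.hasLpull _
  obtain ⟨c⟩ := nonempty_tildeD_Lpull Γ(X, U) Γ(X', U') M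
  let t : (DCoh.tildeD Γ(X', U')).obj ((Groth.L29.FlatBC.L Γ(X, U) Γ(X', U')).obj M) ≅
      (pD U'.toSpecΓ).obj ((resD U').obj ((DCoh.Lpull g).obj E)) :=
    c ≪≫ (DCoh.Lpull (Spec.map (g.appLE U U' e))).mapIso (eM ≪≫ a) ≪≫ r ≪≫ b.symm
  haveI : LocallyOfFiniteType (g ≫ p) := inferInstance
  rw [good_iff_rel hU hV h eM, good_iff_rel (f := g ≫ p) hU' hV h' t]
  refine ⟨fun hG => Groth.L29.Src.rel_pull hG, fun hs hG => ?_⟩
  haveI : Module.FaithfullyFlat Γ(X, U) Γ(X', U') := by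
    refine Module.FaithfullyFlat.of_comap_surjective fun y => ?_
    obtain ⟨t, ht, hty⟩ := hs (hU.range_fromSpec.le (Set.mem_range_self y) : hU.fromSpec y ∈ U)
    obtain ⟨z, rfl⟩ := hU'.range_fromSpec.ge ht
    refine ⟨z, hU.fromSpec.isOpenEmbedding.injective ?_⟩
    rw [← hty, ← Scheme.Hom.comp_apply, ← IsAffineOpen.SpecMap_appLE_fromSpec g hU hU' e, Scheme.Hom.comp_apply]
    rfl
  exact Groth.L29.Src.rel_descends hG

/-- pullback along flat morphisms of finite presentation -/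
theorem rel_srcPull [Flat g] [LocallyOfFinitePresentation g] [DCoh.HasLpull g] {m : ℤ} {E : DCoh.D X}
    (hE : DCoh.IsQCohD E) (hK : DerSch.IsPseudoCoherentRel p m E) :
    DerSch.IsPseudoCoherentRel (g ≫ p) m ((DCoh.Lpull g).obj E) := by
  haveI := hK.1
  refine rel_of_local fun y => ?_
  obtain ⟨U, V, h, hU, hV, hx⟩ := exists_affine (g y) p
  obtain ⟨_, ⟨U', hU', rfl⟩, hy, e⟩ :=
    X'.isBasis_affineOpens.exists_subset_of_mem_open (show y ∈ g ⁻¹ᵁ U from hx) (g ⁻¹ᵁ U).isOpen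
  exact ⟨U', V, hy, hU', hV, fun z hz => h (e hz), (good_src hE hV hU hU' h e).1 (good_of_rel hK hU hV h)⟩

/-- descent along fppf coverings of the source -/
theorem rel_srcDescends [LocallyOfFiniteType p] {ι : Type u} (Xi : ι → Scheme.{u}) (g : ∀ i, Xi i ⟶ X)
    [∀ i, Flat (g i)] [∀ i, LocallyOfFinitePresentation (g i)]
    (hcov : ∀ x : X, ∃ (i : ι) (y : Xi i), (g i).base y = x) [∀ i, DCoh.HasLpull (g i)] {m : ℤ} {E : DCoh.D X}
    (hE : DCoh.IsQCohD E) (hK : ∀ i, DerSch.IsPseudoCoherentRel (g i ≫ p) m ((DCoh.Lpull (g i)).obj E)) :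
    DerSch.IsPseudoCoherentRel p m E := by
  refine rel_of_local fun x => ?_
  obtain ⟨U, V, h, hU, hV, hx⟩ := exists_affine x p
  obtain ⟨i, y, rfl⟩ := hcov x
  obtain ⟨_, ⟨U', hU', rfl⟩, hy, e⟩ :=
    (Xi i).isBasis_affineOpens.exists_subset_of_mem_open (show y ∈ g i ⁻¹ᵁ U from hx) (g i ⁻¹ᵁ U).isOpen
  obtain ⟨f, hf, hxf⟩ := hU.exists_basicOpen_le
    (V := ⟨g i '' (U' : Set (Xi i)), (g i).isOpenMap _ U'.isOpen⟩) ⟨(g i) y, ⟨y, hy, rfl⟩⟩ hx
  have hle : U' ⊓ g i ⁻¹ᵁ X.basicOpen f = (Xi i).basicOpen ((g i).appLE U U' e f) :=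
    (Scheme.basicOpen_appLE (g i) U' U e f).symm
  have hU'' : IsAffineOpen (U' ⊓ g i ⁻¹ᵁ X.basicOpen f) := hle ▸ hU'.basicOpen _
  refine ⟨X.basicOpen f, V, hxf, hU.basicOpen f, hV, (X.basicOpen_le f).trans h,
    (good_src hE hV (hU.basicOpen f) hU'' ((X.basicOpen_le f).trans h) inf_le_right).2 ?_
      (good_of_rel (hK i) hU'' hV fun z hz => h (X.basicOpen_le f hz.2))⟩
  intro z hz
  obtain ⟨w, hw, rfl⟩ := hf hz
  exact ⟨w, ⟨hw, hz⟩, rfl⟩

theorem isQCohD_unit (X : Scheme.{u}) : DCoh.IsQCohD (DCoh.inD X (Coh.structureModule X)) := fun i => by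
  by_cases hi : i = 0
  · subst hi
    obtain ⟨a⟩ := nonempty_HD0_inD (Coh.structureModule X)
    exact isQCoh_of_iso' a.symm (Groth.L19.Conormal.isQCoh_structureModule X)
  · exact Groth.L29.DC.isQCoh_of_isZero (isZero_HD_inD hi)

theorem mor_srcPull [Flat g] [LocallyOfFinitePresentation g] (hf : MoreMor.IsPseudoCoherentMor p) :
    MoreMor.IsPseudoCoherentMor (g ≫ p) := by
  haveI := Groth.L00.KFlat.hasLpull g
  obtain ⟨hl, hn⟩ := mor_iff.1 hf
  obtain ⟨e⟩ := nonempty_Lpull_unit g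
  exact mor_iff.2 ⟨inferInstance, fun m => (unit_pc_iff m).2
    (rel_iso e (rel_srcPull (isQCohD_unit X) ((unit_pc_iff m).1 (hn m))))⟩

theorem mor_srcDescends [Flat g] [LocallyOfFinitePresentation g] [Surjective g]
    (hf : MoreMor.IsPseudoCoherentMor (g ≫ p)) : MoreMor.IsPseudoCoherentMor p := by
  haveI := Groth.L00.KFlat.hasLpull g
  obtain ⟨hl, hn⟩ := mor_iff.1 hf
  haveI : LocallyOfFiniteType p := Groth.L24.Alg.locallyOfFiniteType_of_fppf_comp g p hl
  obtain ⟨e⟩ := nonempty_Lpull_unit g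
  refine mor_iff.2 ⟨inferInstance, fun m => (unit_pc_iff m).2
    (rel_srcDescends (fun _ : PUnit.{u + 1} => X') (fun _ => g) (fun x => ⟨⟨⟩, g.surjective x⟩)
      (isQCohD_unit X) fun _ => rel_iso e.symm ((unit_pc_iff m).1 (hn m)))⟩

end Groth.L29.RelPC
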