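import Groth.Agent.L29.RelPC.Open
import Groth.Agent.L29.DCoh.PushTilde
import Groth.Agent.L29.DCoh.TildeD
import Groth.Agent.L29.DCoh.QCohLocal
import Groth.Agent.L10.RelPC.Formal
import Groth.Agent.L16.QcqsPush

/-!
Charts and rings: relative pseudo-coherence of objects with quasi-coherent cohomology.
-/

set_option autoImplicit false
set_option backward.defeqAttrib.useBackward true
set_option backward.isDefEq.respectTransparency false
set_option backward.isDefEq.respectTransparency.types false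

universe u

open CategoryTheory CategoryTheory.Limits AlgebraicGeometry

attribute [local instance] HasDerivedCategory.standard

namespace Groth.L29.RelPC

open Groth.L29.DC Groth.L29.DC.ClosedPC

attribute [local instance] ClosedPC.additive ClosedPC.exactLeft ClosedPC.exactRight

/-- direct image of tilde along a closed immersion of affine schemes -/
theorem nonempty_tildeD_pD {R S : CommRingCat.{u}} (φ : R ⟶ S) [IsClosedImmersion (Spec.map φ)]
    [PreservesFiniteLimits (tilde.functor R)] [PreservesFiniteLimits (tilde.functor S)] :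
    Nonempty (DCoh.tildeD S ⋙ pD (Spec.map φ) ≅
      (ModuleCat.restrictScalars.{u} φ.hom).mapDerivedCategory ⋙ DCoh.tildeD R) := by
  haveI : (tilde.functor R).Additive := inferInstance
  haveI : PreservesFiniteColimits (tilde.functor R) := inferInstance
  haveI : (ModuleCat.restrictScalars.{u} φ.hom ⋙ tilde.functor R).Additive := inferInstance
  haveI : PreservesFiniteColimits (ModuleCat.restrictScalars.{u} φ.hom ⋙ tilde.functor R) := inferInstance
  exact ⟨Groth.L09.DerivedRetract.compIso _ _ ≪≫ Groth.L09.DerivedRetract.natIso (PushTilde.pushTildeIso φ) ≪≫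
    (Groth.L09.DerivedRetract.compIso _ _).symm⟩

variable {X Y : Scheme.{u}}

theorem isClosedImmersion_toSpecΓ {U : X.Opens} (hU : IsAffineOpen U) : IsClosedImmersion U.toSpecΓ := by
  haveI : IsIso U.toSpecΓ := by
    rw [show U.toSpecΓ = hU.isoSpec.hom from hU.isoSpec_hom.symm]
    infer_instance
  infer_instance

/-- the object of `D(Γ(X, U))` -/
theorem exists_module {U : X.Opens} [IsClosedImmersion U.toSpecΓ]
    [PreservesFiniteLimits (tilde.functor Γ(X, U))] {K : DCoh.D X} (hK : DCoh.IsQCohD K) :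
    ∃ M : Dual.D Γ(X, U), Nonempty ((DCoh.tildeD Γ(X, U)).obj M ≅ (pD U.toSpecΓ).obj ((resD U).obj K)) := by
  refine (TildeD.isQCohD_iff _).1 fun i => ?_
  obtain ⟨a⟩ := nonempty_HD_iso U.toSpecΓ ((resD U).obj K) i
  haveI : Coh.IsQCoh (DCoh.HD ((resD U).obj K) i) := isQCohD_restrictD U.ι hK i
  exact isQCoh_of_iso' a.symm (Groth.L16.QcqsPush.isQCoh_push _ U.toSpecΓ)

/-- direct image along an isomorphism -/
theorem nonempty_pD_iso {U W : Scheme.{u}} (e : U ⟶ W) [IsIso e] [IsClosedImmersion e] :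
    Nonempty (pD e ≅ DCoh.restrictD (inv e)) := by
  have hr : e ⁻¹ᵁ Scheme.Hom.opensRange (𝟙 W) ≤ (inv e).opensRange := by
    rw [Scheme.Hom.opensRange_of_isIso (inv e)]; exact le_top
  exact ⟨Groth.L09.DerivedRetract.natIso ((Functor.rightUnitor _).symm ≪≫
    Functor.isoWhiskerLeft _ Scheme.Modules.restrictFunctorId.symm ≪≫
    Groth.L17.PushQCoh.pushRestrictIso e (𝟙 W) (inv e) (𝟙 W) hr (by simp) ≪≫
    Functor.isoWhiskerLeft _ (Scheme.Modules.pushforwardId W) ≪≫ Functor.rightUnitor _)⟩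

theorem nonempty_fromSpec {U : X.Opens} (hU : IsAffineOpen U) [IsClosedImmersion U.toSpecΓ] (K : DCoh.D X) :
    Nonempty ((pD U.toSpecΓ).obj ((resD U).obj K) ≅ (DCoh.restrictD hU.fromSpec).obj K) := by
  haveI : IsIso U.toSpecΓ := by
    rw [show U.toSpecΓ = hU.isoSpec.hom from hU.isoSpec_hom.symm]
    infer_instance
  obtain ⟨a⟩ := nonempty_pD_iso U.toSpecΓ
  exact ⟨a.app _ ≪≫ (resTransD U.ι (inv U.toSpecΓ) hU.fromSpec
    (by rw [IsIso.inv_comp_eq, hU.toSpecΓ_fromSpec])).app K⟩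

theorem CP.iff_pc {U : X.Opens} (hU : IsAffineOpen U) {Q : Type u} [CommRing Q] {h : Q →+* Γ(X, U)}
    (hh : Function.Surjective h) [IsClosedImmersion U.toSpecΓ] [PreservesFiniteLimits (tilde.functor Γ(X, U))]
    {m : ℤ} {K : DCoh.D X} {M : Dual.D Γ(X, U)}
    (e : (DCoh.tildeD Γ(X, U)).obj M ≅ (pD U.toSpecΓ).obj ((resD U).obj K)) :
    CP U h m K ↔ Groth.L10.RelPC.Pc h m M := by
  haveI := Groth.L18.TildeF.tilde_preservesFiniteLimits (R := CommRingCat.of Q)
  haveI := isClosedImmersion_chartI hU hh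
  let φ : CommRingCat.of Q ⟶ Γ(X, U) := CommRingCat.ofHom h
  haveI : IsClosedImmersion (Spec.map φ) := IsClosedImmersion.spec_of_surjective _ hh
  obtain ⟨c⟩ := nonempty_comp U.toSpecΓ (Spec.map φ)
  obtain ⟨T⟩ := nonempty_tildeD_pD φ
  let t : (pD (chartI U h)).obj ((resD U).obj K) ≅
      (DCoh.tildeD (CommRingCat.of Q)).obj ((DRing.restrictD h).obj M) :=
    c.app _ ≪≫ (pD (Spec.map φ)).mapIso e.symm ≪≫ T.app M
  constructor
  · rintro ⟨_, hp⟩
    have h1 : DCoh.IsPseudoCoherentD m ((DCoh.tildeD (CommRingCat.of Q)).obj ((DRing.restrictD h).obj M)) :=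
      isPseudoCoherentD_of_iso t hp
    exact TildeAlg.pc_of_tilde (R := CommRingCat.of Q) h1
  · intro hp
    have h1 : DCoh.IsPseudoCoherentD m ((DCoh.tildeD (CommRingCat.of Q)).obj ((DRing.restrictD h).obj M)) :=
      TildeAlg.pc_tilde (R := CommRingCat.of Q) hp
    exact ⟨inferInstance, isPseudoCoherentD_of_iso t.symm h1⟩

theorem good_iff_rel {f : X ⟶ Y} [LocallyOfFiniteType f] {U : X.Opens} (hU : IsAffineOpen U) {V : Y.Opens}
    (hV : IsAffineOpen V) (hle : U ≤ f ⁻¹ᵁ V) [IsClosedImmersion U.toSpecΓ]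
    [PreservesFiniteLimits (tilde.functor Γ(X, U))] {m : ℤ} {K : DCoh.D X} {M : Dual.D Γ(X, U)}
    (e : (DCoh.tildeD Γ(X, U)).obj M ≅ (pD U.toSpecΓ).obj ((resD U).obj K)) :
    Good f m K U V ↔
      (letI := (f.appLE V U hle).hom.toAlgebra; DerCA.IsRelPseudoCoherent Γ(Y, V) Γ(X, U) m M) := by
  letI := (f.appLE V U hle).hom.toAlgebra
  haveI : Algebra.FiniteType Γ(Y, V) Γ(X, U) := f.finiteType_appLE hV hU hle
  constructor
  · intro hG
    obtain ⟨n, α, hα⟩ := Groth.L10.RelPC.exists_presentation Γ(Y, V) Γ(X, U)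
    exact ⟨n, α, hα, (CP.iff_pc hU hα e).1 (hG hle n α ⟨hα, RingHom.ext fun r => α.commutes r⟩)⟩
  · rintro ⟨n, α, hα, hp⟩
    exact good_of_chart f hU (h := hle) ⟨hα, RingHom.ext fun r => α.commutes r⟩ ((CP.iff_pc hU hα e).2 hp)

end Groth.L29.RelPC
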