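import Groth.Prelude.Def_MoreMor
import Groth.Agent.L29.RelPC.Bridge

/-!
Pseudo-coherent morphisms and relative pseudo-coherence of the structure sheaf.
-/

set_option autoImplicit false
set_option backward.defeqAttrib.useBackward true
set_option backward.isDefEq.respectTransparency false
set_option backward.isDefEq.respectTransparency.types false

universe u

open CategoryTheory CategoryTheory.Limits AlgebraicGeometry

attribute [local instance] HasDerivedCategory.standard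

namespace Groth.L29.RelPC

open Groth.L29.DC Groth.L29.DC.ClosedPC

attribute [local instance] ClosedPC.additive ClosedPC.exactLeft ClosedPC.exactRight

variable {X Y : Scheme.{u}}

/-- the structure sheaf on an affine open -/
theorem nonempty_unit_iso {U : X.Opens} (hU : IsAffineOpen U) [IsClosedImmersion U.toSpecΓ]
    [PreservesFiniteLimits (tilde.functor Γ(X, U))] :
    Nonempty ((DCoh.tildeD Γ(X, U)).obj (Dual.inD Γ(X, U) Γ(X, U)) ≅
      (pD U.toSpecΓ).obj ((resD U).obj (DCoh.inD X (Coh.structureModule X)))) := by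
  obtain ⟨a⟩ := nonempty_fromSpec hU (DCoh.inD X (Coh.structureModule X))
  haveI : (tilde.functor Γ(X, U)).Additive := inferInstance
  haveI : PreservesFiniteColimits (tilde.functor Γ(X, U)) := inferInstance
  exact ⟨((tilde.functor Γ(X, U)).mapDerivedCategorySingleFunctor 0).app _ ≪≫
    (DerivedCategory.singleFunctor _ 0).mapIso
      (tildeSelf (R := Γ(X, U)) ≪≫ (Scheme.Modules.restrictUnitIso hU.fromSpec).symm) ≪≫
    (((Scheme.Modules.restrictFunctor hU.fromSpec).mapDerivedCategorySingleFunctor 0).app _).symm ≪≫ a.symm⟩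

theorem CP.unit_iff {U : X.Opens} (hU : IsAffineOpen U) {Q : Type u} [CommRing Q] {h : Q →+* Γ(X, U)}
    (hh : Function.Surjective h) (m : ℤ) :
    CP U h m (DCoh.inD X (Coh.structureModule X)) ↔ Groth.L10.RelPC.Pc h m (Dual.inD Γ(X, U) Γ(X, U)) := by
  haveI := isClosedImmersion_toSpecΓ hU
  haveI := Groth.L18.TildeF.tilde_preservesFiniteLimits (R := Γ(X, U))
  obtain ⟨e⟩ := nonempty_unit_iso hU
  exact CP.iff_pc hU hh e

theorem unit_pc_iff {f : X ⟶ Y} (m : ℤ) :
    DerSch.IsNPseudoCoherent f m ↔ DerSch.IsPseudoCoherentRel f m (DCoh.inD X (Coh.structureModule X)) :=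
  let e := ((DerivedCategory.singleFunctorIsoCompQ X.Modules 0).app (Coh.structureModule X))
  ⟨rel_iso e.symm, rel_iso e⟩

variable (f : X ⟶ Y)

/-- pseudo-coherent ring map on a pair of affine opens -/
def HomPC (U : X.Opens) (V : Y.Opens) (h : U ≤ f ⁻¹ᵁ V) : Prop :=
  letI := (f.appLE V U h).hom.toAlgebra
  MoreMor.IsPseudoCoherentHom Γ(Y, V) Γ(X, U)

variable {f}

theorem good_of_homPC {U : X.Opens} {V : Y.Opens} {h : U ≤ f ⁻¹ᵁ V} (hU : IsAffineOpen U) (hP : HomPC f U V h)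
    (m : ℤ) : Good f m (DCoh.inD X (Coh.structureModule X)) U V := by
  letI := (f.appLE V U h).hom.toAlgebra
  obtain ⟨n, φ, hs, hP⟩ := hP
  exact good_of_chart f hU (h := h) ⟨hs, RingHom.ext fun r => φ.commutes r⟩
    ((CP.unit_iff hU hs m).2 (Groth.L10.RelPC.PCHom.pcModule' (φ := φ.toRingHom) hP m))

theorem homPC_of_good [LocallyOfFiniteType f] {U : X.Opens} {V : Y.Opens} {h : U ≤ f ⁻¹ᵁ V} (hU : IsAffineOpen U)
    (hV : IsAffineOpen V) (hG : ∀ m, Good f m (DCoh.inD X (Coh.structureModule X)) U V) : HomPC f U V h := by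
  letI := (f.appLE V U h).hom.toAlgebra
  haveI : Algebra.FiniteType Γ(Y, V) Γ(X, U) := f.finiteType_appLE hV hU h
  obtain ⟨n, α, hα⟩ := Groth.L10.RelPC.exists_presentation Γ(Y, V) Γ(X, U)
  exact ⟨n, α, hα, Groth.L10.RelPC.PCHom.of_forall (φ := α.toRingHom) fun m =>
    (CP.unit_iff hU hα m).1 (hG m h n α ⟨hα, RingHom.ext fun r => α.commutes r⟩)⟩

theorem finiteType_of_homPC {U : X.Opens} {V : Y.Opens} {h : U ≤ f ⁻¹ᵁ V} (hP : HomPC f U V h) :
    (f.appLE V U h).hom.FiniteType := by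
  letI := (f.appLE V U h).hom.toAlgebra
  obtain ⟨n, φ, hs, -⟩ := hP
  exact (Algebra.FiniteType.iff_quotient_mvPolynomial''.2 ⟨n, φ, hs⟩ : Algebra.FiniteType Γ(Y, V) Γ(X, U))

theorem lft_of_local (hK : ∀ x : X, ∃ (U : X.Opens) (V : Y.Opens) (h : U ≤ f ⁻¹ᵁ V),
    IsAffineOpen U ∧ IsAffineOpen V ∧ x ∈ U ∧ HomPC f U V h) : LocallyOfFiniteType f := by
  rw [HasRingHomProperty.iff_exists_appLE (P := @LocallyOfFiniteType)
    (RingHom.finiteType_stableUnderComposition.stableUnderCompositionWithLocalizationAway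
      RingHom.finiteType_holdsForLocalizationAway).left]
  intro x
  obtain ⟨U, V, h, hU, hV, hx, hP⟩ := hK x
  exact ⟨⟨V, hV⟩, ⟨U, hU⟩, hx, h, finiteType_of_homPC hP⟩

theorem mor_of_local (hK : ∀ x : X, ∃ (U : X.Opens) (V : Y.Opens) (h : U ≤ f ⁻¹ᵁ V),
    IsAffineOpen U ∧ IsAffineOpen V ∧ x ∈ U ∧ HomPC f U V h) : MoreMor.IsPseudoCoherentMor f := by
  intro U V hU hV hle
  haveI := lft_of_local hK
  refine homPC_of_good hU hV fun m => good_of_local (fun x => ?_) hU hV hle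
  obtain ⟨U₀, V₀, h₀, hU₀, hV₀, hx, hP⟩ := hK x
  exact ⟨U₀, V₀, hx, hU₀, hV₀, h₀, good_of_homPC hU₀ hP m⟩

theorem exists_affine (x : X) (f : X ⟶ Y) : ∃ (U : X.Opens) (V : Y.Opens) (_ : U ≤ f ⁻¹ᵁ V),
    IsAffineOpen U ∧ IsAffineOpen V ∧ x ∈ U := by
  obtain ⟨_, ⟨V, hV, rfl⟩, hy, -⟩ :=
    Y.isBasis_affineOpens.exists_subset_of_mem_open (Set.mem_univ (f x)) isOpen_univ
  obtain ⟨_, ⟨U, hU, rfl⟩, hx, hle⟩ := X.isBasis_affineOpens.exists_subset_of_mem_open (show x ∈ f ⁻¹ᵁ V from hy)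
    (f ⁻¹ᵁ V).isOpen
  exact ⟨U, V, hle, hU, hV, hx⟩

theorem lft_of_mor (hf : MoreMor.IsPseudoCoherentMor f) : LocallyOfFiniteType f :=
  lft_of_local fun x => by
    obtain ⟨U, V, h, hU, hV, hx⟩ := exists_affine x f
    exact ⟨U, V, h, hU, hV, hx, hf U V hU hV h⟩

theorem mor_iff : MoreMor.IsPseudoCoherentMor f ↔ LocallyOfFiniteType f ∧ ∀ m, DerSch.IsNPseudoCoherent f m := by
  constructor
  · intro hf
    haveI := lft_of_mor hf
    exact ⟨inferInstance, fun m => (unit_pc_iff m).2 (rel_iff.2 fun U V hU hV h => good_of_homPC hU (hf U V hU hV h) m)⟩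
  · rintro ⟨_, hf⟩ U V hU hV h
    exact homPC_of_good hU hV fun m => good_of_rel ((unit_pc_iff m).1 (hf m)) hU hV h

end Groth.L29.RelPC
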