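import Groth.Agent.L29.RelPC.Chart
import Mathlib.AlgebraicGeometry.Morphisms.FiniteType

/-!
Relative pseudo-coherence may be tested on every pair of affine opens and with every chart.
-/

set_option autoImplicit false
set_option backward.defeqAttrib.useBackward true
set_option backward.isDefEq.respectTransparency false
set_option backward.isDefEq.respectTransparency.types false

universe u

open CategoryTheory CategoryTheory.Limits AlgebraicGeometry Opposite TopologicalSpace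

attribute [local instance] HasDerivedCategory.standard

namespace Groth.L29.RelPC

open Groth.L10.RelPC

variable {X Y : Scheme.{u}} (f : X ⟶ Y)

/-- the test on every chart over the pair `U`, `V` -/
def Good (m : ℤ) (K : DCoh.D X) (U : X.Opens) (V : Y.Opens) : Prop :=
  ∀ (h : U ≤ f ⁻¹ᵁ V) (n : ℕ) (φ : MvPolynomial (Fin n) Γ(Y, V) →+* Γ(X, U)),
    DerSch.IsChart f U V h φ → CP U φ m K

theorem exists_isChart [LocallyOfFiniteType f] {U : X.Opens} (hU : IsAffineOpen U) {V : Y.Opens}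
    (hV : IsAffineOpen V) (h : U ≤ f ⁻¹ᵁ V) :
    ∃ (n : ℕ) (φ : MvPolynomial (Fin n) Γ(Y, V) →+* Γ(X, U)), DerSch.IsChart f U V h φ := by
  letI := (f.appLE V U h).hom.toAlgebra
  haveI : Algebra.FiniteType Γ(Y, V) Γ(X, U) := f.finiteType_appLE hV hU h
  obtain ⟨n, α, hα⟩ := exists_presentation Γ(Y, V) Γ(X, U)
  exact ⟨n, (α : MvPolynomial (Fin n) Γ(Y, V) →+* Γ(X, U)), hα, RingHom.ext fun r => α.commutes r⟩

theorem good_of_chart {U : X.Opens} (hU : IsAffineOpen U) {V : Y.Opens} {h : U ≤ f ⁻¹ᵁ V} {n : ℕ}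
    {φ : MvPolynomial (Fin n) Γ(Y, V) →+* Γ(X, U)} (hφ : DerSch.IsChart f U V h φ) {m : ℤ} {K : DCoh.D X}
    (hK : CP U φ m K) : Good f m K U V :=
  fun _ _ ψ hψ => (CP.indep hU φ hφ.1 ψ hψ.1 (hφ.2.trans hψ.2.symm) m K).1 hK

theorem exists_chart_loc {U : X.Opens} (hU : IsAffineOpen U) {V : Y.Opens} {h : U ≤ f ⁻¹ᵁ V} {n : ℕ}
    {φ : MvPolynomial (Fin n) Γ(Y, V) →+* Γ(X, U)} (hφ : DerSch.IsChart f U V h φ)
    (p : MvPolynomial (Fin n) Γ(Y, V)) :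
    ∃ (h' : Localization.Away p →+* Γ(X, X.basicOpen (φ p)))
      (ψ : MvPolynomial (Fin (n + 1)) Γ(Y, V) →+* Γ(X, X.basicOpen (φ p))),
      Function.Surjective h' ∧
      h'.comp (algebraMap _ _) = ((X.presheaf.map (homOfLE (X.basicOpen_le (φ p))).op).hom).comp φ ∧
      DerSch.IsChart f (X.basicOpen (φ p)) V ((X.basicOpen_le (φ p)).trans h) ψ ∧
      ∀ (m : ℤ) (K : DCoh.D X), CP (X.basicOpen (φ p)) ψ m K ↔ CP (X.basicOpen (φ p)) h' m K := by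
  obtain ⟨h', hs, hc⟩ := exists_loc hU φ hφ.1 p
  obtain ⟨τ, hτs, hτ, hτC⟩ := exists_tau p
  let e := (MvPolynomial.finSuccEquiv Γ(Y, V) n).toRingEquiv
  let σ : MvPolynomial (Fin (n + 1)) Γ(Y, V) →+* Localization.Away p := τ.comp (RingHomClass.toRingHom e)
  have hσs : Function.Surjective σ := hτs.comp e.surjective
  have hσ : PCHom σ := (PCHom.ringEquiv e).comp hτ
  refine ⟨h', h'.comp σ, hs, hc, ⟨hs.comp hσs, RingHom.ext fun r => ?_⟩, fun m K =>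
    CP.comp_iff (hU.basicOpen _) h' hs σ hσs hσ rfl m K⟩
  have e0 : e (MvPolynomial.C r) = Polynomial.C (MvPolynomial.C r) := by
    simp [e, MvPolynomial.finSuccEquiv_apply]
  change h' (τ (e (MvPolynomial.C r))) = _
  rw [e0, show τ (Polynomial.C (MvPolynomial.C r)) = algebraMap _ _ (MvPolynomial.C r) from RingHom.congr_fun hτC _,
    show h' (algebraMap _ _ (MvPolynomial.C r)) = (X.presheaf.map (homOfLE (X.basicOpen_le (φ p))).op).hom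
      (φ (MvPolynomial.C r)) from RingHom.congr_fun hc _,
    show φ (MvPolynomial.C r) = (f.appLE V U h).hom r from RingHom.congr_fun hφ.2 r]
  exact ConcreteCategory.congr_hom (f.appLE_map h (homOfLE (X.basicOpen_le (φ p))).op) r

variable {f}

theorem Good.loc [LocallyOfFiniteType f] {m : ℤ} {K : DCoh.D X} {U : X.Opens} (hU : IsAffineOpen U) {V : Y.Opens}
    (hV : IsAffineOpen V) (h : U ≤ f ⁻¹ᵁ V) (hG : Good f m K U V) (g : Γ(X, U)) :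
    Good f m K (X.basicOpen g) V := by
  obtain ⟨n, φ, hφ⟩ := exists_isChart f hU hV h
  obtain ⟨p, rfl⟩ := hφ.1 g
  obtain ⟨h', ψ, hs, hc, hψ, hiff⟩ := exists_chart_loc f hU hφ p
  exact good_of_chart f (hU.basicOpen _) hψ ((hiff m K).2 ((hG h n φ hφ).loc hU φ hφ.1 p h' hc hs))

theorem Good.of_basicOpen [LocallyOfFiniteType f] {m : ℤ} {K : DCoh.D X} {U : X.Opens} (hU : IsAffineOpen U)
    {V : Y.Opens} (hV : IsAffineOpen V) (h : U ≤ f ⁻¹ᵁ V)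
    (hG : ∀ x ∈ U, ∃ g : Γ(X, U), x ∈ X.basicOpen g ∧ Good f m K (X.basicOpen g) V) : Good f m K U V := by
  obtain ⟨n, φ, hφ⟩ := exists_isChart f hU hV h
  refine good_of_chart f hU hφ (CP.of_cover hU φ hφ.1 fun x hx => ?_)
  obtain ⟨g, hxg, hg⟩ := hG x hx
  obtain ⟨p, rfl⟩ := hφ.1 g
  obtain ⟨h', ψ, hs, hc, hψ, hiff⟩ := exists_chart_loc f hU hφ p
  exact ⟨p, h', hxg, hc, (hiff m K).1 (hg _ _ ψ hψ)⟩

theorem good_base_iff [LocallyOfFiniteType f] {m : ℤ} {K : DCoh.D X} {U : X.Opens} (hU : IsAffineOpen U)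
    {V : Y.Opens} (hV : IsAffineOpen V) (a : Γ(Y, V)) (h : U ≤ f ⁻¹ᵁ Y.basicOpen a) :
    Good f m K U (Y.basicOpen a) ↔ Good f m K U V := by
  have h0 : U ≤ f ⁻¹ᵁ V := h.trans (f.preimage_mono (Y.basicOpen_le a))
  obtain ⟨n, φ, hφ⟩ := exists_isChart f hU hV h0
  letI : Algebra Γ(Y, V) Γ(Y, Y.basicOpen a) := ((Y.presheaf.map (homOfLE (Y.basicOpen_le a)).op).hom).toAlgebra
  haveI : IsLocalization.Away a Γ(Y, Y.basicOpen a) := hV.isLocalization_basicOpen a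
  let φ' : MvPolynomial (Fin n) Γ(Y, Y.basicOpen a) →+* Γ(X, U) :=
    MvPolynomial.eval₂Hom (f.appLE (Y.basicOpen a) U h).hom fun i => φ (MvPolynomial.X i)
  have hc : φ'.comp (MvPolynomial.map (algebraMap Γ(Y, V) Γ(Y, Y.basicOpen a))) = φ :=
    MvPolynomial.ringHom_ext (fun r => by
      simp only [RingHom.comp_apply, MvPolynomial.map_C, φ', MvPolynomial.eval₂Hom_C]
      exact (ConcreteCategory.congr_hom (f.map_appLE h (homOfLE (Y.basicOpen_le a)).op) r).trans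
        (RingHom.congr_fun hφ.2 r).symm) (fun i => by simp [φ'])
  have hφ' : DerSch.IsChart f U (Y.basicOpen a) h φ' := by
    refine ⟨fun b => ?_, RingHom.ext fun r => MvPolynomial.eval₂Hom_C _ _ r⟩
    obtain ⟨q, rfl⟩ := hφ.1 b
    exact ⟨_, RingHom.congr_fun hc q⟩
  have := CP.base_iff hU a φ hφ.1 φ' hc m K
  exact ⟨fun hg => good_of_chart f hU hφ (this.2 (hg h n φ' hφ')),
    fun hg => good_of_chart f hU hφ' (this.1 (hg h0 n φ hφ))⟩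

/-- it suffices to test near every point -/
theorem good_of_local [LocallyOfFiniteType f] {m : ℤ} {K : DCoh.D X}
    (hK : ∀ x : X, ∃ (U₀ : X.Opens) (V₀ : Y.Opens), x ∈ U₀ ∧ IsAffineOpen U₀ ∧ IsAffineOpen V₀ ∧
      U₀ ≤ f ⁻¹ᵁ V₀ ∧ Good f m K U₀ V₀)
    {U : X.Opens} (hU : IsAffineOpen U) {V : Y.Opens} (hV : IsAffineOpen V) (h : U ≤ f ⁻¹ᵁ V) :
    Good f m K U V := by
  refine Good.of_basicOpen hU hV h fun x hx => ?_
  obtain ⟨U₀, V₀, hx₀, hU₀, hV₀, h₀, hG⟩ := hK x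
  obtain ⟨a, a₀, ha, hxa⟩ := exists_basicOpen_le_affine_inter hV hV₀ (f x) ⟨h hx, h₀ hx₀⟩
  obtain ⟨g₁, hg₁, hxg₁⟩ := hU.exists_basicOpen_le (V := U₀ ⊓ f ⁻¹ᵁ Y.basicOpen a) ⟨x, hx₀, hxa⟩ hx
  obtain ⟨g₂, g₀, hg, hxg₂⟩ := exists_basicOpen_le_affine_inter (hU.basicOpen g₁) hU₀ x ⟨hxg₁, hx₀⟩
  obtain ⟨g, hgg⟩ := hU.basicOpen_basicOpen_is_basicOpen g₁ g₂
  refine ⟨g, hgg ▸ hxg₂, ?_⟩
  have e : X.basicOpen g = X.basicOpen g₀ := hgg.trans hg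
  have hle : X.basicOpen g₀ ≤ f ⁻¹ᵁ Y.basicOpen a :=
    hg ▸ ((X.basicOpen_le g₂).trans (hg₁.trans inf_le_right))
  rw [e]
  refine (good_base_iff (hU₀.basicOpen g₀) hV a hle).1 ?_
  rw [ha] at hle ⊢
  exact (good_base_iff (hU₀.basicOpen g₀) hV₀ a₀ hle).2 (hG.loc hU₀ hV₀ h₀ g₀)

theorem exists_good {m : ℤ} {K : DCoh.D X} (hK : DerSch.IsPseudoCoherentRel f m K) (x : X) :
    ∃ (U₀ : X.Opens) (V₀ : Y.Opens), x ∈ U₀ ∧ IsAffineOpen U₀ ∧ IsAffineOpen V₀ ∧ U₀ ≤ f ⁻¹ᵁ V₀ ∧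
      Good f m K U₀ V₀ := by
  obtain ⟨-, 𝒱, h𝒱, hh⟩ := hK
  obtain ⟨V, hV⟩ := Opens.mem_iSup.1 (show f x ∈ (⨆ V ∈ 𝒱, (V : Y.Opens)) by rw [h𝒱]; trivial)
  obtain ⟨hV𝒱, hxV⟩ := Opens.mem_iSup.1 hV
  obtain ⟨𝒰, h𝒰, h'⟩ := hh V hV𝒱
  obtain ⟨U, hU⟩ := Opens.mem_iSup.1 (show x ∈ (⨆ U ∈ 𝒰, (U : X.Opens)) by rw [h𝒰]; exact hxV)
  obtain ⟨hU𝒰, hxU⟩ := Opens.mem_iSup.1 hU
  have hle : (U : X.Opens) ≤ f ⁻¹ᵁ (V : Y.Opens) := h𝒰 ▸ le_iSup₂_of_le U hU𝒰 le_rfl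
  obtain ⟨n, φ, hc, hp⟩ := h' U hU𝒰 hle
  exact ⟨U, V, hxU, U.2, V.2, hle, good_of_chart f U.2 hc ((chartPC_iff U.2 hc.1 m K).1 hp)⟩

/-- all pairs of affine opens, all charts -/
theorem good_of_rel {m : ℤ} {K : DCoh.D X} (hK : DerSch.IsPseudoCoherentRel f m K)
    {U : X.Opens} (hU : IsAffineOpen U) {V : Y.Opens} (hV : IsAffineOpen V) (h : U ≤ f ⁻¹ᵁ V) :
    Good f m K U V :=
  haveI := hK.1
  good_of_local (exists_good hK) hU hV h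

theorem rel_of_local [LocallyOfFiniteType f] {m : ℤ} {K : DCoh.D X}
    (hK : ∀ x : X, ∃ (U₀ : X.Opens) (V₀ : Y.Opens), x ∈ U₀ ∧ IsAffineOpen U₀ ∧ IsAffineOpen V₀ ∧
      U₀ ≤ f ⁻¹ᵁ V₀ ∧ Good f m K U₀ V₀) : DerSch.IsPseudoCoherentRel f m K := by
  refine ⟨inferInstance, Set.univ, ?_, fun V _ => ⟨{U | (U : X.Opens) ≤ f ⁻¹ᵁ (V : Y.Opens)}, ?_, fun U _ h => ?_⟩⟩
  · refine eq_top_iff.2 fun y _ => ?_
    obtain ⟨_, ⟨V, hV, rfl⟩, hy, -⟩ := Y.isBasis_affineOpens.exists_subset_of_mem_open (Set.mem_univ y) isOpen_univ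
    exact Opens.mem_iSup.2 ⟨⟨V, hV⟩, Opens.mem_iSup.2 ⟨trivial, hy⟩⟩
  · refine le_antisymm (iSup₂_le fun _ h => h) fun x hx => ?_
    obtain ⟨_, ⟨U, hU, rfl⟩, hy, hle⟩ :=
      X.isBasis_affineOpens.exists_subset_of_mem_open hx (f ⁻¹ᵁ (V : Y.Opens)).isOpen
    exact Opens.mem_iSup.2 ⟨⟨U, hU⟩, Opens.mem_iSup.2 ⟨hle, hy⟩⟩
  · obtain ⟨n, φ, hφ⟩ := exists_isChart f U.2 V.2 h
    exact ⟨n, φ, hφ, (chartPC_iff U.2 hφ.1 m K).2 (good_of_local hK U.2 V.2 h h n φ hφ)⟩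

/-- relative pseudo-coherence in terms of all charts -/
theorem rel_iff [LocallyOfFiniteType f] {m : ℤ} {K : DCoh.D X} :
    DerSch.IsPseudoCoherentRel f m K ↔ ∀ (U : X.Opens) (V : Y.Opens), IsAffineOpen U → IsAffineOpen V →
      U ≤ f ⁻¹ᵁ V → Good f m K U V := by
  refine ⟨fun hK U V hU hV h => good_of_rel hK hU hV h, fun hK => rel_of_local fun x => ?_⟩
  obtain ⟨_, ⟨V, hV, rfl⟩, hy, -⟩ :=
    Y.isBasis_affineOpens.exists_subset_of_mem_open (Set.mem_univ (f x)) isOpen_univ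
  obtain ⟨_, ⟨U, hU, rfl⟩, hx, hle⟩ := X.isBasis_affineOpens.exists_subset_of_mem_open (show x ∈ f ⁻¹ᵁ V from hy)
    (f ⁻¹ᵁ V).isOpen
  exact ⟨U, V, hx, hU, hV, hle, hK U V hU hV hle⟩

end Groth.L29.RelPC
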