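import Groth.Agent.L29.DCoh.Summand
import Groth.Agent.L10.DerTrunc
import Mathlib.Algebra.Homology.DerivedCategory.ShortExact

/-!
Pseudo-coherence from terms and from cohomology.
-/

set_option autoImplicit false
set_option backward.defeqAttrib.useBackward true
set_option backward.isDefEq.respectTransparency false
set_option backward.isDefEq.respectTransparency.types false

universe u

open CategoryTheory CategoryTheory.Limits CategoryTheory.Pretriangulated AlgebraicGeometry

attribute [local instance] HasDerivedCategory.standard

namespace Groth.L29.RelPC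

open Groth.L29.DC

variable {X : Scheme.{u}}

theorem pc_single {m i : ℤ} {M : X.Modules} (h : DCoh.IsPseudoCoherentD (m - i) (DCoh.inD X M)) :
    DCoh.IsPseudoCoherentD m ((DerivedCategory.singleFunctor X.Modules i).obj M) :=
  isPseudoCoherentD_of_iso (((DerivedCategory.singleFunctors _).shiftIso (-i) i 0 (by omega)).app M)
    (pc_shift h (-i) m (by omega))

/-- pseudo-coherence from the terms -/
theorem pc_of_terms (m : ℤ) : ∀ (k : ℕ) (F : CochainComplex X.Modules ℤ),
    (∀ i, m + (k : ℤ) ≤ i → IsZero (F.X i)) →
    (∀ i, DCoh.IsPseudoCoherentD (m - i) (DCoh.inD X (F.X i))) →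
    DCoh.IsPseudoCoherentD m (DCoh.toD X F) := by
  intro k
  induction k with
  | zero =>
    intro F hF _
    exact pc_of_isZero fun i hi => (ShortComplex.isZero_homology_of_isZero_X₂ (F.sc i) (hF i (by simpa using hi))).of_iso
      ((DerivedCategory.homologyFunctorFactors _ i).app F)
  | succ k ih =>
    intro F hF h
    let b : ℤ := m + k
    let S₁ := (HomologicalComplex.single X.Modules (ComplexShape.up ℤ) b).obj (F.X b)
    let a : S₁ ⟶ F := HomologicalComplex.mkHomFromSingle (𝟙 _) fun j hj => by
      obtain rfl : b + 1 = j := hj
      exact (hF (b + 1) (by simp only [b]; push_cast; omega)).eq_of_tgt _ _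
    haveI : ∀ i, Mono (a.f i) := fun i => by
      by_cases hi : i = b
      · subst hi
        rw [HomologicalComplex.mkHomFromSingle_f]
        infer_instance
      · exact (HomologicalComplex.isZero_single_obj_X _ _ _ _ hi).mono _
    haveI : Mono a := HomologicalComplex.mono_of_mono_f a inferInstance
    let S : ShortComplex (CochainComplex X.Modules ℤ) := ShortComplex.mk a (cokernel.π a) (cokernel.condition a)
    have hS : S.ShortExact := ShortComplex.ShortExact.mk (ShortComplex.exact_of_g_is_cokernel _ (cokernelIsCokernel a))
    have hSi : ∀ i, (S.map (HomologicalComplex.eval X.Modules (ComplexShape.up ℤ) i)).ShortExact := fun i =>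
      hS.map_of_exact _
    have hb : IsZero (S.X₃.X b) := by
      haveI : IsIso (a.f b) := by
        rw [HomologicalComplex.mkHomFromSingle_f]; infer_instance
      haveI : Epi (S.map (HomologicalComplex.eval X.Modules (ComplexShape.up ℤ) b)).f := inferInstanceAs (Epi (a.f b))
      haveI := (hSi b).epi_g
      exact IsZero.of_epi_eq_zero (S.map (HomologicalComplex.eval X.Modules (ComplexShape.up ℤ) b)).g
        ((cancel_epi (S.map (HomologicalComplex.eval X.Modules (ComplexShape.up ℤ) b)).f).1 (by
          rw [comp_zero]; exact (S.map _).zero))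
    have hne : ∀ i, i ≠ b → IsIso ((cokernel.π a).f i) := fun i hi => by
      exact (hSi i).isIso_g_iff.2 (HomologicalComplex.isZero_single_obj_X (ComplexShape.up ℤ) b (F.X b) i hi)
    refine (pc_two_out_of_three (DerivedCategory.triangleOfSES_distinguished hS) m).2.1 ?_ (ih S.X₃ ?_ ?_)
    · exact isPseudoCoherentD_of_iso ((DerivedCategory.singleFunctorIsoCompQ X.Modules b).app (F.X b))
        (pc_single (h b))
    · intro i hi
      by_cases hib : i = b
      · subst hib; exact hb
      · haveI := hne i hib
        exact (hF i (by push_cast; omega)).of_iso (asIso ((cokernel.π a).f i)).symm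
    · intro i
      by_cases hib : i = b
      · subst hib
        exact pc_of_isZero fun j _ => (DerivedCategory.homologyFunctor _ j).map_isZero
          ((DerivedCategory.singleFunctor _ 0).map_isZero hb)
      · haveI := hne i hib
        exact isPseudoCoherentD_of_iso ((DerivedCategory.singleFunctor _ 0).mapIso (asIso ((cokernel.π a).f i))) (h i)

/-- pseudo-coherence from the cohomology -/
theorem pc_of_homology (m : ℤ) : ∀ (k : ℕ) (E : DCoh.D X), E.IsLE (m + (k : ℤ) - 1) →
    (∀ i, DCoh.IsPseudoCoherentD (m - i) (DCoh.inD X (DCoh.HD E i))) → DCoh.IsPseudoCoherentD m E := by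
  intro k
  induction k with
  | zero =>
    intro E hE _
    exact pc_of_isZero fun i hi => DerivedCategory.isZero_of_isLE E (m + ((0 : ℕ) : ℤ) - 1) i (by push_cast; omega)
  | succ k ih =>
    intro E hE h
    let b : ℤ := m + k
    let L := (DerivedCategory.TStructure.t.truncLT b).obj E
    let R := (DerivedCategory.TStructure.t.truncGE b).obj E
    have hT := DerivedCategory.TStructure.t.triangleLTGE_distinguished b E
    have hL : L.IsLE (b - 1) := DerivedCategory.TStructure.t.isLE_truncLT_obj _ _ _ (by omega)
    have hR : R.IsLE b := by
      rw [DerivedCategory.isLE_iff]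
      intro i hi
      haveI := Groth.L10.isIso_H_π b i (by omega) E
      haveI := hE
      exact (DerivedCategory.isZero_of_isLE E (m + ((k + 1 : ℕ) : ℤ) - 1) i (by simp only [b] at hi; push_cast; omega)).of_iso
        (asIso ((DerivedCategory.homologyFunctor _ i).map ((DerivedCategory.TStructure.t.truncGEπ b).app E))).symm
    haveI : R.IsGE b := inferInstance
    obtain ⟨e⟩ := Groth.L10.exists_iso_single_H R b
    haveI := Groth.L10.isIso_H_π b b le_rfl E
    refine (pc_two_out_of_three hT m).2.1 (ih L ?_ fun i => ?_) ?_
    · exact hL
    · by_cases hi : i < b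
      · haveI := Groth.L10.isIso_H_ι b i hi E
        exact isPseudoCoherentD_of_iso ((DerivedCategory.singleFunctor _ 0).mapIso (asIso
          ((DerivedCategory.homologyFunctor _ i).map ((DerivedCategory.TStructure.t.truncLTι b).app E))).symm) (h i)
      · exact pc_of_isZero fun j _ => (DerivedCategory.homologyFunctor _ j).map_isZero
          ((DerivedCategory.singleFunctor _ 0).map_isZero (DerivedCategory.isZero_of_isLE L (b - 1) i (by omega)))
    · exact isPseudoCoherentD_of_iso ((DerivedCategory.singleFunctor _ b).mapIso
        (asIso ((DerivedCategory.homologyFunctor _ b).map ((DerivedCategory.TStructure.t.truncGEπ b).app E))) ≪≫ e.symm)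
        (pc_single (h b))

end Groth.L29.RelPC
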