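import Groth.Agent.L29.RelPC.Main
import Groth.Agent.L29.RelPC.Terms

/-!
Formal properties of relative pseudo-coherence.
-/

set_option autoImplicit false
set_option backward.defeqAttrib.useBackward true
set_option backward.isDefEq.respectTransparency false
set_option backward.isDefEq.respectTransparency.types false

universe u

open CategoryTheory CategoryTheory.Limits CategoryTheory.Pretriangulated AlgebraicGeometry

attribute [local instance] HasDerivedCategory.standard

namespace Groth.L29.RelPC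

open Groth.L29.DC Groth.L29.DC.ClosedPC

attribute [local instance] ClosedPC.additive ClosedPC.exactLeft ClosedPC.exactRight

variable {X Y : Scheme.{u}}

/-- restriction to `U` followed by direct image along a chart -/
noncomputable abbrev chartF (U : X.Opens) {Q : Type u} [CommRing Q] (h : Q →+* Γ(X, U))
    [IsClosedImmersion (chartI U h)] : DCoh.D X ⥤ DCoh.D (Spec (CommRingCat.of Q)) :=
  resD U ⋙ pD (chartI U h)

variable {f : X ⟶ Y}

theorem rel_of_imp [LocallyOfFiniteType f] {K : DCoh.D X} {m : ℤ}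
    (h : ∀ (U : X.Opens) (n : ℕ) (V : Y.Opens) (φ : MvPolynomial (Fin n) Γ(Y, V) →+* Γ(X, U)),
      IsAffineOpen U → IsAffineOpen V → (∀ h, DerSch.IsChart f U V h φ) → U ≤ f ⁻¹ᵁ V →
      ∀ _ : IsClosedImmersion (chartI U φ), DCoh.IsPseudoCoherentD m ((chartF U φ).obj K)) :
    DerSch.IsPseudoCoherentRel f m K :=
  rel_iff.2 fun U V hU hV _ hle n φ hφ =>
    ⟨isClosedImmersion_chartI hU hφ.1, h U n V φ hU hV (fun _ => hφ) hle (isClosedImmersion_chartI hU hφ.1)⟩

theorem pc_chart {K : DCoh.D X} {m : ℤ} (h : DerSch.IsPseudoCoherentRel f m K) {U : X.Opens} {V : Y.Opens}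
    {n : ℕ} {φ : MvPolynomial (Fin n) Γ(Y, V) →+* Γ(X, U)} (hU : IsAffineOpen U) (hV : IsAffineOpen V)
    (hle : U ≤ f ⁻¹ᵁ V) (hφ : DerSch.IsChart f U V hle φ) [IsClosedImmersion (chartI U φ)] :
    DCoh.IsPseudoCoherentD m ((chartF U φ).obj K) :=
  (good_of_rel h hU hV hle hle n φ hφ).2

theorem rel_triangle [LocallyOfFiniteType f] (n : ℤ) (T : Triangle (DCoh.D X)) (hT : T ∈ distinguishedTriangles) :
    (DerSch.IsPseudoCoherentRel f (n + 1) T.obj₁ → DerSch.IsPseudoCoherentRel f n T.obj₂ →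
        DerSch.IsPseudoCoherentRel f n T.obj₃) ∧
      (DerSch.IsPseudoCoherentRel f n T.obj₁ → DerSch.IsPseudoCoherentRel f n T.obj₃ →
        DerSch.IsPseudoCoherentRel f n T.obj₂) ∧
      (DerSch.IsPseudoCoherentRel f n T.obj₂ → DerSch.IsPseudoCoherentRel f (n - 1) T.obj₃ →
        DerSch.IsPseudoCoherentRel f n T.obj₁) :=
  ⟨fun h1 h2 => rel_of_imp fun U _ _ φ hU hV hφ hle _ => (pc_two_out_of_three
      ((chartF U φ).map_distinguished _ hT) n).1 (pc_chart h1 hU hV hle (hφ hle)) (pc_chart h2 hU hV hle (hφ hle)),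
    fun h1 h2 => rel_of_imp fun U _ _ φ hU hV hφ hle _ => (pc_two_out_of_three
      ((chartF U φ).map_distinguished _ hT) n).2.1 (pc_chart h1 hU hV hle (hφ hle)) (pc_chart h2 hU hV hle (hφ hle)),
    fun h1 h2 => rel_of_imp fun U _ _ φ hU hV hφ hle _ => (pc_two_out_of_three
      ((chartF U φ).map_distinguished _ hT) (n - 1)).2.2 (by rw [sub_add_cancel]; exact pc_chart h1 hU hV hle (hφ hle))
        (pc_chart h2 hU hV hle (hφ hle)) |> fun r => (by rwa [sub_add_cancel] at r)⟩

theorem rel_biprod (m : ℤ) (E K : DCoh.D X) [HasBinaryBiproduct E K]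
    (h : DerSch.IsPseudoCoherentRel f m (E ⊞ K)) :
    DerSch.IsPseudoCoherentRel f m E ∧ DerSch.IsPseudoCoherentRel f m K := by
  haveI := h.1
  have key : ∀ (U : X.Opens) (n : ℕ) (V : Y.Opens) (φ : MvPolynomial (Fin n) Γ(Y, V) →+* Γ(X, U)),
      IsAffineOpen U → IsAffineOpen V → (∀ hle, DerSch.IsChart f U V hle φ) → U ≤ f ⁻¹ᵁ V →
      ∀ _ : IsClosedImmersion (chartI U φ), DCoh.IsPseudoCoherentD m ((chartF U φ).obj E) ∧
        DCoh.IsPseudoCoherentD m ((chartF U φ).obj K) := fun U n V φ hU hV hφ hle _ => by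
    haveI := preservesBinaryBiproducts_of_preservesBiproducts (chartF U φ)
    exact pc_of_biprod _ _ (isPseudoCoherentD_of_iso ((chartF U φ).mapBiprod E K) (pc_chart h hU hV hle (hφ hle)))
  exact ⟨rel_of_imp fun U n V φ hU hV hφ hle i => (key U n V φ hU hV hφ hle i).1,
    rel_of_imp fun U n V φ hU hV hφ hle i => (key U n V φ hU hV hφ hle i).2⟩

theorem rel_of_terms (m : ℤ) (F : CochainComplex X.Modules ℤ) (b : ℤ) (hb : ∀ i : ℤ, b < i → IsZero (F.X i))
    (h : ∀ i : ℤ, DerSch.IsPseudoCoherentRel f (m - i) (DCoh.inD X (F.X i))) :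
    DerSch.IsPseudoCoherentRel f m (DCoh.toD X F) := by
  haveI := (h 0).1
  refine rel_of_imp fun U n V φ hU hV hφ hle _ => ?_
  let P := Scheme.Modules.pushforward (chartI U φ)
  let R := Scheme.Modules.restrictFunctor U.ι
  let e : (chartF U φ).obj (DCoh.toD X F) ≅
      DCoh.toD _ ((P.mapHomologicalComplex (ComplexShape.up ℤ)).obj ((R.mapHomologicalComplex (ComplexShape.up ℤ)).obj F)) :=
    (pD (chartI U φ)).mapIso (resQIso U F) ≪≫ P.mapDerivedCategoryFactors.app _
  refine isPseudoCoherentD_of_iso e.symm (pc_of_terms m (b - m + 1).toNat _ (fun i hi => ?_) fun i => ?_)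
  · exact P.map_isZero (R.map_isZero (hb i (by omega)))
  · exact isPseudoCoherentD_of_iso ((pD (chartI U φ)).mapIso ((R.mapDerivedCategorySingleFunctor 0).app (F.X i)) ≪≫
      (P.mapDerivedCategorySingleFunctor 0).app _) (pc_chart (h i) hU hV hle (hφ hle))

theorem rel_of_homology (m : ℤ) (E : DCoh.D X) (b : ℤ) [E.IsLE b]
    (h : ∀ i : ℤ, DerSch.IsPseudoCoherentRel f (m - i) (DCoh.inD X (DCoh.HD E i))) :
    DerSch.IsPseudoCoherentRel f m E := by
  haveI := (h 0).1
  refine rel_of_imp fun U n V φ hU hV hφ hle _ => ?_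
  let i' := chartI U φ
  refine pc_of_homology m (b - m + 1).toNat _ ((DerivedCategory.isLE_iff _ _).2 fun j hj => ?_) fun j => ?_
  · refine (isZero_HD_iff i' _ j).2 ?_
    exact ((Scheme.Modules.restrictFunctor U.ι).map_isZero
      (DerivedCategory.isZero_of_isLE E b j (by omega))).of_iso (HDResIso U.ι E j)
  · obtain ⟨a⟩ := nonempty_HD_iso i' ((resD U).obj E) j
    refine isPseudoCoherentD_of_iso ?_ (pc_chart (h j) hU hV hle (hφ hle))
    exact (pD i').mapIso (((Scheme.Modules.restrictFunctor U.ι).mapDerivedCategorySingleFunctor 0).app _) ≪≫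
      ((Scheme.Modules.pushforward i').mapDerivedCategorySingleFunctor 0).app _ ≪≫
      (DerivedCategory.singleFunctor _ 0).mapIso
        (((Scheme.Modules.pushforward i').mapIso (HDResIso U.ι E j).symm) ≪≫ a.symm)

end Groth.L29.RelPC
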