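import Groth.Agent.L29.RelPC.PerfectMor
import Groth.Agent.L19.PerfectHomCases
import Groth.Agent.L29.DCoh.PushTilde
import Groth.Agent.L29.DCoh.TildeAlg
import Groth.Agent.L29.RelPC.Bridge

/-!
The direct image of the structure sheaf along a perfect closed immersion is perfect.
-/

set_option autoImplicit false
set_option backward.defeqAttrib.useBackward true
set_option backward.isDefEq.respectTransparency false
set_option backward.isDefEq.respectTransparency.types false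

universe u

open CategoryTheory CategoryTheory.Limits AlgebraicGeometry

attribute [local instance] HasDerivedCategory.standard

namespace Groth.L29.RelPC

open Groth.L29.DC

theorem perfectModule_of_hom {A B : Type u} [CommRing A] [CommRing B] [Algebra A B] [Module.Finite A B]
    (h : MoreMor.IsPerfectHom A B) : DRing.IsPerfectModule A B :=
  Groth.L10.DR.perfect_of_pc'_amp (hom_finite_iff.1 h.1) ((Groth.L10.DR.hasTorDimLE_iff_amp _).1 h.2.choose_spec)

theorem perfect_of_opens {X : Scheme.{u}} {K : DCoh.D X}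
    (h : ∀ x : X, ∃ (U : Scheme.{u}) (j : U ⟶ X) (_ : IsOpenImmersion j), x ∈ j.opensRange ∧
      DCoh.IsPerfect ((DCoh.restrictD j).obj K)) : DCoh.IsPerfect K := by
  refine perfect_of_on fun x => ?_
  obtain ⟨U, j, _, ⟨u, hu⟩, hj⟩ := h x
  obtain ⟨V, hV, hw⟩ := (isPerfect_iff_wit _).1 hj u
  exact ⟨_, V.ι ≫ j, inferInstance, ⟨⟨u, hV⟩, hu⟩, hw.of_iso ((resTransD j V.ι _ rfl).app K)⟩

theorem perfect_push {Z X : Scheme.{u}} (i : Z ⟶ X) [IsClosedImmersion i] (hi : MoreMor.IsPerfectMor i) :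
    DCoh.IsPerfect (DCoh.inD X ((Coh.push i).obj (Coh.structureModule Z))) := by
  refine perfect_of_opens fun x => ?_
  obtain ⟨_, ⟨V, hV, rfl⟩, hy, -⟩ := X.isBasis_affineOpens.exists_subset_of_mem_open (Set.mem_univ x) isOpen_univ
  refine ⟨_, hV.fromSpec, inferInstance, hV.opensRange_fromSpec.ge hy, ?_⟩
  let hU := hV.preimage i
  let φ : Γ(X, V) ⟶ Γ(Z, i ⁻¹ᵁ V) := i.app V
  let g := Spec.map φ
  have w : g ≫ hV.fromSpec = hU.fromSpec ≫ i := by
    have := hV.SpecMap_appLE_fromSpec i hU le_rfl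
    simpa [g, φ, Scheme.Hom.app_eq_appLE] using this
  have hr : i ⁻¹ᵁ hV.fromSpec.opensRange ≤ hU.fromSpec.opensRange := by
    rw [hV.opensRange_fromSpec, hU.opensRange_fromSpec]
  letI : Algebra Γ(X, V) Γ(Z, i ⁻¹ᵁ V) := φ.hom.toAlgebra
  haveI : Module.Finite Γ(X, V) Γ(Z, i ⁻¹ᵁ V) :=
    Module.Finite.of_surjective (Algebra.linearMap _ _) (i.app_surjective V hV)
  have hP : DRing.IsPerfectModule Γ(X, V) Γ(Z, i ⁻¹ᵁ V) := by
    refine perfectModule_of_hom ?_
    have h := hi (i ⁻¹ᵁ V) V hU hV le_rfl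
    rw [← Scheme.Hom.app_eq_appLE] at h
    exact h
  haveI := Groth.L18.TildeF.tilde_preservesFiniteLimits (R := Γ(X, V))
  haveI : (tilde.functor Γ(X, V)).Additive := inferInstance
  haveI : PreservesFiniteColimits (tilde.functor Γ(X, V)) := inferInstance
  let a := (Groth.L17.PushQCoh.pushRestrictIso i hV.fromSpec hU.fromSpec g hr w).app (Coh.structureModule Z)
  let b : Coh.structureModule (Spec Γ(Z, i ⁻¹ᵁ V)) ≅
      (tilde.functor Γ(Z, i ⁻¹ᵁ V)).obj (ModuleCat.of Γ(Z, i ⁻¹ᵁ V) Γ(Z, i ⁻¹ᵁ V)) := tildeSelf.symm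
  let c : (Scheme.Modules.restrictFunctor hV.fromSpec).obj ((Coh.push i).obj (Coh.structureModule Z)) ≅
      (tilde.functor Γ(X, V)).obj ((ModuleCat.restrictScalars φ.hom).obj (ModuleCat.of _ Γ(Z, i ⁻¹ᵁ V))) :=
    a ≪≫ (Scheme.Modules.pushforward g).mapIso (Scheme.Modules.restrictUnitIso hU.fromSpec ≪≫ b) ≪≫
      (Groth.L29.DC.PushTilde.pushTildeIso φ).app _
  let d : ModuleCat.of Γ(X, V) Γ(Z, i ⁻¹ᵁ V) ≅
      (ModuleCat.restrictScalars φ.hom).obj (ModuleCat.of _ Γ(Z, i ⁻¹ᵁ V)) :=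
    LinearEquiv.toModuleIso (X₂ := (ModuleCat.restrictScalars φ.hom).obj (ModuleCat.of _ Γ(Z, i ⁻¹ᵁ V)))
      { AddEquiv.refl Γ(Z, i ⁻¹ᵁ V) with map_smul' := fun r s => Algebra.smul_def r s }
  exact isPerfect_of_iso (((tilde.functor Γ(X, V)).mapDerivedCategorySingleFunctor 0).app _ ≪≫
    (DerivedCategory.singleFunctor _ 0).mapIso ((tilde.functor _).mapIso d ≪≫ c.symm) ≪≫
    (((Scheme.Modules.restrictFunctor hV.fromSpec).mapDerivedCategorySingleFunctor 0).app _).symm)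
    (TildeAlg.perfect_tilde hP)

end Groth.L29.RelPC
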