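import Groth.Agent.L29.RelPC.PerfClosed
import Groth.Agent.L07.RegImmLocal

/-!
Regular immersions are perfect; permanence of perfect morphisms under a smooth morphism.
-/

set_option autoImplicit false
set_option backward.defeqAttrib.useBackward true
set_option backward.isDefEq.respectTransparency false

universe u

open CategoryTheory CategoryTheory.Limits AlgebraicGeometry

attribute [local instance] HasDerivedCategory.standard

namespace Groth.L29.RelPC

theorem perfect_of_regularImmersion {Z X : Scheme.{u}} (i : Z ⟶ X) (hi : ∀ z, RegImm.IsRegularImmersionAt .koszul i z) :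
    MoreMor.IsPerfectMor i := by
  refine perfect_of_local fun z => ?_
  obtain ⟨⟨U, hU⟩, hz, hcl, rs, hrs, hker⟩ := hi z
  have hU' : IsAffineOpen (i ⁻¹ᵁ U) := by
    haveI := hcl
    haveI : IsAffine (U : Scheme.{u}) := hU
    haveI : IsAffineHom (i ∣_ U) := inferInstance
    exact isAffine_of_isAffineHom (i ∣_ U)
  refine ⟨i ⁻¹ᵁ U, U, le_rfl, hU', hU, hz, ?_⟩
  unfold HomPerf
  letI := (i.appLE U (i ⁻¹ᵁ U) le_rfl).hom.toAlgebra
  have hs : Function.Surjective (algebraMap Γ(X, U) Γ(Z, i ⁻¹ᵁ U)) := by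
    rw [RingHom.algebraMap_toAlgebra, ← Scheme.Hom.app_eq_appLE]
    exact Groth.L07.RegImmComp.app_surjective i U hU hcl
  haveI : Module.Finite Γ(X, U) Γ(Z, i ⁻¹ᵁ U) := Module.Finite.of_surjective (Algebra.linearMap _ _) hs
  refine perfectHom_of_module ?_
  have hk : Ideal.ofList rs = RingHom.ker (Algebra.ofId Γ(X, U) Γ(Z, i ⁻¹ᵁ U)) := by
    rw [← hker, Scheme.Hom.app_eq_appLE]
    rfl
  exact Groth.L29.Perfect.of_iso
    (Groth.L19.PerfectHom.inDIso ((Ideal.quotientEquivAlgOfEq Γ(X, U) hk).trans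
      (Ideal.quotientKerAlgEquivOfSurjective (f := Algebra.ofId Γ(X, U) Γ(Z, i ⁻¹ᵁ U)) hs)).toLinearEquiv)
    (Groth.L19.PerfectHom.perfect_quotient_of_koszulRegular rs hrs)

theorem regularAt_id (X : Scheme.{u}) (x : X) : RegImm.IsRegularImmersionAt .koszul (𝟙 X) x := by
  obtain ⟨_, ⟨U, hU, rfl⟩, hx, -⟩ := X.isBasis_affineOpens.exists_subset_of_mem_open (Set.mem_univ x) isOpen_univ
  refine ⟨⟨U, hU⟩, hx, inferInstance, [], ?_, ?_⟩
  · show LCI.IsKoszulRegularSeq _ _
    rw [Groth.L07.KoszulPerm.isKoszulRegularSeq_iff]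
    exact fun n hn => Groth.L04.Koszul.isZero_of_isWeaklyRegular [] (ModuleCat.of _ _)
      (RingTheory.Sequence.IsWeaklyRegular.nil _ _) n hn.ne
  · rw [Ideal.ofList_nil, ← RingHom.injective_iff_ker_eq_bot]
    exact Function.injective_id

theorem perfect_of_comp_smooth {X Y S : Scheme.{u}} (f : X ⟶ Y) (g : Y ⟶ S) [Smooth g]
    (h : MoreMor.IsPerfectMor (f ≫ g)) : MoreMor.IsPerfectMor f := by
  let γ : X ⟶ pullback (f ≫ g) g := pullback.lift (𝟙 X) f (by rw [Category.id_comp])
  haveI : IsImmersion (γ ≫ pullback.fst (f ≫ g) g) := by rw [pullback.lift_fst]; infer_instance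
  haveI : IsImmersion γ := IsImmersion.of_comp γ (pullback.fst (f ≫ g) g)
  have hγ : MoreMor.IsPerfectMor γ := perfect_of_regularImmersion γ fun x =>
    (Groth.L07.RegImmAt.regularAt_comp_smooth_iff' γ (pullback.fst (f ≫ g) g) (𝟙 X) (pullback.lift_fst _ _ _) x).1
      (regularAt_id X x)
  have h2 := perfect_comp hγ (perfect_baseChange (IsPullback.of_hasPullback (f ≫ g) g) h)
  rwa [pullback.lift_snd] at h2

end Groth.L29.RelPC
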