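import Groth.Agent.L29.RelPC.Mor
import Groth.Agent.L10.RelPC.BC
import Groth.Agent.L20.ModPullback
import Mathlib.RingTheory.Flat.Stability
import Mathlib.RingTheory.TensorProduct.MvPolynomial

/-!
Flat base change of pseudo-coherence of morphisms.
-/

set_option autoImplicit false
set_option backward.defeqAttrib.useBackward true
set_option backward.isDefEq.respectTransparency false

universe u

open CategoryTheory CategoryTheory.Limits AlgebraicGeometry TensorProduct

attribute [local instance] HasDerivedCategory.standard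

namespace Groth.L29.RelPC

open Groth.L10.RelPC

section Ring

variable {A A' B B' : Type u} [CommRing A] [CommRing A'] [CommRing B] [CommRing B'] [Algebra A A'] [Algebra A B]
  [Algebra A' B'] [Algebra B B'] [Algebra A B'] [IsScalarTower A A' B'] [IsScalarTower A B B']
  [Algebra.IsPushout A A' B B'] [Module.Flat A A']

theorem exists_chart_baseChange {n : ℕ} (φ : MvPolynomial (Fin n) A →ₐ[A] B) (hφ : Function.Surjective φ) (m : ℤ)
    (h : Pc (φ : MvPolynomial (Fin n) A →+* B) m (Dual.inD B B)) :
    ∃ φ' : MvPolynomial (Fin n) A' →ₐ[A'] B', Function.Surjective φ' ∧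
      Pc (φ' : MvPolynomial (Fin n) A' →+* B') m (Dual.inD B' B') := by
  let φ' : MvPolynomial (Fin n) A' →ₐ[A'] B' := MvPolynomial.aeval fun i => algebraMap B B' (φ (MvPolynomial.X i))
  let P := MvPolynomial (Fin n) A
  let P' := MvPolynomial (Fin n) A'
  letI : Algebra P B := φ.toRingHom.toAlgebra
  letI : Algebra P' B' := φ'.toRingHom.toAlgebra
  letI : Algebra P B' := ((algebraMap B B').comp φ.toRingHom).toAlgebra
  letI : Algebra P P' := MvPolynomial.algebraMvPolynomial
  haveI : IsScalarTower A P B := IsScalarTower.of_algebraMap_eq fun r => (φ.commutes r).symm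
  haveI : IsScalarTower A' P' B' := IsScalarTower.of_algebraMap_eq fun r => (φ'.commutes r).symm
  haveI : IsScalarTower P B B' := IsScalarTower.of_algebraMap_eq fun _ => rfl
  haveI : IsScalarTower P P' B' := IsScalarTower.of_algebraMap_eq' (MvPolynomial.ringHom_ext
    (fun r => by
      change algebraMap B B' (φ (MvPolynomial.C r)) = φ' (MvPolynomial.map (algebraMap A A') (MvPolynomial.C r))
      rw [MvPolynomial.map_C]
      simp only [φ', MvPolynomial.aeval_C]
      rw [show φ (MvPolynomial.C r) = algebraMap A B r from φ.commutes r, ← IsScalarTower.algebraMap_apply A B B',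
        ← IsScalarTower.algebraMap_apply A A' B'])
    (fun i => by
      change algebraMap B B' (φ (MvPolynomial.X i)) = φ' (MvPolynomial.map (algebraMap A A') (MvPolynomial.X i))
      simp [φ']))
  haveI : IsScalarTower A P B' := IsScalarTower.of_algebraMap_eq fun r => by
    change _ = algebraMap B B' (φ (algebraMap A P r))
    rw [φ.commutes, ← IsScalarTower.algebraMap_apply]
  haveI : IsScalarTower A P' B' := IsScalarTower.of_algebraMap_eq fun r => by
    rw [IsScalarTower.algebraMap_apply A A' P', ← IsScalarTower.algebraMap_apply A' P' B',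
      ← IsScalarTower.algebraMap_apply A A' B']
  haveI hP : Algebra.IsPushout A P A' P' := inferInstance
  haveI hPP : Algebra.IsPushout P P' B B' :=
    ((Algebra.IsPushout.comp_iff (R := A) (S := P) (R' := A') (S' := P') (T := B) (T' := B')).1
      (Algebra.IsPushout.symm inferInstance)).symm
  have hflat : (algebraMap P P').Flat := by
    haveI : Module.Flat P P' := Module.Flat.isBaseChange A P A' P' hP.out
    exact RingHom.flat_algebraMap_iff.2 inferInstance
  refine ⟨φ', fun b => ?_, ?_⟩
  · refine Subalgebra.mem_toSubmodule (S := φ'.range) |>.1 ?_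
    refine (Algebra.IsPushout.out (R := A) (S := A') (R' := B) (S' := B')).inductionOn b _ ?_ ?_ ?_ ?_
    · exact zero_mem _
    · intro x
      obtain ⟨q, rfl⟩ := hφ x
      exact ⟨MvPolynomial.map (algebraMap A A') q, (IsScalarTower.algebraMap_apply P P' B' q).symm.trans
        (IsScalarTower.algebraMap_apply P B B' q)⟩
    · exact fun a x hx => Submodule.smul_mem _ a hx
    · exact fun x y hx hy => add_mem hx hy
  · have h0 : Pc (algebraMap P B) m (DRing.toD ((HomologicalComplex.single _ (ComplexShape.up ℤ) 0).obj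
        (ModuleCat.of B B))) := Pc.of_iso ((DerivedCategory.singleFunctorIsoCompQ _ 0).app (ModuleCat.of B B)) h
    have h1 := Pc.baseChange (A' := P') (S' := B') hflat h0
    let eM : (ModuleCat.extendScalars.{u, u, u} (algebraMap B B')).obj (ModuleCat.of B B) ≅ ModuleCat.of B' B' :=
      ((Groth.L29.FlatBC.extEquiv B B' (ModuleCat.of B B)).trans
        (Algebra.TensorProduct.rid B B' B').toLinearEquiv).toModuleIso
    refine Pc.of_iso ?_ h1
    exact DerivedCategory.Q.mapIso
      ((HomologicalComplex.singleMapHomologicalComplex _ (ComplexShape.up ℤ) 0).app (ModuleCat.of B B) ≪≫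
        (HomologicalComplex.single _ (ComplexShape.up ℤ) 0).mapIso eM) ≪≫
      ((DerivedCategory.singleFunctorIsoCompQ _ 0).app (ModuleCat.of B' B')).symm

end Ring

variable {X Y X' Y' : Scheme.{u}} {f : X ⟶ Y} {f' : X' ⟶ Y'} {g' : X' ⟶ X} {g : Y' ⟶ Y}

theorem nPC_baseChange [LocallyOfFiniteType f] [Flat g] (hc : IsPullback g' f' f g) {m : ℤ}
    (hf : DerSch.IsNPseudoCoherent f m) : DerSch.IsNPseudoCoherent f' m := by
  haveI : LocallyOfFiniteType f' := MorphismProperty.of_isPullback hc inferInstance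
  refine (unit_pc_iff m).2 (rel_of_local fun x' => ?_)
  obtain ⟨W, V, W', U, eV, eW, eU, eU', hW, hV, hW', hU, hx, hp⟩ :=
    Groth.L20.ModStalk.exists_affine_square hc x'
  refine ⟨U, W', hx, hU, hW', eU', ?_⟩
  obtain ⟨n, φ, hφ⟩ := exists_isChart f hV hW eV
  have hG := (CP.unit_iff hV hφ.1 m).1 (good_of_rel ((unit_pc_iff m).1 hf) hV hW eV eV n φ hφ)
  letI : Algebra Γ(Y, W) Γ(X, V) := (f.appLE W V eV).hom.toAlgebra
  letI : Algebra Γ(Y, W) Γ(Y', W') := (g.appLE W W' eW).hom.toAlgebra
  letI : Algebra Γ(Y', W') Γ(X', U) := (f'.appLE W' U eU').hom.toAlgebra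
  letI : Algebra Γ(X, V) Γ(X', U) := (g'.appLE V U eU).hom.toAlgebra
  letI : Algebra Γ(Y, W) Γ(X', U) := ((f.appLE W V eV) ≫ g'.appLE V U eU).hom.toAlgebra
  haveI : IsScalarTower Γ(Y, W) Γ(X, V) Γ(X', U) := IsScalarTower.of_algebraMap_eq fun _ => rfl
  haveI : IsScalarTower Γ(Y, W) Γ(Y', W') Γ(X', U) :=
    IsScalarTower.of_algebraMap_eq fun r => ConcreteCategory.congr_hom hp.w r
  haveI : Algebra.IsPushout Γ(Y, W) Γ(Y', W') Γ(X, V) Γ(X', U) := CommRingCat.isPushout_iff_isPushout.1 hp.flip
  haveI : Module.Flat Γ(Y, W) Γ(Y', W') := g.flat_appLE hW hW' eW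
  let α : MvPolynomial (Fin n) Γ(Y, W) →ₐ[Γ(Y, W)] Γ(X, V) := { φ with commutes' := fun r => RingHom.congr_fun hφ.2 r }
  obtain ⟨α', hα', hP⟩ := exists_chart_baseChange (A' := Γ(Y', W')) (B' := Γ(X', U)) α hφ.1 m hG
  exact good_of_chart f' hU (h := eU') ⟨hα', RingHom.ext fun r => α'.commutes r⟩ ((CP.unit_iff hU hα' m).2 hP)

end Groth.L29.RelPC
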