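import Groth.Agent.L29.RelPC.TorStalk
import Groth.Agent.L29.RelPC.Hom2
import Groth.Agent.L29.RelPC.BaseChange

/-!
Perfect morphisms of schemes: locality, composition, flat base change.
-/

set_option autoImplicit false
set_option backward.defeqAttrib.useBackward true
set_option backward.isDefEq.respectTransparency false

universe u

open CategoryTheory CategoryTheory.Limits AlgebraicGeometry TensorProduct

attribute [local instance] HasDerivedCategory.standard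

namespace Groth.L29.RelPC

variable {X Y Z : Scheme.{u}}

/-- perfect ring map on a pair of affine opens -/
def HomPerf (f : X ⟶ Y) (U : X.Opens) (V : Y.Opens) (h : U ≤ f ⁻¹ᵁ V) : Prop :=
  letI := (f.appLE V U h).hom.toAlgebra
  MoreMor.IsPerfectHom Γ(Y, V) Γ(X, U)

variable {f : X ⟶ Y}

/-- the tor dimension is finite on a neighbourhood of every point -/
def LocTD (f : X ⟶ Y) : Prop :=
  ∀ x : X, ∃ (W : X.Opens) (d : ℕ), x ∈ W ∧ ∀ y ∈ W, TD f d y

theorem finiteTorDim_of_locTD (h : LocTD f) {U : X.Opens} (hU : IsAffineOpen U) {V : Y.Opens} (hV : IsAffineOpen V)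
    (hle : U ≤ f ⁻¹ᵁ V) :
    (letI := (f.appLE V U hle).hom.toAlgebra; DRing.HasFiniteTorDim Γ(Y, V) Γ(X, U)) := by
  letI := (f.appLE V U hle).hom.toAlgebra
  choose W d hxW hTD using h
  obtain ⟨t, ht⟩ := hU.isCompact.elim_finite_subcover (fun x => (W x : Set X)) (fun x => (W x).2)
    (fun x _ => Set.mem_iUnion.2 ⟨x, hxW x⟩)
  refine ⟨t.sup d, hom_of_td hU hV hle fun y hy => ?_⟩
  obtain ⟨x, hx, hyx⟩ := Set.mem_iUnion₂.1 (ht hy)
  exact (hTD x y hyx).mono (Finset.le_sup hx)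

theorem perfect_iff_locTD : MoreMor.IsPerfectMor f ↔ MoreMor.IsPseudoCoherentMor f ∧ LocTD f := by
  constructor
  · intro hf
    refine ⟨fun U V hU hV hle => (hf U V hU hV hle).1, fun x => ?_⟩
    obtain ⟨U, V, hle, hU, hV, hx⟩ := exists_affine x f
    obtain ⟨d, hd⟩ := (hf U V hU hV hle).2
    exact ⟨U, d, hx, fun y hy => td_of_hom hU hV hle hd hy⟩
  · rintro ⟨h1, h2⟩ U V hU hV hle
    exact ⟨h1 U V hU hV hle, finiteTorDim_of_locTD h2 hU hV hle⟩

theorem perfect_of_local (hK : ∀ x : X, ∃ (U : X.Opens) (V : Y.Opens) (h : U ≤ f ⁻¹ᵁ V),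
    IsAffineOpen U ∧ IsAffineOpen V ∧ x ∈ U ∧ HomPerf f U V h) : MoreMor.IsPerfectMor f := by
  refine perfect_iff_locTD.2 ⟨mor_of_local fun x => ?_, fun x => ?_⟩
  · obtain ⟨U, V, h, hU, hV, hx, hP⟩ := hK x
    exact ⟨U, V, h, hU, hV, hx, hP.1⟩
  · obtain ⟨U, V, h, hU, hV, hx, hP⟩ := hK x
    obtain ⟨d, hd⟩ := hP.2
    exact ⟨U, d, hx, fun y hy => td_of_hom hU hV h hd hy⟩

theorem finiteTorDim_trans {A B C : Type u} [CommRing A] [CommRing B] [CommRing C] [Algebra A B] [Algebra B C]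
    [Algebra A C] [IsScalarTower A B C] {d e : ℕ} (hB : DRing.HasTorDimLE A d B) (hC : DRing.HasTorDimLE B e C) :
    DRing.HasTorDimLE A (e + d) C := by
  refine (Groth.L10.DR.hasTorDimLE_iff_amp (e + d)).2 (Groth.L10.DR.amp_of_iso ?_
    (Groth.L10.DR.amp_mono (Groth.L10.TorRestrict.amp_restrict d ((Groth.L10.DR.hasTorDimLE_iff_amp d).1 hB) _ _ _
      ((Groth.L10.DR.hasTorDimLE_iff_amp e).1 hC)) (by omega) le_rfl))
  let eC : ((ModuleCat.restrictScalars (algebraMap A B)).obj (ModuleCat.of B C) : Type u) ≃ₗ[A] C :=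
    { AddEquiv.refl C with map_smul' := fun a m => algebraMap_smul B a (show C from m) }
  exact ((ModuleCat.restrictScalars (algebraMap A B)).mapDerivedCategorySingleFunctor 0).app _ ≪≫
    (DerivedCategory.singleFunctor _ 0).mapIso eC.toModuleIso

theorem homPerf_comp {g : Y ⟶ Z} {U : X.Opens} {W : Y.Opens} {V : Z.Opens} {h₁ : U ≤ f ⁻¹ᵁ W} {h₂ : W ≤ g ⁻¹ᵁ V}
    (h : U ≤ (f ≫ g) ⁻¹ᵁ V) (hf : HomPerf f U W h₁) (hg : HomPerf g W V h₂) : HomPerf (f ≫ g) U V h := by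
  letI : Algebra Γ(Y, W) Γ(X, U) := (f.appLE W U h₁).hom.toAlgebra
  letI : Algebra Γ(Z, V) Γ(Y, W) := (g.appLE V W h₂).hom.toAlgebra
  letI : Algebra Γ(Z, V) Γ(X, U) := ((f ≫ g).appLE V U h).hom.toAlgebra
  haveI : IsScalarTower Γ(Z, V) Γ(Y, W) Γ(X, U) := IsScalarTower.of_algebraMap_eq fun r =>
    (ConcreteCategory.congr_hom (Scheme.Hom.appLE_comp_appLE f g V W U h₂ h₁) r).symm
  obtain ⟨d, hd⟩ := hg.2
  obtain ⟨e, he⟩ := hf.2
  exact ⟨(hom_tower_iff hg.1).1 hf.1, e + d, finiteTorDim_trans hd he⟩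

theorem perfect_comp {g : Y ⟶ Z} (hf : MoreMor.IsPerfectMor f) (hg : MoreMor.IsPerfectMor g) :
    MoreMor.IsPerfectMor (f ≫ g) := by
  refine perfect_of_local fun x => ?_
  obtain ⟨W, V, hWV, hW, hV, hxW⟩ := exists_affine (f x) g
  obtain ⟨_, ⟨U, hU, rfl⟩, hx, hle⟩ := X.isBasis_affineOpens.exists_subset_of_mem_open
    (show x ∈ f ⁻¹ᵁ W from hxW) (f ⁻¹ᵁ W).isOpen
  exact ⟨U, V, hle.trans (f.preimage_mono hWV), hU, hV, hx,
    homPerf_comp _ (hf U W hU hW hle) (hg W V hW hV hWV)⟩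

variable {X' Y' : Scheme.{u}} {f' : X' ⟶ Y'} {g' : X' ⟶ X} {g : Y' ⟶ Y}

theorem torDim_baseChange {A A' B B' : Type u} [CommRing A] [CommRing A'] [CommRing B] [CommRing B'] [Algebra A A']
    [Algebra A B] [Algebra A' B'] [Algebra B B'] [Algebra A B'] [IsScalarTower A A' B'] [IsScalarTower A B B']
    [Algebra.IsPushout A A' B B'] [Module.Flat A A'] {d : ℕ} (h : DRing.HasTorDimLE A d B) :
    DRing.HasTorDimLE A' d B' := by
  have e : A' ⊗[A] B ≃ₗ[A'] B' := (Algebra.IsPushout.out (R := A) (S := A') (R' := B) (S' := B')).equiv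
  exact hasTorDimLE_congr e ((Groth.L10.DR.hasTorDimLE_iff_amp d).2
    (Groth.L19.PerfectHom.amp_tensor ((Groth.L10.DR.hasTorDimLE_iff_amp d).1 h)))

theorem perfect_baseChange [Flat g] (hc : IsPullback g' f' f g) (hf : MoreMor.IsPerfectMor f) :
    MoreMor.IsPerfectMor f' := by
  obtain ⟨hp, -⟩ := perfect_iff_locTD.1 hf
  obtain ⟨hl, hn⟩ := mor_iff.1 hp
  haveI := hl
  refine perfect_iff_locTD.2 ⟨mor_iff.2 ⟨MorphismProperty.of_isPullback hc inferInstance,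
    fun m => nPC_baseChange hc (hn m)⟩, fun x' => ?_⟩
  obtain ⟨W, V, W', U, eV, eW, eU, eU', hW, hV, hW', hU, hx, hpp⟩ :=
    Groth.L20.ModStalk.exists_affine_square hc x'
  letI : Algebra Γ(Y, W) Γ(X, V) := (f.appLE W V eV).hom.toAlgebra
  letI : Algebra Γ(Y, W) Γ(Y', W') := (g.appLE W W' eW).hom.toAlgebra
  letI : Algebra Γ(Y', W') Γ(X', U) := (f'.appLE W' U eU').hom.toAlgebra
  letI : Algebra Γ(X, V) Γ(X', U) := (g'.appLE V U eU).hom.toAlgebra
  letI : Algebra Γ(Y, W) Γ(X', U) := ((f.appLE W V eV) ≫ g'.appLE V U eU).hom.toAlgebra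
  haveI : IsScalarTower Γ(Y, W) Γ(X, V) Γ(X', U) := IsScalarTower.of_algebraMap_eq fun _ => rfl
  haveI : IsScalarTower Γ(Y, W) Γ(Y', W') Γ(X', U) :=
    IsScalarTower.of_algebraMap_eq fun r => ConcreteCategory.congr_hom hpp.w r
  haveI : Algebra.IsPushout Γ(Y, W) Γ(Y', W') Γ(X, V) Γ(X', U) := CommRingCat.isPushout_iff_isPushout.1 hpp.flip
  haveI : Module.Flat Γ(Y, W) Γ(Y', W') := g.flat_appLE hW hW' eW
  obtain ⟨d, hd⟩ := (hf V W hV hW eV).2
  exact ⟨U, d, hx, fun y hy => td_of_hom hU hW' eU' (torDim_baseChange hd) hy⟩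

end Groth.L29.RelPC
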