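import Groth.Agent.L29.RelPC.PerfectMor
import Groth.Agent.L19.PerfectHomCases
import Groth.Prelude.Def_Mor2

/-!
Perfect finite ring maps; regular closed immersions are perfect.
-/

set_option autoImplicit false
set_option backward.defeqAttrib.useBackward true
set_option backward.isDefEq.respectTransparency false

universe u

open CategoryTheory CategoryTheory.Limits AlgebraicGeometry

attribute [local instance] HasDerivedCategory.standard

namespace Groth.L29.RelPC

theorem perfectHom_of_module {A B : Type u} [CommRing A] [CommRing B] [Algebra A B] [Module.Finite A B]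
    (h : DRing.IsPerfectModule A B) : MoreMor.IsPerfectHom A B :=
  ⟨hom_finite_iff.2 (Groth.L29.PerfPC.isPseudoCoherent'_of_isPerfect h),
    Groth.L19.PerfectHom.finiteTorDim_of_perfect (P := A) h⟩

theorem perfect_regularClosedImmersion {Z X : Scheme.{u}} (i : Z ⟶ X) (hi : Mor2.IsRegularClosedImmersion i) :
    MoreMor.IsPerfectMor i := by
  haveI := hi.1
  refine perfect_of_local fun z => ?_
  obtain ⟨U, hU, hz, rs, hrs, hker⟩ := hi.2 z
  refine ⟨i ⁻¹ᵁ U, U, le_rfl, hU.preimage i, hU, hz, ?_⟩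
  unfold HomPerf
  letI := (i.appLE U (i ⁻¹ᵁ U) le_rfl).hom.toAlgebra
  have hs : Function.Surjective (algebraMap Γ(X, U) Γ(Z, i ⁻¹ᵁ U)) := by
    rw [RingHom.algebraMap_toAlgebra, ← Scheme.Hom.app_eq_appLE]
    exact i.app_surjective U hU
  haveI : Module.Finite Γ(X, U) Γ(Z, i ⁻¹ᵁ U) := Module.Finite.of_surjective (Algebra.linearMap _ _) hs
  refine perfectHom_of_module ?_
  have hk : Ideal.ofList rs.reverse = RingHom.ker (Algebra.ofId Γ(X, U) Γ(Z, i ⁻¹ᵁ U)) := by
    rw [show Ideal.ofList rs.reverse = Ideal.ofList rs by simp [Ideal.ofList], ← hker, Scheme.Hom.ker_apply,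
      Scheme.Hom.app_eq_appLE]
    rfl
  obtain ⟨hK, ⟨eK⟩⟩ := Groth.L29.KoszulRes.exists_iso rs.reverse (by rw [List.reverse_reverse]; exact hrs.1)
  exact Groth.L29.Perfect.of_iso
    (eK ≪≫ Groth.L19.PerfectHom.inDIso ((Ideal.quotientEquivAlgOfEq Γ(X, U) hk).trans
      (Ideal.quotientKerAlgEquivOfSurjective (f := Algebra.ofId Γ(X, U) Γ(Z, i ⁻¹ᵁ U)) hs)).toLinearEquiv) hK

end Groth.L29.RelPC
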