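import Groth.Agent.L10.DRing.TorRestrict
import Mathlib.RingTheory.LocalProperties.Exactness
import Mathlib.RingTheory.Localization.BaseChange

/-!
Tor dimension of an algebra over the base is local on the algebra.
-/

set_option autoImplicit false
set_option backward.isDefEq.respectTransparency false

universe u

open CategoryTheory CategoryTheory.Limits TensorProduct

attribute [local instance] HasDerivedCategory.standard

namespace Groth.L29.RelPC

open Groth.L10.TorRestrict

variable {A B : Type u} [CommRing A] [CommRing B] [Algebra A B]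

/-- tor dimension is detected at the maximal ideals of the algebra -/
theorem hasTorDimLE_of_maximal (d : ℕ)
    (h : ∀ (q : Ideal B) [q.IsMaximal], DRing.HasTorDimLE A d (Localization.AtPrime q)) :
    DRing.HasTorDimLE A d B := by
  intro N _ _ p hp
  obtain ⟨n, rfl⟩ : ∃ n : ℕ, p = n + 1 := ⟨p - 1, by omega⟩
  refine ModuleCat.subsingleton_of_isZero ?_
  let P := projectiveResolution (ModuleCat.of A N)
  refine (tor_isZero_iff (ModuleCat.of A B) (ModuleCat.of A N) P n).2 ?_
  let f : P.complex.X (n + 2) →ₗ[A] P.complex.X (n + 1) := (P.complex.d (n + 2) (n + 1)).hom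
  let g : P.complex.X (n + 1) →ₗ[A] P.complex.X n := (P.complex.d (n + 1) n).hom
  have hgf : g ∘ₗ f = 0 := congrArg ModuleCat.Hom.hom (P.complex.d_comp_d (n + 2) (n + 1) n)
  suffices hex : Function.Exact (f.baseChange B) (g.baseChange B) by
    intro x hx
    have hx' : g.baseChange B x = 0 := by rw [LinearMap.baseChange_eq_ltensor]; exact hx
    obtain ⟨y, hy⟩ := (hex x).1 hx'
    exact ⟨y, by rw [← hy, LinearMap.baseChange_eq_ltensor]⟩
  refine exact_of_isLocalized_maximal
    (fun q [q.IsMaximal] => Localization.AtPrime q ⊗[B] (B ⊗[A] P.complex.X (n + 2)))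
    (fun q [q.IsMaximal] => TensorProduct.mk B (Localization.AtPrime q) (B ⊗[A] P.complex.X (n + 2)) 1)
    (fun q [q.IsMaximal] => Localization.AtPrime q ⊗[B] (B ⊗[A] P.complex.X (n + 1)))
    (fun q [q.IsMaximal] => TensorProduct.mk B (Localization.AtPrime q) (B ⊗[A] P.complex.X (n + 1)) 1)
    (fun q [q.IsMaximal] => Localization.AtPrime q ⊗[B] (B ⊗[A] P.complex.X n))
    (fun q [q.IsMaximal] => TensorProduct.mk B (Localization.AtPrime q) (B ⊗[A] P.complex.X n) 1)
    (f.baseChange B) (g.baseChange B) fun q _ => ?_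
  let Q := Localization.AtPrime q
  have hmap : ∀ {M M' : Type u} [AddCommGroup M] [AddCommGroup M'] [Module B M] [Module B M'] (F : M →ₗ[B] M'),
      IsLocalizedModule.map q.primeCompl (TensorProduct.mk B Q M 1) (TensorProduct.mk B Q M' 1) F = F.lTensor Q := by
    intro M M' _ _ _ _ F
    refine IsLocalizedModule.linearMap_ext q.primeCompl (TensorProduct.mk B Q M 1) (TensorProduct.mk B Q M' 1)
      (LinearMap.ext fun x => ?_)
    rw [LinearMap.comp_apply, IsLocalizedModule.map_apply]
    simp
  rw [hmap, hmap]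
  let E : ∀ k : ℕ, Q ⊗[B] (B ⊗[A] P.complex.X k) ≃ₗ[B] Q ⊗[A] P.complex.X k := fun k =>
    TensorProduct.AlgebraTensorModule.cancelBaseChange A B B Q (P.complex.X k)
  have hsq : ∀ (k l : ℕ) (φ : P.complex.X k →ₗ[A] P.complex.X l) (z : Q ⊗[B] (B ⊗[A] P.complex.X k)),
      φ.lTensor Q (E k z) = E l ((φ.baseChange B).lTensor Q z) := by
    intro k l φ z
    induction z using TensorProduct.induction_on with
    | zero => simp
    | add u v hu hv => simp [map_add, hu, hv]
    | tmul m w =>
      induction w using TensorProduct.induction_on with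
      | zero => simp
      | add u v hu hv => simp [TensorProduct.tmul_add, map_add, hu, hv]
      | tmul b x => simp [E]
  haveI := h q N (n + 1) hp
  have hQ := (tor_isZero_iff (ModuleCat.of A Q) (ModuleCat.of A N) P n).1 (ModuleCat.isZero_of_subsingleton _)
  intro z
  refine ⟨fun hz => ?_, ?_⟩
  · obtain ⟨y, hy⟩ := hQ (E (n + 1) z) (by
      change g.lTensor Q (E (n + 1) z) = 0
      rw [hsq, hz, map_zero])
    obtain ⟨y', rfl⟩ := (E (n + 2)).surjective y
    change f.lTensor Q (E (n + 2) y') = _ at hy
    rw [hsq] at hy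
    exact ⟨y', (E (n + 1)).injective hy⟩
  · rintro ⟨y, rfl⟩
    rw [← LinearMap.comp_apply, ← LinearMap.lTensor_comp, ← LinearMap.baseChange_comp, hgf]
    simp

end Groth.L29.RelPC
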