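import Groth.Prelude.Def_MoreMor
import Groth.Agent.L19.PerfectHom
import Groth.Agent.L10.DRing.TorRestrict
import Groth.Agent.L29.RelPC.TorLocal
import Mathlib.AlgebraicGeometry.AffineScheme

/-!
Tor dimension of a morphism of schemes at a point, and on affine charts.
-/

set_option autoImplicit false
set_option backward.defeqAttrib.useBackward true
set_option backward.isDefEq.respectTransparency false

universe u

open CategoryTheory CategoryTheory.Limits AlgebraicGeometry TensorProduct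

attribute [local instance] HasDerivedCategory.standard

namespace Groth.L29.RelPC

theorem hasTorDimLE_mono {A M : Type u} [CommRing A] [AddCommGroup M] [Module A M] {d e : ℕ} (hde : d ≤ e)
    (h : DRing.HasTorDimLE A d M) : DRing.HasTorDimLE A e M := fun N _ _ p hp => h N p (hde.trans_lt hp)

theorem hasTorDimLE_congr {A M N : Type u} [CommRing A] [AddCommGroup M] [Module A M] [AddCommGroup N] [Module A N]
    (e : M ≃ₗ[A] N) {d : ℕ} (h : DRing.HasTorDimLE A d M) : DRing.HasTorDimLE A d N :=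
  (Groth.L10.DR.hasTorDimLE_iff_amp d).2 (Groth.L10.DR.amp_of_iso (Groth.L19.PerfectHom.inDIso e)
    ((Groth.L10.DR.hasTorDimLE_iff_amp d).1 h))

/-- modules over a localisation -/
theorem hasTorDimLE_localization_iff {R S M : Type u} [CommRing R] [CommRing S] [Algebra R S] (T : Submonoid R)
    [IsLocalization T S] [AddCommGroup M] [Module R M] [Module S M] [IsScalarTower R S M] (d : ℕ) :
    DRing.HasTorDimLE R d M ↔ DRing.HasTorDimLE S d M := by
  haveI : Module.Flat R S := IsLocalization.flat S T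
  constructor
  · intro h
    let a : S ⊗[R] M →ₗ[S] M := LinearMap.liftBaseChange S LinearMap.id
    let b : M →ₗ[S] S ⊗[R] M := (TensorProduct.mk R S M 1).extendScalarsOfIsLocalization T S
    have hab : ∀ z, b (a z) = z := fun z => by
      induction z using TensorProduct.induction_on with
      | zero => simp
      | add u v hu hv => rw [map_add, map_add, hu, hv]
      | tmul s m =>
        rw [show a (s ⊗ₜ m) = s • m by simp [a], map_smul]
        simp [b, TensorProduct.smul_tmul']
    have e : S ⊗[R] M ≃ₗ[S] M := LinearEquiv.ofLinear a b (LinearMap.ext fun m => by simp [a, b]) (LinearMap.ext hab)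
    exact hasTorDimLE_congr e ((Groth.L10.DR.hasTorDimLE_iff_amp d).2
      (Groth.L19.PerfectHom.amp_tensor ((Groth.L10.DR.hasTorDimLE_iff_amp d).1 h)))
  · intro h
    have h0 : DRing.HasTorAmplitudeIn R (-((0 : ℕ) : ℤ)) 0 (Dual.inD R S) :=
      (Groth.L10.DR.hasTorDimLE_iff_amp 0).1 (Groth.L10.DR.hasTorDimLE_zero_iff.2 inferInstance)
    have h1 := Groth.L10.TorRestrict.amp_restrict 0 h0 (Dual.inD S M) (-(d : ℤ)) 0
      ((Groth.L10.DR.hasTorDimLE_iff_amp d).1 h)
    refine (Groth.L10.DR.hasTorDimLE_iff_amp d).2 (Groth.L10.DR.amp_of_iso ?_ (by simpa using h1))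
    let e : (ModuleCat.restrictScalars (algebraMap R S)).obj (ModuleCat.of S M) ≅ ModuleCat.of R M :=
      LinearEquiv.toModuleIso (X₁ := (ModuleCat.restrictScalars (algebraMap R S)).obj (ModuleCat.of S M))
        { AddEquiv.refl M with map_smul' := fun r x => algebraMap_smul S r (show M from x) }
    exact ((ModuleCat.restrictScalars (algebraMap R S)).mapDerivedCategorySingleFunctor 0).app _ ≪≫
      (DerivedCategory.singleFunctor _ 0).mapIso e

variable {X Y : Scheme.{u}} (f : X ⟶ Y)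

/-- tor dimension of `f` at `x` at most `d` -/
def TD (d : ℕ) (x : X) : Prop :=
  letI := (f.stalkMap x).hom.toAlgebra
  DRing.HasTorDimLE (Y.presheaf.stalk (f x)) d (X.presheaf.stalk x)

variable {f}

theorem TD.mono {d e : ℕ} (hde : d ≤ e) {x : X} (h : TD f d x) : TD f e x :=
  letI := (f.stalkMap x).hom.toAlgebra
  hasTorDimLE_mono hde h

theorem td_iff_chart {U : X.Opens} {V : Y.Opens} (hV : IsAffineOpen V)
    (hle : U ≤ f ⁻¹ᵁ V) {x : X} (hx : x ∈ U) (d : ℕ) :
    TD f d x ↔ (letI := ((f.appLE V U hle) ≫ X.presheaf.germ U x hx).hom.toAlgebra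
      DRing.HasTorDimLE Γ(Y, V) d (X.presheaf.stalk x)) := by
  letI := (f.stalkMap x).hom.toAlgebra
  letI : Algebra Γ(Y, V) (Y.presheaf.stalk (f x)) := TopCat.Presheaf.algebra_section_stalk Y.presheaf ⟨f x, hle hx⟩
  letI := ((f.appLE V U hle) ≫ X.presheaf.germ U x hx).hom.toAlgebra
  haveI : IsLocalization.AtPrime (Y.presheaf.stalk (f x)) (hV.primeIdealOf ⟨f x, hle hx⟩).asIdeal :=
    hV.isLocalization_stalk ⟨f x, hle hx⟩
  haveI : IsScalarTower Γ(Y, V) (Y.presheaf.stalk (f x)) (X.presheaf.stalk x) := by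
    refine IsScalarTower.of_algebraMap_eq fun r => ?_
    change (f.appLE V U hle ≫ X.presheaf.germ U x hx) r =
      f.stalkMap x (Y.presheaf.germ V (f x) (hle hx) r)
    rw [Scheme.Hom.germ_stalkMap_apply, Scheme.Hom.appLE, Category.assoc, TopCat.Presheaf.germ_res]
    rfl
  exact (hasTorDimLE_localization_iff (hV.primeIdealOf ⟨f x, hle hx⟩).asIdeal.primeCompl d).symm

theorem td_of_hom {U : X.Opens} (hU : IsAffineOpen U) {V : Y.Opens} (hV : IsAffineOpen V) (hle : U ≤ f ⁻¹ᵁ V)
    {d : ℕ} (h : letI := (f.appLE V U hle).hom.toAlgebra; DRing.HasTorDimLE Γ(Y, V) d Γ(X, U))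
    {x : X} (hx : x ∈ U) : TD f d x := by
  rw [td_iff_chart hV hle hx]
  letI := (f.appLE V U hle).hom.toAlgebra
  letI : Algebra Γ(X, U) (X.presheaf.stalk x) := TopCat.Presheaf.algebra_section_stalk X.presheaf ⟨x, hx⟩
  letI := ((f.appLE V U hle) ≫ X.presheaf.germ U x hx).hom.toAlgebra
  haveI : IsScalarTower Γ(Y, V) Γ(X, U) (X.presheaf.stalk x) := IsScalarTower.of_algebraMap_eq fun r => rfl
  haveI : IsLocalization.AtPrime (X.presheaf.stalk x) (hU.primeIdealOf ⟨x, hx⟩).asIdeal :=
    hU.isLocalization_stalk ⟨x, hx⟩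
  haveI : Module.Flat Γ(X, U) (X.presheaf.stalk x) :=
    IsLocalization.flat (X.presheaf.stalk x) (hU.primeIdealOf ⟨x, hx⟩).asIdeal.primeCompl
  exact Groth.L10.TorRestrict.hasTorDimLE_of_flat d h _

theorem hom_of_td {U : X.Opens} (hU : IsAffineOpen U) {V : Y.Opens} (hV : IsAffineOpen V) (hle : U ≤ f ⁻¹ᵁ V)
    {d : ℕ} (h : ∀ x ∈ U, TD f d x) :
    (letI := (f.appLE V U hle).hom.toAlgebra; DRing.HasTorDimLE Γ(Y, V) d Γ(X, U)) := by
  letI := (f.appLE V U hle).hom.toAlgebra
  refine hasTorDimLE_of_maximal d fun q hq => ?_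
  let y : PrimeSpectrum Γ(X, U) := ⟨q, hq.isPrime⟩
  have hy : hU.fromSpec y ∈ U := hU.range_fromSpec.le (Set.mem_range_self y)
  letI : Algebra Γ(X, U) (X.presheaf.stalk (hU.fromSpec y)) :=
    TopCat.Presheaf.algebra_section_stalk X.presheaf ⟨hU.fromSpec y, hy⟩
  haveI : IsLocalization.AtPrime (X.presheaf.stalk (hU.fromSpec y)) q := hU.isLocalization_stalk' y hy
  letI := ((f.appLE V U hle) ≫ X.presheaf.germ U (hU.fromSpec y) hy).hom.toAlgebra
  haveI : IsScalarTower Γ(Y, V) Γ(X, U) (X.presheaf.stalk (hU.fromSpec y)) := IsScalarTower.of_algebraMap_eq fun r => rfl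
  exact hasTorDimLE_congr
    ((IsLocalization.algEquiv q.primeCompl (X.presheaf.stalk (hU.fromSpec y)) (Localization.AtPrime q)).toLinearEquiv.restrictScalars Γ(Y, V))
    ((td_iff_chart hV hle hy d).1 (h _ hy))

end Groth.L29.RelPC
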