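import Groth.Agent.L29.RelPC.SrcScheme
import Groth.Agent.L29.RelPC.PerfectMor
import Groth.Agent.L29.RelPC.BCFamily
import Groth.Agent.L10.DRing.TorRestrict
import Groth.Agent.L19.PerfectHomCases

/-!
Perfect morphisms descend along fppf coverings of the source.
-/

set_option autoImplicit false
set_option backward.defeqAttrib.useBackward true
set_option backward.isDefEq.respectTransparency false
set_option backward.isDefEq.respectTransparency.types false

universe u

open CategoryTheory CategoryTheory.Limits AlgebraicGeometry TensorProduct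

attribute [local instance] HasDerivedCategory.standard

namespace Groth.L29.RelPC

open Groth.L10.TorRestrict in
/-- tor dimension over the base descends along faithfully flat maps of the algebra -/
theorem hasTorDimLE_of_ff {A B C : Type u} [CommRing A] [CommRing B] [CommRing C] [Algebra A B] [Algebra B C]
    [Algebra A C] [IsScalarTower A B C] [Module.FaithfullyFlat B C] {d : ℕ} (h : DRing.HasTorDimLE A d C) :
    DRing.HasTorDimLE A d B := by
  intro N _ _ p hp
  obtain ⟨n, rfl⟩ : ∃ n : ℕ, p = n + 1 := ⟨p - 1, by omega⟩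
  refine ModuleCat.subsingleton_of_isZero ?_
  let P := projectiveResolution (ModuleCat.of A N)
  refine (tor_isZero_iff (ModuleCat.of A B) (ModuleCat.of A N) P n).2 ?_
  let f : P.complex.X (n + 2) →ₗ[A] P.complex.X (n + 1) := (P.complex.d (n + 2) (n + 1)).hom
  let g : P.complex.X (n + 1) →ₗ[A] P.complex.X n := (P.complex.d (n + 1) n).hom
  have hgf : g ∘ₗ f = 0 := congrArg ModuleCat.Hom.hom (P.complex.d_comp_d (n + 2) (n + 1) n)
  suffices hex : Function.Exact (f.baseChange B) (g.baseChange B) by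
    intro x hx
    have hx' : g.baseChange B x = 0 := by rw [LinearMap.baseChange_eq_ltensor]; exact hx
    obtain ⟨y, hy⟩ := (hex x).1 hx'
    exact ⟨y, by rw [← hy, LinearMap.baseChange_eq_ltensor]⟩
  refine (Module.FaithfullyFlat.lTensor_exact_iff_exact B C (f.baseChange B) (g.baseChange B)).1 ?_
  let E : ∀ k : ℕ, C ⊗[B] (B ⊗[A] P.complex.X k) ≃ₗ[B] C ⊗[A] P.complex.X k := fun k =>
    TensorProduct.AlgebraTensorModule.cancelBaseChange A B B C (P.complex.X k)
  have hsq : ∀ (k l : ℕ) (φ : P.complex.X k →ₗ[A] P.complex.X l) (z : C ⊗[B] (B ⊗[A] P.complex.X k)),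
      φ.lTensor C (E k z) = E l ((φ.baseChange B).lTensor C z) := by
    intro k l φ z
    induction z using TensorProduct.induction_on with
    | zero => simp
    | add u v hu hv => simp [map_add, hu, hv]
    | tmul m w =>
      induction w using TensorProduct.induction_on with
      | zero => simp
      | add u v hu hv => simp [TensorProduct.tmul_add, map_add, hu, hv]
      | tmul b x => simp [E]
  haveI := h N (n + 1) hp
  have hC := (tor_isZero_iff (ModuleCat.of A C) (ModuleCat.of A N) P n).1 (ModuleCat.isZero_of_subsingleton _)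
  intro z
  refine ⟨fun hz => ?_, ?_⟩
  · obtain ⟨y, hy⟩ := hC (E (n + 1) z) (by
      change g.lTensor C (E (n + 1) z) = 0
      rw [hsq, hz, map_zero])
    obtain ⟨y', rfl⟩ := (E (n + 2)).surjective y
    change f.lTensor C (E (n + 2) y') = _ at hy
    rw [hsq] at hy
    exact ⟨y', (E (n + 1)).injective hy⟩
  · rintro ⟨y, rfl⟩
    rw [← LinearMap.comp_apply, ← LinearMap.lTensor_comp, ← LinearMap.baseChange_comp, hgf]
    simp

variable {X S X' : Scheme.{u}} {p : X ⟶ S} {g : X' ⟶ X}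

theorem perfect_of_flat [Flat g] [LocallyOfFinitePresentation g] : MoreMor.IsPerfectMor g := by
  intro U V hU hV hle
  letI := (g.appLE V U hle).hom.toAlgebra
  haveI : Module.Flat Γ(X, V) Γ(X', U) := g.flat_appLE hV hU hle
  haveI : Algebra.FinitePresentation Γ(X, V) Γ(X', U) := g.finitePresentation_appLE hV hU hle
  exact Groth.L19.PerfectHom.isPerfectHom_of_flat

theorem perfect_srcDescends [Flat g] [LocallyOfFinitePresentation g] [Surjective g]
    (hf : MoreMor.IsPerfectMor (g ≫ p)) : MoreMor.IsPerfectMor p := by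
  refine perfect_iff_locTD.2 ⟨mor_srcDescends (perfect_iff_locTD.1 hf).1, fun x => ?_⟩
  obtain ⟨U, V, h, hU, hV, hx⟩ := exists_affine x p
  obtain ⟨y, rfl⟩ := g.surjective x
  obtain ⟨_, ⟨U', hU', rfl⟩, hy, e⟩ :=
    X'.isBasis_affineOpens.exists_subset_of_mem_open (show y ∈ g ⁻¹ᵁ U from hx) (g ⁻¹ᵁ U).isOpen
  obtain ⟨r, hr, hxr⟩ := hU.exists_basicOpen_le
    (V := ⟨g '' (U' : Set X'), g.isOpenMap _ U'.isOpen⟩) ⟨g y, ⟨y, hy, rfl⟩⟩ hx
  let U₀ := X.basicOpen r
  let U₁ := U' ⊓ g ⁻¹ᵁ U₀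
  have hle : U₁ = X'.basicOpen (g.appLE U U' e r) := (Scheme.basicOpen_appLE g U' U e r).symm
  have hU₁ : IsAffineOpen U₁ := hle ▸ hU'.basicOpen _
  have hU₀ : IsAffineOpen U₀ := hU.basicOpen r
  have h₀ : U₀ ≤ p ⁻¹ᵁ V := (X.basicOpen_le r).trans h
  have h₁ : U₁ ≤ (g ≫ p) ⁻¹ᵁ V := fun z hz => h₀ hz.2
  have e₁ : U₁ ≤ g ⁻¹ᵁ U₀ := inf_le_right
  obtain ⟨d, hd⟩ := (hf U₁ V hU₁ hV h₁).2
  letI : Algebra Γ(X, U₀) Γ(X', U₁) := (g.appLE U₀ U₁ e₁).hom.toAlgebra
  letI : Algebra Γ(S, V) Γ(X, U₀) := (p.appLE V U₀ h₀).hom.toAlgebra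
  letI : Algebra Γ(S, V) Γ(X', U₁) := ((g ≫ p).appLE V U₁ h₁).hom.toAlgebra
  haveI : IsScalarTower Γ(S, V) Γ(X, U₀) Γ(X', U₁) := IsScalarTower.of_algebraMap_eq fun s =>
    (ConcreteCategory.congr_hom (Scheme.Hom.appLE_comp_appLE g p V U₀ U₁ h₀ e₁) s).symm
  haveI : Module.Flat Γ(X, U₀) Γ(X', U₁) := g.flat_appLE hU₀ hU₁ e₁
  haveI : Module.FaithfullyFlat Γ(X, U₀) Γ(X', U₁) := by
    refine Module.FaithfullyFlat.of_comap_surjective fun q => ?_
    have hq : hU₀.fromSpec q ∈ U₀ := hU₀.range_fromSpec.le (Set.mem_range_self q)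
    obtain ⟨t, ht, hty⟩ := hr hq
    obtain ⟨z, rfl⟩ := hU₁.range_fromSpec.ge (show t ∈ U₁ from ⟨ht, show g t ∈ U₀ from hty.symm ▸ hq⟩)
    refine ⟨z, hU₀.fromSpec.isOpenEmbedding.injective ?_⟩
    rw [← hty, ← Scheme.Hom.comp_apply, ← IsAffineOpen.SpecMap_appLE_fromSpec g hU₀ hU₁ e₁, Scheme.Hom.comp_apply]
    rfl
  exact ⟨U₀, d, hxr, fun z hz => td_of_hom hU₀ hV h₀ (hasTorDimLE_of_ff hd) hz⟩

end Groth.L29.RelPC
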