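import Groth.Agent.L29.DCoh.ClosedPC
import Groth.Agent.L29.DCoh.PushTilde
import Groth.Agent.L09.DerivedRetract
import Groth.Agent.L10.RelPC.Hom

/-!
Pseudo-coherence of direct images along closed immersions: change of the target.
-/

set_option autoImplicit false
set_option backward.defeqAttrib.useBackward true
set_option backward.isDefEq.respectTransparency false
set_option backward.isDefEq.respectTransparency.types false

universe u

open CategoryTheory CategoryTheory.Limits AlgebraicGeometry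

attribute [local instance] HasDerivedCategory.standard

namespace Groth.L29.RelPC

open Groth.L29.DC Groth.L29.DC.ClosedPC

attribute [local instance] additive exactLeft exactRight

variable {U W : Scheme.{u}}

/-- direct image along `i` is pseudo-coherent -/
def PP (i : U ⟶ W) [IsClosedImmersion i] (m : ℤ) (E : DCoh.D U) : Prop :=
  DCoh.IsPseudoCoherentD m ((pD i).obj E)

theorem PP.of_iso {i : U ⟶ W} [IsClosedImmersion i] {m : ℤ} {E F : DCoh.D U} (e : E ≅ F) (h : PP i m E) :
    PP i m F := isPseudoCoherentD_of_iso ((pD i).mapIso e) h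

theorem PP.congr {i i' : U ⟶ W} [IsClosedImmersion i] [IsClosedImmersion i'] (h : i = i') (m : ℤ) (E : DCoh.D U) :
    PP i m E ↔ PP i' m E := by subst h; exact Iff.rfl

theorem nonempty_comp {W' : Scheme.{u}} (i : U ⟶ W) (σ : W ⟶ W') [IsClosedImmersion i] [IsClosedImmersion σ] :
    Nonempty (pD (i ≫ σ) ≅ pD i ⋙ pD σ) :=
  ⟨(Groth.L09.DerivedRetract.compIso _ _ ≪≫
    Groth.L09.DerivedRetract.natIso (Scheme.Modules.pushforwardComp i σ)).symm⟩

theorem PP.comp_iff {W' : Scheme.{u}} {h : U ⟶ W'} [IsClosedImmersion h] (i : U ⟶ W) (σ : W ⟶ W')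
    [IsClosedImmersion i] [IsClosedImmersion σ] (w : h = i ≫ σ) (hσ : PO σ) (m : ℤ) (E : DCoh.D U) :
    PP h m E ↔ PP i m E := by
  subst w
  obtain ⟨e⟩ := nonempty_comp i σ
  exact ⟨fun hp => (pc_push_iff σ hσ _ m).2 (isPseudoCoherentD_of_iso (e.app E) hp),
    fun hp => isPseudoCoherentD_of_iso (e.app E).symm ((pc_push_iff σ hσ _ m).1 hp)⟩

section

variable {U' W' : Scheme.{u}} (i : U ⟶ W) [IsClosedImmersion i] (ι : U' ⟶ U) [IsOpenImmersion ι]
  (j : W' ⟶ W) [IsOpenImmersion j] (i' : U' ⟶ W') [IsClosedImmersion i']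
  (hr : i ⁻¹ᵁ j.opensRange ≤ ι.opensRange) (w : i' ≫ j = ι ≫ i)

include hr w in
theorem nonempty_square : Nonempty (pD i ⋙ DCoh.restrictD j ≅ DCoh.restrictD ι ⋙ pD i') :=
  ⟨Groth.L09.DerivedRetract.compIso _ _ ≪≫
    Groth.L09.DerivedRetract.natIso (Groth.L17.PushQCoh.pushRestrictIso i j ι i' hr w) ≪≫
    (Groth.L09.DerivedRetract.compIso _ _).symm⟩

include hr w in
theorem PP.square {m : ℤ} {E : DCoh.D U} (h : PP i m E) : PP i' m ((DCoh.restrictD ι).obj E) := by
  obtain ⟨e⟩ := nonempty_square i ι j i' hr w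
  exact isPseudoCoherentD_of_iso (e.app E) (PCStalk.pc_res j h)

end

/-- locality on the target -/
theorem PP.of_cover (i : U ⟶ W) [IsClosedImmersion i] {m : ℤ} {E : DCoh.D U}
    (h : ∀ z : U, ∃ (U' W' : Scheme.{u}) (ι : U' ⟶ U) (j : W' ⟶ W) (_ : IsOpenImmersion ι) (_ : IsOpenImmersion j)
      (i' : U' ⟶ W') (_ : IsClosedImmersion i'), i z ∈ j.opensRange ∧ i ⁻¹ᵁ j.opensRange ≤ ι.opensRange ∧
        i' ≫ j = ι ≫ i ∧ PP i' m ((DCoh.restrictD ι).obj E)) : PP i m E := by
  refine PCDesc.pc_of_local fun w => ?_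
  by_cases hw : w ∈ Set.range i
  · obtain ⟨z, rfl⟩ := hw
    obtain ⟨U', W', ι, j, _, _, i', _, hz, hr, hw', hp⟩ := h z
    obtain ⟨e⟩ := nonempty_square i ι j i' hr hw'
    exact exists_opens_of_on (fun {Z} => DCoh.IsPseudoCoherentD m) (fun k _ _ h => PCStalk.pc_res k h)
      (fun e h => isPseudoCoherentD_of_iso e h) j hz (isPseudoCoherentD_of_iso (e.app E).symm hp)
  · let V : W.Opens := ⟨(Set.range i)ᶜ, i.isClosedEmbedding.isClosed_range.isOpen_compl⟩
    obtain ⟨e⟩ := ClosedPC.nonempty_res i V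
    refine ⟨V, hw, isPseudoCoherentD_of_iso (e.app E).symm (pc_of_isZero fun k _ => ?_)⟩
    refine (isZero_HD_iff (i ∣_ V) _ k).2 ((PCStalk.isZero_HD_iff_stk _ _).2 fun z => absurd ?_ z.2)
    exact ⟨(i ⁻¹ᵁ V).ι z, rfl⟩

/-- pseudo-coherent ring maps give closed immersions with pseudo-coherent structure sheaf -/
theorem PO.spec {Q P : CommRingCat.{u}} (φ : Q ⟶ P) (hφ : Groth.L10.RelPC.PCHom φ.hom) :
    PO (Spec.map φ) := fun k => by
  haveI := Groth.L18.TildeF.tilde_preservesFiniteLimits (R := Q)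
  letI : Algebra Q P := φ.hom.toAlgebra
  have h : DRing.IsPseudoCoherentModule' Q P := hφ
  let a : (Scheme.Modules.pushforward (Spec.map φ)).obj (Coh.structureModule (Spec P)) ≅
      (tilde.functor Q).obj ((ModuleCat.restrictScalars φ.hom).obj (ModuleCat.of _ P)) :=
    (Scheme.Modules.pushforward (Spec.map φ)).mapIso (tildeSelf (R := P)).symm ≪≫
      (PushTilde.pushTildeIso φ).app _
  let d : ModuleCat.of Q P ≅ (ModuleCat.restrictScalars φ.hom).obj (ModuleCat.of P P) :=
    LinearEquiv.toModuleIso (X₂ := (ModuleCat.restrictScalars φ.hom).obj (ModuleCat.of P P))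
      { AddEquiv.refl P with map_smul' := fun a b => Algebra.smul_def a b }
  exact isPseudoCoherentD_of_iso
    ((((tilde.functor Q).mapDerivedCategorySingleFunctor 0).app _) ≪≫
      (DerivedCategory.singleFunctor _ 0).mapIso ((tilde.functor Q).mapIso d ≪≫ a.symm))
    (TildeAlg.pc_tilde (Groth.L02.PC.pc_of_pc' h k))

end Groth.L29.RelPC
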