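import Groth.Prelude.Def_DerSch2
import Groth.Agent.L29.RelPC.Geom
import Groth.Agent.L29.KSix.Chart
import Groth.Agent.L29.DCoh.Gen.Loc
import Groth.Agent.L10.RelPC.Basic
import Mathlib.RingTheory.Localization.Away.AdjoinRoot
import Mathlib.RingTheory.MvPolynomial.Localization

/-!
Changes of chart.
-/

set_option autoImplicit false
set_option backward.defeqAttrib.useBackward true
set_option backward.isDefEq.respectTransparency false
set_option backward.isDefEq.respectTransparency.types false

universe u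

open CategoryTheory CategoryTheory.Limits AlgebraicGeometry Opposite TopologicalSpace

attribute [local instance] HasDerivedCategory.standard

namespace Groth.L29.RelPC

open Groth.L29.DC Groth.L29.DC.ClosedPC Groth.L10.RelPC

attribute [local instance] ClosedPC.additive ClosedPC.exactLeft ClosedPC.exactRight

variable {X Y : Scheme.{u}}

/-- the morphism of an open to an affine scheme given by a ring map -/
noncomputable abbrev chartI (U : X.Opens) {Q : Type u} [CommRing Q] (h : Q →+* Γ(X, U)) :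
    (U : Scheme.{u}) ⟶ Spec (CommRingCat.of Q) :=
  U.toSpecΓ ≫ Spec.map (CommRingCat.ofHom h)

theorem isClosedImmersion_chartI {U : X.Opens} (hU : IsAffineOpen U) {Q : Type u} [CommRing Q]
    {h : Q →+* Γ(X, U)} (hh : Function.Surjective h) : IsClosedImmersion (chartI U h) := by
  haveI : IsIso U.toSpecΓ := by
    rw [show U.toSpecΓ = hU.isoSpec.hom from hU.isoSpec_hom.symm]
    infer_instance
  haveI : IsClosedImmersion (Spec.map (CommRingCat.ofHom h)) := IsClosedImmersion.spec_of_surjective _ hh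
  exact inferInstanceAs (IsClosedImmersion (U.toSpecΓ ≫ Spec.map (CommRingCat.ofHom h)))

/-- pseudo-coherence on a generalised chart -/
def CP (U : X.Opens) {Q : Type u} [CommRing Q] (h : Q →+* Γ(X, U)) (m : ℤ) (K : DCoh.D X) : Prop :=
  ∃ _ : IsClosedImmersion (chartI U h), PP (chartI U h) m ((resD U).obj K)

theorem chartPC_iff {U : X.Opens} (hU : IsAffineOpen U) {V : Y.Opens} {n : ℕ}
    {φ : MvPolynomial (Fin n) Γ(Y, V) →+* Γ(X, U)} (hφ : Function.Surjective φ) (m : ℤ) (K : DCoh.D X) :
    DerSch.ChartPC m K U V φ ↔ CP U φ m K := by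
  haveI := isClosedImmersion_chartI hU hφ
  let e0 : ∀ G : CochainComplex X.Modules ℤ,
      (pD (chartI U φ)).obj ((resD U).obj (DCoh.toD X G)) ≅
        DCoh.toD _ ((DerSch.pushCx (DerSch.chartImm U φ)).obj ((DCoh.restrictCx U).obj G)) := fun G =>
    (pD (chartI U φ)).mapIso (resQIso U G) ≪≫
      (Scheme.Modules.pushforward (chartI U φ)).mapDerivedCategoryFactors.app _
  constructor
  · intro h
    have e : DCoh.toD X (DerivedCategory.Q.objPreimage K) ≅ K := DerivedCategory.Q.objObjPreimageIso K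
    exact ⟨inferInstance, PP.of_iso ((resD U).mapIso e) (isPseudoCoherentD_of_iso (e0 _).symm (h _ ⟨e⟩))⟩
  · rintro ⟨_, h⟩ G ⟨e⟩
    exact isPseudoCoherentD_of_iso (e0 G) (PP.of_iso ((resD U).mapIso e.symm) h)

theorem CP.comp_iff {U : X.Opens} (hU : IsAffineOpen U) {Q Q' : Type u} [CommRing Q] [CommRing Q']
    {g : Q' →+* Γ(X, U)} (h : Q →+* Γ(X, U)) (hh : Function.Surjective h) (σ : Q' →+* Q)
    (hσs : Function.Surjective σ) (hσ : PCHom σ) (e : g = h.comp σ) (m : ℤ) (K : DCoh.D X) :
    CP U g m K ↔ CP U h m K := by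
  haveI := isClosedImmersion_chartI hU hh
  haveI := isClosedImmersion_chartI hU (h := g) (by rw [e]; exact hh.comp hσs)
  haveI : IsClosedImmersion (Spec.map (CommRingCat.ofHom σ)) := IsClosedImmersion.spec_of_surjective _ hσs
  have w : chartI U g = chartI U h ≫ Spec.map (CommRingCat.ofHom σ) := by
    subst e
    simp [chartI, ← Spec.map_comp, ← CommRingCat.ofHom_comp]
  have := PP.comp_iff (chartI U h) _ w (PO.spec (CommRingCat.ofHom σ) hσ) m ((resD U).obj K)
  exact ⟨fun ⟨_, hp⟩ => ⟨inferInstance, this.1 hp⟩, fun ⟨_, hp⟩ => ⟨inferInstance, this.2 hp⟩⟩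

/-- independence of the presentation -/
theorem CP.indep {U : X.Opens} (hU : IsAffineOpen U) {R : Type u} [CommRing R] {n k : ℕ}
    (φ : MvPolynomial (Fin n) R →+* Γ(X, U)) (hφ : Function.Surjective φ)
    (ψ : MvPolynomial (Fin k) R →+* Γ(X, U)) (hψ : Function.Surjective ψ)
    (hc : φ.comp MvPolynomial.C = ψ.comp MvPolynomial.C) (m : ℤ) (K : DCoh.D X) :
    CP U φ m K ↔ CP U ψ m K := by
  have ext : ∀ {n k : ℕ} (φ : MvPolynomial (Fin n) R →+* Γ(X, U)) (_ : Function.Surjective φ)
      (b : Fin k → Γ(X, U)), CP U φ m K ↔ CP U (MvPolynomial.eval₂Hom φ b) m K := by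
    intro n k φ hφ b
    choose p hp using fun i => hφ (b i)
    let σ : MvPolynomial (Fin k) (MvPolynomial (Fin n) R) →+* MvPolynomial (Fin n) R := MvPolynomial.eval p
    have hσ : PCHom σ := PCHom.poly_retraction k σ (RingHom.ext fun r => MvPolynomial.eval_C r)
    exact (CP.comp_iff hU φ hφ σ (fun r => ⟨MvPolynomial.C r, MvPolynomial.eval_C r⟩) hσ
      (MvPolynomial.ringHom_ext (fun r => by simp [σ]) (fun i => by simp [σ, hp])) m K).symm
  refine ((ext φ hφ (fun i => ψ (MvPolynomial.X i))).trans ?_).trans (ext ψ hψ (fun i => φ (MvPolynomial.X i))).symm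
  let e : MvPolynomial (Fin k) (MvPolynomial (Fin n) R) ≃+* MvPolynomial (Fin n) (MvPolynomial (Fin k) R) :=
    (MvPolynomial.commAlgEquiv R (Fin k) (Fin n)).toRingEquiv
  let σ : MvPolynomial (Fin k) (MvPolynomial (Fin n) R) →+* MvPolynomial (Fin n) (MvPolynomial (Fin k) R) := RingHomClass.toRingHom e
  have hσ : PCHom σ := PCHom.ringEquiv e
  have hσs : Function.Surjective σ := e.surjective
  refine CP.comp_iff hU (MvPolynomial.eval₂Hom ψ fun i => φ (MvPolynomial.X i)) ?_ σ hσs hσ ?_ m K
  · intro b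
    obtain ⟨q, rfl⟩ := hψ b
    exact ⟨MvPolynomial.C q, MvPolynomial.eval₂Hom_C _ _ _⟩
  refine MvPolynomial.ringHom_ext (fun r => ?_) (fun i => ?_)
  · have : (MvPolynomial.eval₂Hom φ fun i => ψ (MvPolynomial.X i)).comp MvPolynomial.C =
        ((MvPolynomial.eval₂Hom ψ fun i => φ (MvPolynomial.X i)).comp σ).comp MvPolynomial.C :=
      MvPolynomial.ringHom_ext (fun r => by simpa [σ, e] using RingHom.congr_fun hc r)
        (fun i => by simp [σ, e, MvPolynomial.commAlgEquiv_C_X])
    exact RingHom.congr_fun this r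
  · simp [σ, e]

/-- the localisation map of a chart -/
theorem exists_loc {U : X.Opens} (hU : IsAffineOpen U) {Q : Type u} [CommRing Q] (h : Q →+* Γ(X, U))
    (hh : Function.Surjective h) (p : Q) :
    ∃ h' : Localization.Away p →+* Γ(X, X.basicOpen (h p)),
      Function.Surjective h' ∧
        h'.comp (algebraMap Q _) = ((X.presheaf.map (homOfLE (X.basicOpen_le (h p))).op).hom).comp h := by
  let r := (X.presheaf.map (homOfLE (X.basicOpen_le (h p))).op).hom
  haveI := hU.isLocalization_basicOpen (h p)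
  have hu : IsUnit ((r.comp h) p) := IsLocalization.Away.algebraMap_isUnit (S := Γ(X, X.basicOpen (h p))) (h p)
  let h' : Localization.Away p →+* Γ(X, X.basicOpen (h p)) := IsLocalization.Away.lift p hu
  have hc : h'.comp (algebraMap Q _) = r.comp h := IsLocalization.Away.lift_comp p hu
  refine ⟨h', fun b => ?_, hc⟩
  obtain ⟨n, a, ha⟩ := IsLocalization.Away.surj (h p) b
  obtain ⟨q, rfl⟩ := hh a
  refine ⟨algebraMap Q (Localization.Away p) q * (IsLocalization.Away.invSelf p) ^ n, ?_⟩
  have e1 : h' (algebraMap Q _ q) = algebraMap Γ(X, U) Γ(X, X.basicOpen (h p)) (h q) := RingHom.congr_fun hc q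
  have e2 : h' (algebraMap Q _ p) = algebraMap Γ(X, U) Γ(X, X.basicOpen (h p)) (h p) := RingHom.congr_fun hc p
  have e3 : h' (algebraMap Q _ p) * h' (IsLocalization.Away.invSelf p) = 1 := by
    rw [← map_mul, IsLocalization.Away.mul_invSelf, map_one]
  rw [map_mul, map_pow, e1, ← ha, ← e2, mul_assoc, ← mul_pow, e3, one_pow, mul_one]

theorem range_spec_away {Q : Type u} [CommRing Q] (p : Q) (S : Type u) [CommRing S] [Algebra Q S]
    [IsLocalization.Away p S] [IsOpenImmersion (Spec.map (CommRingCat.ofHom (algebraMap Q S)))] :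
    (Spec.map (CommRingCat.ofHom (algebraMap Q S))).opensRange = (PrimeSpectrum.basicOpen p : _) :=
  Opens.ext (PrimeSpectrum.localization_away_comap_range S p)

theorem preimage_basicOpen (U : X.Opens) {Q : Type u} [CommRing Q] (h : Q →+* Γ(X, U)) (p : Q) :
    chartI U h ⁻¹ᵁ (PrimeSpectrum.basicOpen p : _) = U.ι ⁻¹ᵁ X.basicOpen (h p) :=
  (congrArg (U.toSpecΓ ⁻¹ᵁ ·) (Opens.ext rfl : (Spec.map (CommRingCat.ofHom h)) ⁻¹ᵁ
    (PrimeSpectrum.basicOpen p : _) = (PrimeSpectrum.basicOpen (h p) : _))).trans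
    (Scheme.Opens.toSpecΓ_preimage_basicOpen U (h p))

section Loc

variable {U : X.Opens} (hU : IsAffineOpen U) {Q : Type u} [CommRing Q] (h : Q →+* Γ(X, U))
  (hh : Function.Surjective h) (p : Q) (h' : Localization.Away p →+* Γ(X, X.basicOpen (h p)))
  (hc : h'.comp (algebraMap Q _) = ((X.presheaf.map (homOfLE (X.basicOpen_le (h p))).op).hom).comp h)

include hc in
theorem loc_w : chartI (X.basicOpen (h p)) h' ≫ Spec.map (CommRingCat.ofHom (algebraMap Q (Localization.Away p))) =
    X.homOfLE (X.basicOpen_le (h p)) ≫ chartI U h := by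
  rw [Category.assoc, ← Spec.map_comp, ← CommRingCat.ofHom_comp, hc, CommRingCat.ofHom_comp, Spec.map_comp,
    ← Category.assoc]
  exact congrArg (· ≫ Spec.map (CommRingCat.ofHom h))
    (Scheme.Opens.toSpecΓ_SpecMap_presheaf_map _ _ (X.basicOpen_le (h p))) |>.trans (Category.assoc _ _ _)

theorem loc_hr : letI := IsOpenImmersion.of_isLocalization (S := Localization.Away p) p
    chartI U h ⁻¹ᵁ (Spec.map (CommRingCat.ofHom (algebraMap Q (Localization.Away p)))).opensRange ≤
      (X.homOfLE (X.basicOpen_le (h p))).opensRange := by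
  rw [range_spec_away p, preimage_basicOpen, Scheme.opensRange_homOfLE]

include hU hh hc in
theorem CP.loc {m : ℤ} {K : DCoh.D X} (hK : CP U h m K) (hs : Function.Surjective h') :
    CP (X.basicOpen (h p)) h' m K := by
  haveI := IsOpenImmersion.of_isLocalization (S := Localization.Away p) p
  haveI := isClosedImmersion_chartI hU hh
  haveI := isClosedImmersion_chartI (hU.basicOpen (h p)) hs
  obtain ⟨_, hK⟩ := hK
  exact ⟨inferInstance, PP.of_iso ((Gen.resLE (X.basicOpen_le (h p))).app K)
    (PP.square (chartI U h) _ _ (chartI _ h') (loc_hr h p) (loc_w h p h' hc) hK)⟩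

end Loc

/-- locality on the source -/
theorem CP.of_cover {U : X.Opens} (hU : IsAffineOpen U) {Q : Type u} [CommRing Q] (h : Q →+* Γ(X, U))
    (hh : Function.Surjective h) {m : ℤ} {K : DCoh.D X}
    (hcov : ∀ x ∈ U, ∃ (p : Q) (h' : Localization.Away p →+* Γ(X, X.basicOpen (h p))),
      x ∈ X.basicOpen (h p) ∧
      h'.comp (algebraMap Q _) = ((X.presheaf.map (homOfLE (X.basicOpen_le (h p))).op).hom).comp h ∧
      CP (X.basicOpen (h p)) h' m K) : CP U h m K := by
  haveI := isClosedImmersion_chartI hU hh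
  refine ⟨inferInstance, PP.of_cover (chartI U h) fun z => ?_⟩
  obtain ⟨p, h', hx, hc, _, hp⟩ := hcov z.1 z.2
  haveI := IsOpenImmersion.of_isLocalization (S := Localization.Away p) p
  refine ⟨_, _, X.homOfLE (X.basicOpen_le (h p)), Spec.map (CommRingCat.ofHom (algebraMap Q (Localization.Away p))),
    inferInstance, inferInstance, chartI _ h', inferInstance, ?_, loc_hr h p, loc_w h p h' hc,
    PP.of_iso ((Gen.resLE (X.basicOpen_le (h p))).app K).symm hp⟩
  rw [range_spec_away p]
  exact (congrArg (fun W : (U : Scheme.{u}).Opens => z ∈ W) (preimage_basicOpen U h p)).mpr hx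

/-- adjoining the inverse -/
theorem exists_tau {Q : Type u} [CommRing Q] (p : Q) :
    ∃ τ : Polynomial Q →+* Localization.Away p, Function.Surjective τ ∧ PCHom τ ∧
      τ.comp Polynomial.C = algebraMap Q _ := by
  let e := (Localization.awayEquivAdjoin p).symm
  let g : Polynomial Q := Polynomial.C p * Polynomial.X - 1
  have hreg : ∀ a b : Polynomial Q, g * a = g * b → a = b := fun a b hab => by
    have h0 : g * (a - b) = 0 := by rw [mul_sub, hab, sub_self]
    have h1 : Polynomial.C p * (Polynomial.X * (a - b)) = a - b := by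
      have : g * (a - b) = Polynomial.C p * (Polynomial.X * (a - b)) - (a - b) := by ring
      rw [← sub_eq_zero, ← this, h0]
    refine sub_eq_zero.1 (Polynomial.ext fun k => ?_)
    induction k with
    | zero => rw [← h1]; simp
    | succ k ih => rw [← h1, Polynomial.coeff_C_mul, Polynomial.coeff_X_mul, ih]; simp
  refine ⟨(e.toRingEquiv : _ →+* _).comp (AdjoinRoot.mk g), e.surjective.comp AdjoinRoot.mk_surjective,
    (PCHom.of_regular g hreg AdjoinRoot.mk_surjective fun a => AdjoinRoot.mk_eq_zero).comp (PCHom.ringEquiv _), ?_⟩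
  exact RingHom.ext fun r => e.commutes r

/-- change of base to a distinguished open -/
theorem CP.base_iff {U : X.Opens} (hU : IsAffineOpen U) {R R' : Type u} [CommRing R] [CommRing R'] [Algebra R R']
    (a : R) [IsLocalization.Away a R'] {n : ℕ} (φ : MvPolynomial (Fin n) R →+* Γ(X, U)) (hφ : Function.Surjective φ)
    (φ' : MvPolynomial (Fin n) R' →+* Γ(X, U)) (hc : φ'.comp (MvPolynomial.map (algebraMap R R')) = φ)
    (m : ℤ) (K : DCoh.D X) : CP U φ m K ↔ CP U φ' m K := by
  letI := MvPolynomial.algebraMvPolynomial (σ := Fin n) (R := R) (S := R')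
  haveI : IsLocalization.Away (MvPolynomial.C a : MvPolynomial (Fin n) R) (MvPolynomial (Fin n) R') := by
    have := MvPolynomial.isLocalization (σ := Fin n) (Submonoid.powers a) R'
    rwa [Submonoid.map_powers] at this
  let j := Spec.map (CommRingCat.ofHom (algebraMap (MvPolynomial (Fin n) R) (MvPolynomial (Fin n) R')))
  haveI : IsOpenImmersion j := IsOpenImmersion.of_isLocalization (MvPolynomial.C a)
  have hs' : Function.Surjective φ' := fun b => by
    obtain ⟨q, rfl⟩ := hφ b
    exact ⟨_, RingHom.congr_fun hc q⟩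
  haveI := isClosedImmersion_chartI hU hφ
  haveI := isClosedImmersion_chartI hU hs'
  have w : chartI U φ' ≫ j = 𝟙 _ ≫ chartI U φ := by
    rw [Category.id_comp, Category.assoc, ← Spec.map_comp, ← CommRingCat.ofHom_comp]
    exact congrArg (fun t => U.toSpecΓ ≫ Spec.map (CommRingCat.ofHom t)) hc
  have hr : chartI U φ ⁻¹ᵁ j.opensRange ≤ Scheme.Hom.opensRange (𝟙 (U : Scheme.{u})) := by
    rw [Scheme.Hom.opensRange_of_isIso (𝟙 (U : Scheme.{u}))]
    exact le_top
  let eI : (DCoh.restrictD (𝟙 (U : Scheme.{u}))).obj ((resD U).obj K) ≅ (resD U).obj K :=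
    (resTransD U.ι (𝟙 _) U.ι (Category.id_comp _)).app K
  constructor
  · rintro ⟨_, h⟩
    exact ⟨inferInstance, PP.of_iso eI (PP.square (chartI U φ) (𝟙 _) j (chartI U φ') hr w h)⟩
  · rintro ⟨_, h⟩
    refine ⟨inferInstance, PP.of_cover (chartI U φ) fun z => ?_⟩
    exact ⟨_, _, 𝟙 _, j, inferInstance, inferInstance, chartI U φ', inferInstance,
      ⟨chartI U φ' z, by rw [← Scheme.Hom.comp_apply, w]; rfl⟩, hr, w, PP.of_iso eI.symm h⟩

end Groth.L29.RelPC
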