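import Groth.Agent.L29.RelPC.Module
import Groth.Agent.L10.RelPC.Local
import Groth.Agent.L10.RelPC.BC
import Groth.Agent.L10.DRing.Modules
import Mathlib.RingTheory.TensorProduct.MvPolynomial

/-!
Composites of n-pseudo-coherent morphisms.
-/

set_option autoImplicit false
set_option backward.defeqAttrib.useBackward true
set_option backward.isDefEq.respectTransparency false

universe u

open CategoryTheory CategoryTheory.Limits AlgebraicGeometry TensorProduct

attribute [local instance] HasDerivedCategory.standard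

namespace Groth.L29.RelPC

open Groth.L10.RelPC Groth.L02.PC Groth.L10.DR

section Ring

variable {A A' S S' : Type u} [CommRing A] [CommRing A'] [CommRing S] [CommRing S'] [Algebra A A'] [Algebra A S]
  [Algebra A' S'] [Algebra S S'] [Algebra A S'] [IsScalarTower A A' S'] [IsScalarTower A S S']
  [Algebra.IsPushout A A' S S']

theorem Pc.unit_baseChange (hA' : (algebraMap A A').Flat) {m : ℤ} (h : Pc (algebraMap A S) m (Dual.inD S S)) :
    Pc (algebraMap A' S') m (Dual.inD S' S') := by
  have h0 : Pc (algebraMap A S) m (DRing.toD ((HomologicalComplex.single _ (ComplexShape.up ℤ) 0).obj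
      (ModuleCat.of S S))) := Pc.of_iso ((DerivedCategory.singleFunctorIsoCompQ _ 0).app (ModuleCat.of S S)) h
  have h1 := Pc.baseChange (A' := A') (S' := S') hA' h0
  let eM : (ModuleCat.extendScalars.{u, u, u} (algebraMap S S')).obj (ModuleCat.of S S) ≅ ModuleCat.of S' S' :=
    ((Groth.L29.FlatBC.extEquiv S S' (ModuleCat.of S S)).trans
      (Algebra.TensorProduct.rid S S' S').toLinearEquiv).toModuleIso
  refine Pc.of_iso ?_ h1
  exact DerivedCategory.Q.mapIso
    ((HomologicalComplex.singleMapHomologicalComplex _ (ComplexShape.up ℤ) 0).app (ModuleCat.of S S) ≪≫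
      (HomologicalComplex.single _ (ComplexShape.up ℤ) 0).mapIso eM) ≪≫
    ((DerivedCategory.singleFunctorIsoCompQ _ 0).app (ModuleCat.of S' S')).symm

end Ring

/-- modules that are pseudo-coherent up to a degree stay so after restriction along a map which is so -/
theorem pcModule_trans {P B : Type u} [CommRing P] [CommRing B] (σ : P →+* B) : ∀ (k : ℕ),
    Pc σ (-(k : ℤ)) (Dual.inD B B) → ∀ (M : Type u) [AddCommGroup M] [Module B M],
      DRing.IsPseudoCoherentModule B (-(k : ℤ)) M → Pc σ (-(k : ℤ)) (Dual.inD B M) := by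
  intro k
  induction k with
  | zero =>
    intro hB M _ _ hM
    letI := σ.toAlgebra
    letI : Module P M := Module.compHom M σ
    haveI : IsScalarTower P B M := IsScalarTower.of_algebraMap_smul fun _ _ => rfl
    haveI : Module.Finite B M := finite_of_pcModule_zero hM
    haveI : Module.Finite P B := finite_of_pcModule_zero
      (pc_of_iso (inDIso σ B fun a x => Algebra.smul_def a x) hB)
    haveI : Module.Finite P M := Module.Finite.trans B M
    exact pc_of_iso (inDIso σ M fun _ _ => rfl).symm (pcModule_zero (A := P) M)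
  | succ k ih =>
    intro hB M _ _ hM
    haveI : Module.Finite B M := finite_of_pcModule_zero (pc_mono (by omega) hM)
    obtain ⟨n, f, hf⟩ := Module.Finite.exists_fin' B M
    let S : ShortComplex (ModuleCat.{u} B) := ShortComplex.mk (ModuleCat.ofHom (LinearMap.ker f).subtype)
      (ModuleCat.ofHom f) (ModuleCat.hom_ext (LinearMap.ext fun x => x.2))
    have hS : S.ShortExact :=
      { exact := (ShortComplex.ShortExact.moduleCat_exact_iff_function_exact _).2 f.exact_subtype_ker_map
        mono_f := ConcreteCategory.mono_of_injective _ Subtype.val_injective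
        epi_g := ConcreteCategory.epi_of_surjective _ hf }
    have hK : DRing.IsPseudoCoherentModule B (-(k : ℤ)) (LinearMap.ker f) := by
      have := pc_first hS.singleTriangle hS.singleTriangle_distinguished (-((k + 1 : ℕ) : ℤ))
        (pcModule_free n _) hM
      rwa [show -((k + 1 : ℕ) : ℤ) + 1 = -(k : ℤ) by omega] at this
    have hfree : Pc σ (-((k + 1 : ℕ) : ℤ)) (Dual.inD B (Fin n → B)) := by
      let Q : ObjectProperty (Dual.D B) := fun X => Pc σ (-((k + 1 : ℕ) : ℤ)) X
      haveI : Q.IsClosedUnderIsomorphisms := ⟨fun e h => Pc.of_iso e h⟩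
      exact finiteFree_property Q hB
        (fun T hT h1 h3 => pc_second _ ((DRing.restrictD σ).map_distinguished T hT) _ h1 h3)
        (fun Z hZ => pc_mono (show (-((k + 1 : ℕ) : ℤ) - 1) + 1 ≤ -((k + 1 : ℕ) : ℤ) by omega)
          (pc_of_LEH fun i _ => (HH i).map_isZero ((DRing.restrictD σ).map_isZero hZ))) n
    refine pc_third _ ((DRing.restrictD σ).map_distinguished _ hS.singleTriangle_distinguished) _ ?_ hfree
    rw [show -((k + 1 : ℕ) : ℤ) + 1 = -(k : ℤ) by omega]
    exact ih (pc_mono (by omega) hB) _ hK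

attribute [local instance] MvPolynomial.algebraMvPolynomial in
theorem Pc.map_unit {A B : Type u} [CommRing A] [CommRing B] (φ : A →+* B) {m : ℤ}
    (h : Pc φ m (Dual.inD B B)) (k : ℕ) :
    Pc (MvPolynomial.map φ : MvPolynomial (Fin k) A →+* MvPolynomial (Fin k) B) m
      (Dual.inD _ (MvPolynomial (Fin k) B)) := by
  letI := φ.toAlgebra
  have hfl : (algebraMap A (MvPolynomial (Fin k) A)).Flat := RingHom.flat_algebraMap_iff.mpr inferInstance
  have := Pc.unit_baseChange (A := A) (A' := MvPolynomial (Fin k) A) (S := B) (S' := MvPolynomial (Fin k) B) hfl h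
  exact this

/-- the ring statement -/
theorem rel_unit_trans {R A B : Type u} [CommRing R] [CommRing A] [CommRing B] [Algebra R A] [Algebra A B]
    [Algebra R B] [IsScalarTower R A B] [Algebra.FiniteType R A] [Algebra.FiniteType A B] (k : ℕ)
    (hA : DerCA.IsRelPseudoCoherent R A (-(k : ℤ)) (Dual.inD A A))
    (hB : DerCA.IsRelPseudoCoherent A B (-(k : ℤ)) (Dual.inD B B)) :
    DerCA.IsRelPseudoCoherent R B (-(k : ℤ)) (Dual.inD B B) := by
  obtain ⟨n, α, hα⟩ := exists_presentation R A
  obtain ⟨l, β, hβ⟩ := exists_presentation A B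
  let a : MvPolynomial (Fin n) R →+* A := α
  let b : MvPolynomial (Fin l) A →+* B := β
  let σ : MvPolynomial (Fin l) (MvPolynomial (Fin n) R) →+* MvPolynomial (Fin l) A := MvPolynomial.map a
  have hσ : Pc σ (-(k : ℤ)) (Dual.inD _ (MvPolynomial (Fin l) A)) :=
    Pc.map_unit a ((Groth.L10.RelPC.rel_iff α hα).1 hA) l
  refine (rel_iff_of_equiv (doubleEquiv R l n) (b.comp σ) (fun r => ?_)
    (hβ.comp (MvPolynomial.map_surjective _ hα))).2 ?_
  · rw [IsScalarTower.algebraMap_apply R (MvPolynomial (Fin n) R) (MvPolynomial (Fin l) (MvPolynomial (Fin n) R))]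
    simp [b, σ, a, IsScalarTower.algebraMap_apply R A B]
  rw [Pc.comp_iff σ b rfl]
  letI : Module (MvPolynomial (Fin l) A) B := Module.compHom B b
  have hM : DRing.IsPseudoCoherentModule (MvPolynomial (Fin l) A) (-(k : ℤ)) B :=
    pc_of_iso (inDIso b B fun _ _ => rfl) ((Groth.L10.RelPC.rel_iff β hβ).1 hB)
  exact Pc.of_iso (inDIso b B fun _ _ => rfl).symm (pcModule_trans σ k hσ B hM)

variable {X Y Z : Scheme.{u}}

theorem nPC_comp (f : X ⟶ Y) (g : Y ⟶ Z) [LocallyOfFiniteType f] [LocallyOfFiniteType g] (r s : ℤ)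
    (hf : DerSch.IsNPseudoCoherent f r) (hg : DerSch.IsNPseudoCoherent g s) :
    DerSch.IsNPseudoCoherent (f ≫ g) (max r s) := by
  by_cases hm : 0 < max r s
  · exact (unit_pc_iff _).2 (rel_pos (Coh.structureModule X) hm)
  obtain ⟨k, hk⟩ : ∃ k : ℕ, max r s = -(k : ℤ) := ⟨(-(max r s)).toNat, by omega⟩
  have hr : r ≤ max r s := le_max_left r s
  have hs : s ≤ max r s := le_max_right r s
  rw [hk] at hr hs ⊢
  refine (unit_pc_iff _).2 (rel_of_local fun x => ?_)
  obtain ⟨W, V, hWV, hW, hV, hxW⟩ := exists_affine (f x) g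
  obtain ⟨_, ⟨U, hU, rfl⟩, hx, hle⟩ := X.isBasis_affineOpens.exists_subset_of_mem_open
    (show x ∈ f ⁻¹ᵁ W from hxW) (f ⁻¹ᵁ W).isOpen
  have hUV : U ≤ (f ≫ g) ⁻¹ᵁ V := hle.trans (f.preimage_mono hWV)
  refine ⟨U, V, hx, hU, hV, hUV, ?_⟩
  letI : Algebra Γ(Y, W) Γ(X, U) := (f.appLE W U hle).hom.toAlgebra
  letI : Algebra Γ(Z, V) Γ(Y, W) := (g.appLE V W hWV).hom.toAlgebra
  letI : Algebra Γ(Z, V) Γ(X, U) := ((f ≫ g).appLE V U hUV).hom.toAlgebra
  haveI : IsScalarTower Γ(Z, V) Γ(Y, W) Γ(X, U) := IsScalarTower.of_algebraMap_eq fun r =>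
    (ConcreteCategory.congr_hom (Scheme.Hom.appLE_comp_appLE f g V W U hWV hle) r).symm
  haveI : Algebra.FiniteType Γ(Z, V) Γ(Y, W) := g.finiteType_appLE hV hW hWV
  haveI : Algebra.FiniteType Γ(Y, W) Γ(X, U) := f.finiteType_appLE hW hU hle
  haveI := isClosedImmersion_toSpecΓ hU
  haveI := Groth.L18.TildeF.tilde_preservesFiniteLimits (R := Γ(X, U))
  haveI := isClosedImmersion_toSpecΓ hW
  haveI := Groth.L18.TildeF.tilde_preservesFiniteLimits (R := Γ(Y, W))
  obtain ⟨eU⟩ := nonempty_unit_iso hU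
  obtain ⟨eW⟩ := nonempty_unit_iso hW
  refine (good_iff_rel hU hV hUV eU).2 (rel_unit_trans (R := Γ(Z, V)) (A := Γ(Y, W)) k ?_ ?_)
  · obtain ⟨n, α, hα, hp⟩ := (good_iff_rel hW hV hWV eW).1 (good_of_rel ((unit_pc_iff s).1 hg) hW hV hWV)
    exact ⟨n, α, hα, Groth.L02.PC.pc_mono hs hp⟩
  · obtain ⟨n, α, hα, hp⟩ := (good_iff_rel hU hW hle eU).1 (good_of_rel ((unit_pc_iff r).1 hf) hU hW hle)
    exact ⟨n, α, hα, Groth.L02.PC.pc_mono hr hp⟩

end Groth.L29.RelPC
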