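import Groth.Agent.L29.RelPC.BCMain
import Groth.Agent.L29.RelPC.PerfectMor
import Mathlib.AlgebraicGeometry.Morphisms.LocalFlatDescent

/-!
Pseudo-coherent and perfect morphisms descend along faithfully flat quasi-compact base change.
-/

set_option autoImplicit false
set_option backward.defeqAttrib.useBackward true
set_option backward.isDefEq.respectTransparency false
set_option backward.isDefEq.respectTransparency.types false

universe u

open CategoryTheory CategoryTheory.Limits AlgebraicGeometry TensorProduct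

attribute [local instance] HasDerivedCategory.standard

namespace Groth.L29.RelPC

theorem torDim_descends {A A' B B' : Type u} [CommRing A] [CommRing A'] [CommRing B] [CommRing B'] [Algebra A A']
    [Algebra A B] [Algebra A' B'] [Algebra B B'] [Algebra A B'] [IsScalarTower A A' B'] [IsScalarTower A B B']
    [Algebra.IsPushout A A' B B'] [Module.FaithfullyFlat A A'] {d : ℕ} (h : DRing.HasTorDimLE A' d B') :
    DRing.HasTorDimLE A d B := by
  have e : A' ⊗[A] B ≃ₗ[A'] B' := (Algebra.IsPushout.out (R := A) (S := A') (R' := B) (S' := B')).equiv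
  obtain ⟨v⟩ := Groth.L10.FlatDescent.exists_single_iso (R := A) (S := A') B
  refine (Groth.L10.DR.hasTorDimLE_iff_amp d).2 (Groth.L10.DR.amp_of_iso
    ((DerivedCategory.singleFunctorIsoCompQ (ModuleCat.{u} A) 0).app (ModuleCat.of A B)).symm
    (Groth.L10.FlatDescent.amp_descent (Groth.L10.FlatDescent.faithful_of_faithfullyFlat (R := A) (S := A')) _ _ _ fun _ => ?_))
  exact Groth.L10.DR.amp_of_iso v.symm
    ((Groth.L10.DR.hasTorDimLE_iff_amp d).1 (hasTorDimLE_congr e.symm h))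

variable {X Y X' Y' : Scheme.{u}} {f : X ⟶ Y} {f' : X' ⟶ Y'} {g' : X' ⟶ X} {g : Y' ⟶ Y}

theorem mor_descends (hc : IsPullback g' f' f g) [Flat g] [Surjective g] [QuasiCompact g]
    (hf : MoreMor.IsPseudoCoherentMor f') : MoreMor.IsPseudoCoherentMor f := by
  obtain ⟨hl, hn⟩ := mor_iff.1 hf
  haveI : LocallyOfFiniteType f := MorphismProperty.of_isPullback_of_descendsAlong
    (Q := @Surjective ⊓ @Flat ⊓ @QuasiCompact) hc.flip ⟨⟨inferInstance, inferInstance⟩, inferInstance⟩ hl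
  exact mor_iff.2 ⟨inferInstance, fun m => nPC_descends hc (hn m)⟩

theorem perfect_descendsBase (hc : IsPullback g' f' f g) [Flat g] [Surjective g] [QuasiCompact g]
    (hf : MoreMor.IsPerfectMor f') : MoreMor.IsPerfectMor f := by
  refine perfect_iff_locTD.2 ⟨mor_descends hc fun U V hU hV h => (hf U V hU hV h).1, fun x => ?_⟩
  obtain ⟨U, V, hle, hU, hV, hx⟩ := exists_affine x f
  haveI : CompactSpace (g ⁻¹ᵁ V : Scheme.{u}) :=
    isCompact_iff_compactSpace.1 (g.isCompact_preimage hV.isCompact)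
  obtain ⟨T, p, hsurj, hp, hT⟩ := (g ⁻¹ᵁ V : Scheme.{u}).exists_hom_isAffine_of_isZariskiLocalAtSource @Flat
  haveI := hp
  let q := p ≫ (g ⁻¹ᵁ V).ι
  have hc2 := IsPullback.of_hasPullback f' q
  have hc'' : IsPullback (pullback.fst f' q ≫ g') (pullback.snd f' q) f (q ≫ g) := hc2.paste_horiz hc
  have eW : (⊤ : T.Opens) ≤ (q ≫ g) ⁻¹ᵁ V := fun t _ => (p t).2
  obtain ⟨hU', hp'⟩ := exists_square hc'' hV hU (isAffineOpen_top T) hle eW
  let U' := (pullback.fst f' q ≫ g') ⁻¹ᵁ U ⊓ pullback.snd f' q ⁻¹ᵁ (⊤ : T.Opens)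
  have h1 : U' ≤ (pullback.fst f' q ≫ g') ⁻¹ᵁ U := inf_le_left
  have h2 : U' ≤ pullback.snd f' q ⁻¹ᵁ (⊤ : T.Opens) := inf_le_right
  letI : Algebra Γ(Y, V) Γ(X, U) := (f.appLE V U hle).hom.toAlgebra
  letI : Algebra Γ(Y, V) Γ(T, ⊤) := ((q ≫ g).appLE V ⊤ eW).hom.toAlgebra
  letI : Algebra Γ(T, ⊤) Γ(pullback f' q, U') := ((pullback.snd f' q).appLE ⊤ U' h2).hom.toAlgebra
  letI : Algebra Γ(X, U) Γ(pullback f' q, U') := ((pullback.fst f' q ≫ g').appLE U U' h1).hom.toAlgebra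
  letI : Algebra Γ(Y, V) Γ(pullback f' q, U') :=
    ((f.appLE V U hle) ≫ (pullback.fst f' q ≫ g').appLE U U' h1).hom.toAlgebra
  haveI : IsScalarTower Γ(Y, V) Γ(X, U) Γ(pullback f' q, U') := IsScalarTower.of_algebraMap_eq fun _ => rfl
  haveI : IsScalarTower Γ(Y, V) Γ(T, ⊤) Γ(pullback f' q, U') :=
    IsScalarTower.of_algebraMap_eq fun r => ConcreteCategory.congr_hom hp'.w r
  haveI : Algebra.IsPushout Γ(Y, V) Γ(T, ⊤) Γ(X, U) Γ(pullback f' q, U') :=
    CommRingCat.isPushout_iff_isPushout.1 hp'.flip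
  haveI : Module.Flat Γ(Y, V) Γ(T, ⊤) := (q ≫ g).flat_appLE hV (isAffineOpen_top T) eW
  haveI : Module.FaithfullyFlat Γ(Y, V) Γ(T, ⊤) := by
    refine Module.FaithfullyFlat.of_comap_surjective fun y => ?_
    obtain ⟨z, hz⟩ := g.surjective (hV.fromSpec y)
    obtain ⟨t, ht⟩ := hsurj.surj ⟨z, (hz ▸ hV.range_fromSpec.le (Set.mem_range_self y) : g z ∈ V)⟩
    obtain ⟨w, rfl⟩ := (isAffineOpen_top T).range_fromSpec.ge (show t ∈ (⊤ : T.Opens) from trivial)
    refine ⟨w, hV.fromSpec.isOpenEmbedding.injective ?_⟩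
    rw [← hz]
    have hgq : (q ≫ g) ((isAffineOpen_top T).fromSpec w) = g z := congrArg (fun w => g ((g ⁻¹ᵁ V).ι w)) ht
    rw [← hgq, ← Scheme.Hom.comp_apply, ← IsAffineOpen.SpecMap_appLE_fromSpec (q ≫ g) hV (isAffineOpen_top T) eW,
      Scheme.Hom.comp_apply]
    rfl
  obtain ⟨d, hd⟩ := ((perfect_baseChange hc2 hf) U' ⊤ hU' (isAffineOpen_top T) h2).2
  exact ⟨U, d, hx, fun y hy => td_of_hom hU hV hle (torDim_descends hd) hy⟩

end Groth.L29.RelPC
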