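import Groth.Agent.L29.RelPC.TorStalk
import Groth.Agent.L10.DRing.FlatDescent
import Groth.Agent.L10.DRing.Modules
import Groth.Agent.L19.PerfectHom
import Groth.Agent.L29.DCoh.PerfDescent
import Groth.Agent.L29.RelPC.PerfectMor
import Mathlib.RingTheory.Spectrum.Prime.FreeLocus
import Mathlib.Algebra.Module.LocalizedModule.IsLocalization

/-!
Tor dimension of a pseudo-coherent algebra spreads out from a prime.
-/

set_option autoImplicit false
set_option backward.defeqAttrib.useBackward true
set_option backward.isDefEq.respectTransparency false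

universe u

open CategoryTheory CategoryTheory.Limits TensorProduct

attribute [local instance] HasDerivedCategory.standard

namespace Groth.L29.RelPC

/-- the spreading for pseudo-coherent modules -/
theorem exists_away_amp {P M : Type u} [CommRing P] [AddCommGroup M] [Module P M]
    (h : DRing.IsPseudoCoherentModule' P M) (p : Ideal P) [p.IsPrime] (d : ℕ)
    (hp : DRing.HasTorDimLE (Localization.AtPrime p) d (Localization.AtPrime p ⊗[P] M)) :
    ∃ f, f ∉ p ∧ DRing.HasTorDimLE (Localization.Away f) d (Localization.Away f ⊗[P] M) := by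
  obtain ⟨E, b, hb, hff, ⟨e⟩⟩ := h
  let a : ℤ := -(d : ℤ)
  have hflatE : DRing.TermwiseFlat E := fun i => by
    have := (hff i).2
    infer_instance
  let s := (DerivedCategory.singleFunctorIsoCompQ (ModuleCat.{u} P) 0).app (ModuleCat.of P M)
  let C : ModuleCat.{u} P := cokernel (E.d (a - 1) a)
  haveI : Module.Finite P (E.X a) := (hff a).1
  haveI : Module.Free P (E.X a) := (hff a).2
  haveI : Module.FinitePresentation P (E.X a) := Module.finitePresentation_of_projective P (E.X a)
  haveI : Module.Finite P (E.X (a - 1)) := (hff (a - 1)).1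
  haveI : Module.FinitePresentation P (E.X a ⧸ LinearMap.range (E.d (a - 1) a).hom) :=
    Module.finitePresentation_of_surjective (LinearMap.range (E.d (a - 1) a).hom).mkQ
      (Submodule.mkQ_surjective _) (by rw [Submodule.ker_mkQ, LinearMap.range_eq_map]; exact Module.Finite.fg_top.map _)
  haveI : Module.FinitePresentation P C :=
    Module.FinitePresentation.of_equiv (ModuleCat.cokernelIsoRangeQuotient (E.d (a - 1) a)).toLinearEquiv.symm
  have hext : ∀ (Q : Type u) [CommRing Q] [Algebra P Q] [Module.Flat P Q],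
      Nonempty (DRing.toD ((Groth.L02.PC.bcCx (algebraMap P Q)).obj E) ≅ Dual.inD Q (Q ⊗[P] M)) := by
    intro Q _ _ _
    obtain ⟨u⟩ := Groth.L10.FlatDescent.nonempty_iso_of_iso (algebraMap P Q) (RingHom.flat_algebraMap_iff.2 ‹_›)
      (X := E) (Y := (CochainComplex.singleFunctor (ModuleCat.{u} P) 0).obj (ModuleCat.of P M)) (e ≪≫ s)
    obtain ⟨v⟩ := Groth.L10.FlatDescent.exists_single_iso (R := P) (S := Q) M
    exact ⟨u ≪≫ v⟩
  have hcok : ∀ (Q : Type u) [CommRing Q] [Algebra P Q],
      Nonempty ((cokernel (((Groth.L02.PC.bcCx (algebraMap P Q)).obj E).d (a - 1) a) : ModuleCat.{u} Q) ≃ₗ[Q]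
        Q ⊗[P] C) := by
    intro Q _ _
    obtain ⟨t⟩ := Groth.L02.PC.extendScalars_equiv (S := Q) C
    haveI : (ModuleCat.extendScalars.{u, u, u} (algebraMap P Q)).IsLeftAdjoint :=
      (ModuleCat.extendRestrictScalarsAdj.{u, u, u} (algebraMap P Q)).isLeftAdjoint
    exact ⟨(PreservesCokernel.iso (ModuleCat.extendScalars.{u, u, u} (algebraMap P Q)) (E.d (a - 1) a)).symm.toLinearEquiv ≪≫ₗ t⟩
  have hbf : ∀ (Q : Type u) [CommRing Q] [Algebra P Q],
      DRing.TermwiseFlat ((Groth.L02.PC.bcCx (algebraMap P Q)).obj E) := fun Q _ _ i => by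
    haveI : Module.Flat P (E.X i) := hflatE i
    obtain ⟨t⟩ := Groth.L02.PC.extendScalars_equiv (S := Q) (E.X i)
    haveI : Module.Flat Q (Q ⊗[P] (E.X i)) := inferInstance
    exact Module.Flat.of_linearEquiv t
  have hbv : ∀ (Q : Type u) [CommRing Q] [Algebra P Q],
      DRing.VanishesAbove ((Groth.L02.PC.bcCx (algebraMap P Q)).obj E) b := fun Q _ _ i hi =>
    (ModuleCat.extendScalars.{u, u, u} (algebraMap P Q)).map_isZero (hb i hi)
  haveI : Module.Flat P (Localization.AtPrime p) := IsLocalization.flat _ p.primeCompl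
  obtain ⟨ep⟩ := hext (Localization.AtPrime p)
  obtain ⟨cp⟩ := hcok (Localization.AtPrime p)
  haveI : Module.Flat (Localization.AtPrime p) (Localization.AtPrime p ⊗[P] C) :=
    haveI := (Groth.L29.DC.PerfDesc.goodAlg_of_amp (hbf _) (hbv _) ep ((Groth.L10.DR.hasTorDimLE_iff_amp d).1 hp)).2
    Module.Flat.of_linearEquiv cp.symm
  haveI : Module.Free (Localization.AtPrime p) (Localization.AtPrime p ⊗[P] C) := Module.free_of_flat_of_isLocalRing
  have hmem : (⟨p, inferInstance⟩ : PrimeSpectrum P) ∈ Module.freeLocus P C :=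
    (Module.mem_freeLocus_iff_tensor _ (Localization.AtPrime p)).2 inferInstance
  obtain ⟨_, ⟨f, rfl⟩, hfp, hfsub⟩ := PrimeSpectrum.isTopologicalBasis_basic_opens.exists_subset_of_mem_open hmem
    Module.isOpen_freeLocus
  refine ⟨f, hfp, ?_⟩
  haveI : Module.Flat P (Localization.Away f) := IsLocalization.flat _ (Submonoid.powers f)
  obtain ⟨ef⟩ := hext (Localization.Away f)
  obtain ⟨cf⟩ := hcok (Localization.Away f)
  haveI : Module.Projective (Localization.Away f) (Localization.Away f ⊗[P] C) :=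
    haveI := Module.basicOpen_subset_freeLocus_iff.1 hfsub
    Module.Projective.of_equiv
      (IsLocalizedModule.linearEquiv (Submonoid.powers f) (LocalizedModule.mkLinearMap (Submonoid.powers f) C)
        (TensorProduct.mk P (Localization.Away f) C 1) |>.extendScalarsOfIsLocalization (Submonoid.powers f) (Localization.Away f))
  refine (Groth.L10.DR.hasTorDimLE_iff_amp d).2 ?_
  have hamp := Groth.L29.DC.TildeAlg.amp_of_flat_cokernel (a := a) (b := b) _ (hbv _) (hbf _) ef
    (fun i hi => Groth.L10.DR.isZero_HH_single 0 i _ (by omega))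
    (haveI : Module.Flat (Localization.Away f) (Localization.Away f ⊗[P] C) := Module.Flat.of_projective
     Module.Flat.of_linearEquiv cf)
  exact (Groth.L10.DR.amp_iff ef (hbv _) (hbf _) a 0).2
    ⟨((Groth.L10.DR.amp_iff ef (hbv _) (hbf _) a b).1 hamp).1, Groth.L10.DR.LEH_inD _⟩

theorem torDim_restrict {A B M : Type u} [CommRing A] [CommRing B] [Algebra A B] [AddCommGroup M] [Module A M]
    [Module B M] [IsScalarTower A B M] {d e : ℕ} (hB : DRing.HasTorDimLE A d B) (hM : DRing.HasTorDimLE B e M) :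
    DRing.HasTorDimLE A (e + d) M := by
  refine (Groth.L10.DR.hasTorDimLE_iff_amp (e + d)).2 (Groth.L10.DR.amp_of_iso ?_
    (Groth.L10.DR.amp_mono (Groth.L10.TorRestrict.amp_restrict d ((Groth.L10.DR.hasTorDimLE_iff_amp d).1 hB) _ _ _
      ((Groth.L10.DR.hasTorDimLE_iff_amp e).1 hM)) (by omega) le_rfl))
  let eC : ((ModuleCat.restrictScalars (algebraMap A B)).obj (ModuleCat.of B M) : Type u) ≃ₗ[A] M :=
    { AddEquiv.refl M with map_smul' := fun a m => algebraMap_smul B a (show M from m) }
  exact ((ModuleCat.restrictScalars (algebraMap A B)).mapDerivedCategorySingleFunctor 0).app _ ≪≫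
    (DerivedCategory.singleFunctor _ 0).mapIso eC.toModuleIso

/-- localisations of a quotient algebra -/
theorem nonempty_tensor_equiv {P B Pl Bl : Type u} [CommRing P] [CommRing B] [CommRing Pl] [CommRing Bl]
    [Algebra P B] [Algebra P Pl] [Algebra B Bl] [Algebra P Bl] [IsScalarTower P B Bl] (T : Submonoid P)
    [IsLocalization T Pl] [IsLocalization (Algebra.algebraMapSubmonoid B T) Bl] :
    Nonempty (Pl ⊗[P] B ≃ₗ[P] Bl) := by
  haveI : IsLocalizedModule T (IsScalarTower.toAlgHom P B Bl).toLinearMap :=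
    isLocalizedModule_iff_isLocalization.2 inferInstance
  exact ⟨IsLocalizedModule.linearEquiv T (TensorProduct.mk P Pl B 1) (IsScalarTower.toAlgHom P B Bl).toLinearMap⟩

/-- finite tor dimension at a prime spreads out -/
theorem exists_away_torDim {A B : Type u} [CommRing A] [CommRing B] [Algebra A B]
    (hB : MoreMor.IsPseudoCoherentHom A B) (q : Ideal B) [q.IsPrime] {d : ℕ}
    (hq : DRing.HasTorDimLE A d (Localization.AtPrime q)) :
    ∃ g, g ∉ q ∧ DRing.HasFiniteTorDim A (Localization.Away g) := by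
  obtain ⟨n, φ, hφ, hpc⟩ := hB
  letI := φ.toRingHom.toAlgebra
  let P := MvPolynomial (Fin n) A
  haveI : IsScalarTower A P B := IsScalarTower.of_algebraMap_eq fun a => (φ.commutes a).symm
  let p := q.comap φ.toRingHom
  haveI : IsLocalization (Algebra.algebraMapSubmonoid B p.primeCompl) (Localization.AtPrime q) := by
    have h : Algebra.algebraMapSubmonoid B p.primeCompl = q.primeCompl := le_antisymm
      (fun x => by rintro ⟨y, hy, rfl⟩; exact hy) fun x hx => by
        obtain ⟨y, rfl⟩ := hφ x; exact ⟨y, hx, rfl⟩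
    rw [h]; infer_instance
  obtain ⟨e⟩ := nonempty_tensor_equiv (B := B) (Pl := Localization.AtPrime p) (Bl := Localization.AtPrime q) p.primeCompl
  have h1 : DRing.HasTorDimLE P (d + n) (Localization.AtPrime q) :=
    (Groth.L10.DR.hasTorDimLE_iff_amp (d + n)).2
      (Groth.L19.PerfectHom.amp_mvPolynomial n _ d ((Groth.L10.DR.hasTorDimLE_iff_amp d).1 hq))
  obtain ⟨f, hf, h2⟩ := exists_away_amp hpc p (d + n)
    ((hasTorDimLE_localization_iff p.primeCompl (d + n)).1 (hasTorDimLE_congr e.symm h1))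
  refine ⟨φ f, hf, ?_⟩
  haveI : IsLocalization (Algebra.algebraMapSubmonoid B (Submonoid.powers f)) (Localization.Away (φ f)) := by
    have h : Algebra.algebraMapSubmonoid B (Submonoid.powers f) = Submonoid.powers (φ f) :=
      Submonoid.map_powers _ _
    rw [h]; infer_instance
  obtain ⟨e'⟩ := nonempty_tensor_equiv (B := B) (Pl := Localization.Away f) (Bl := Localization.Away (φ f)) (Submonoid.powers f)
  have h3 : DRing.HasTorDimLE P (d + n) (Localization.Away (φ f)) :=
    hasTorDimLE_congr e' ((hasTorDimLE_localization_iff (Submonoid.powers f) (d + n)).2 h2)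
  exact ⟨_, torDim_restrict (B := P) (Groth.L10.DR.hasTorDimLE_zero_iff.2 inferInstance) h3⟩

open AlgebraicGeometry in
theorem perfect_iff_stalks {X Y : Scheme.{u}} {f : X ⟶ Y} (hf : MoreMor.IsPseudoCoherentMor f) :
    MoreMor.IsPerfectMor f ↔ ∀ x : X, ∃ d, TD f d x := by
  constructor
  · intro h x
    obtain ⟨W, d, hx, hd⟩ := (perfect_iff_locTD.1 h).2 x
    exact ⟨d, hd x hx⟩
  · intro h
    refine perfect_iff_locTD.2 ⟨hf, fun x => ?_⟩
    obtain ⟨U, V, hle, hU, hV, hx⟩ := exists_affine x f
    obtain ⟨d, hd⟩ := h x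
    letI := (f.appLE V U hle).hom.toAlgebra
    let q := (hU.primeIdealOf ⟨x, hx⟩).asIdeal
    letI : Algebra Γ(X, U) (X.presheaf.stalk x) := TopCat.Presheaf.algebra_section_stalk X.presheaf ⟨x, hx⟩
    haveI : IsLocalization.AtPrime (X.presheaf.stalk x) q := hU.isLocalization_stalk ⟨x, hx⟩
    letI := ((f.appLE V U hle) ≫ X.presheaf.germ U x hx).hom.toAlgebra
    haveI : IsScalarTower Γ(Y, V) Γ(X, U) (X.presheaf.stalk x) := IsScalarTower.of_algebraMap_eq fun r => rfl
    obtain ⟨g, hg, e, he⟩ := exists_away_torDim (hf U V hU hV hle) q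
      (hasTorDimLE_congr ((IsLocalization.algEquiv q.primeCompl (X.presheaf.stalk x)
        (Localization.AtPrime q)).toLinearEquiv.restrictScalars Γ(Y, V)) ((td_iff_chart hV hle hx d).1 hd))
    let W := X.basicOpen g
    have hW : W ≤ U := X.basicOpen_le g
    letI : Algebra Γ(X, U) Γ(X, W) := (X.presheaf.map (homOfLE hW).op).hom.toAlgebra
    haveI : IsLocalization.Away g Γ(X, W) := hU.isLocalization_basicOpen g
    letI := (f.appLE V W (hW.trans hle)).hom.toAlgebra
    haveI : IsScalarTower Γ(Y, V) Γ(X, U) Γ(X, W) := IsScalarTower.of_algebraMap_eq fun r =>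
      (ConcreteCategory.congr_hom (Scheme.Hom.appLE_map f hle (homOfLE hW).op) r).symm
    refine ⟨W, e, ?_, fun y hy => td_of_hom (hU.basicOpen g) hV (hW.trans hle) ?_ hy⟩
    · rw [X.mem_basicOpen g x hx]
      exact IsLocalization.map_units (X.presheaf.stalk x) (M := q.primeCompl) ⟨g, hg⟩
    · exact hasTorDimLE_congr ((IsLocalization.algEquiv (Submonoid.powers g) (Localization.Away g)
        Γ(X, W)).toLinearEquiv.restrictScalars Γ(Y, V)) he

end Groth.L29.RelPC
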