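import Mathlib.Algebra.Homology.HomotopyCategory.MappingCone
import Mathlib.Algebra.Homology.DerivedCategory.ShortExact
import Mathlib.Algebra.Homology.ShortComplex.ShortExact

/-!
Mapping cones of a natural transformation and degreewise split short exact sequences.
-/

set_option autoImplicit false
set_option backward.defeqAttrib.useBackward true
set_option backward.isDefEq.respectTransparency false

open CategoryTheory CategoryTheory.Limits CochainComplex HomComplex

namespace Groth.L29.Src

variable {C D : Type*} [Category C] [Category D] [Abelian C] [Abelian D]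
variable {F G : C ⥤ D} [F.Additive] [G.Additive] (τ : F ⟶ G)

/-- the cone of a natural transformation on complexes -/
noncomputable abbrev coneObj (Y : CochainComplex C ℤ) : CochainComplex D ℤ :=
  mappingCone ((NatTrans.mapHomologicalComplex τ (ComplexShape.up ℤ)).app Y)

/-- its functoriality -/
noncomputable abbrev coneMap {Y Y' : CochainComplex C ℤ} (f : Y ⟶ Y') : coneObj τ Y ⟶ coneObj τ Y' :=
  mappingCone.map _ _ ((F.mapHomologicalComplex (ComplexShape.up ℤ)).map f)
    ((G.mapHomologicalComplex (ComplexShape.up ℤ)).map f)
    ((NatTrans.mapHomologicalComplex τ (ComplexShape.up ℤ)).naturality f).symm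

theorem exists_coneSES (S : ShortComplex (CochainComplex C ℤ))
    (σ : ∀ n, (S.map (HomologicalComplex.eval C (ComplexShape.up ℤ) n)).Splitting) :
    ∃ T : ShortComplex (CochainComplex D ℤ), T.ShortExact ∧ T.X₁ = coneObj τ S.X₁ ∧ T.X₂ = coneObj τ S.X₂ ∧
      T.X₃ = coneObj τ S.X₃ := by
  have hfg : ∀ n, S.f.f n ≫ S.g.f n = 0 := fun n => by
    rw [← HomologicalComplex.comp_f, S.zero]; rfl
  let T : ShortComplex (CochainComplex D ℤ) := ShortComplex.mk (coneMap τ S.f) (coneMap τ S.g) (by
    ext n
    rw [HomologicalComplex.comp_f, HomologicalComplex.zero_f]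
    simp [mappingCone.ext_from_iff _ (n + 1) n rfl, coneMap, mappingCone.map, ← Functor.map_comp_assoc, hfg])
  refine ⟨T, HomologicalComplex.shortExact_of_degreewise_shortExact _ fun n => ShortComplex.Splitting.shortExact ?_,
    rfl, rfl, rfl⟩
  let α := (NatTrans.mapHomologicalComplex τ (ComplexShape.up ℤ)).app S.X₁
  let β := (NatTrans.mapHomologicalComplex τ (ComplexShape.up ℤ)).app S.X₂
  let γ := (NatTrans.mapHomologicalComplex τ (ComplexShape.up ℤ)).app S.X₃
  exact
    { r := (mappingCone.fst β).1.v n (n + 1) rfl ≫ F.map (σ (n + 1)).r ≫ (mappingCone.inl α).v (n + 1) n (by omega) +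
        (mappingCone.snd β).v n n (add_zero n) ≫ G.map (σ n).r ≫ (mappingCone.inr α).f n
      s := (mappingCone.fst γ).1.v n (n + 1) rfl ≫ F.map (σ (n + 1)).s ≫ (mappingCone.inl β).v (n + 1) n (by omega) +
        (mappingCone.snd γ).v n n (add_zero n) ≫ G.map (σ n).s ≫ (mappingCone.inr β).f n
      f_r := by
        have h1 := (σ (n + 1)).f_r
        have h2 := (σ n).f_r
        simp only [ShortComplex.map_f, HomologicalComplex.eval_map, HomologicalComplex.eval_obj] at h1 h2
        simp [mappingCone.ext_from_iff _ (n + 1) n rfl, T, coneMap, mappingCone.map, α, β, γ, ← Functor.map_comp_assoc, h1, h2]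
      s_g := by
        have h1 := (σ (n + 1)).s_g
        have h2 := (σ n).s_g
        simp only [ShortComplex.map_g, HomologicalComplex.eval_map, HomologicalComplex.eval_obj] at h1 h2
        simp [mappingCone.ext_from_iff _ (n + 1) n rfl, T, coneMap, mappingCone.map, α, β, γ, ← Functor.map_comp_assoc, h1, h2]
      id := by
        have h1 := (σ (n + 1)).id
        have h2 := (σ n).id
        simp only [ShortComplex.map_f, ShortComplex.map_g, HomologicalComplex.eval_map, HomologicalComplex.eval_obj] at h1 h2
        simp [mappingCone.ext_from_iff _ (n + 1) n rfl, T, coneMap, mappingCone.map, α, β, γ, ← Functor.map_comp_assoc,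
          ← Functor.map_comp, Preadditive.add_comp, Preadditive.comp_add]
        refine ⟨?_, ?_⟩
        · rw [← Preadditive.add_comp, ← Functor.map_add, h1]
          exact (congrArg (· ≫ _) (F.map_id _)).trans (Category.id_comp _)
        · rw [← Preadditive.add_comp, ← Functor.map_add, h2]
          exact (congrArg (· ≫ _) (G.map_id _)).trans (Category.id_comp _) }

end Groth.L29.Src
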