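import Groth.Agent.L10.RelPC.Basic
import Groth.Agent.L10.DRing.FlatDescent
import Mathlib.Algebra.Homology.DerivedCategory.KProjective
import Mathlib.Algebra.Homology.ShortComplex.Linear

/-!
The annihilator of a complex acts on the top cohomology of the cone of a finite free approximation
through a finitely generated submodule.
-/

set_option autoImplicit false
set_option backward.defeqAttrib.useBackward true
set_option backward.isDefEq.respectTransparency false

universe u

open CategoryTheory CategoryTheory.Limits CategoryTheory.Pretriangulated CochainComplex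

attribute [local instance] HasDerivedCategory.standard

namespace Groth.L29.Src

open Groth.L02.PC

variable {P : Type u} [CommRing P]

theorem exists_fg_smul {C E : DRing.Cx P} (α : E ⟶ C) (a : P) (hC : ∀ i, ∀ x : C.X i, a • x = 0) {lo hi : ℤ}
    (v : DRing.VanishesOutside E lo hi) (hE : DRing.TermwiseFiniteFree E) (n : ℤ)
    (hex : ∀ i, n < i → IsZero ((mappingCone α).homology i)) :
    ∃ W : Submodule P ((mappingCone α).homology n : ModuleCat.{u} P), W.FG ∧ ∀ z, a • z ∈ W := by
  let Q := mappingCone α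
  let s : Q ⟶ Q := a • 𝟙 Q
  let T := DerivedCategory.Q.mapTriangle.obj (mappingCone.triangle α)
  have hT : T ∈ distTriang _ := (DerivedCategory.mem_distTriang_iff _).mpr ⟨_, _, α, ⟨Iso.refl _⟩⟩
  have h0 : mappingCone.inr α ≫ s = 0 := by
    ext i x
    show a • (mappingCone.inr α).f i x = 0
    rw [← LinearMap.map_smul, hC i x, map_zero]
  obtain ⟨G, hG⟩ := Triangle.yoneda_exact₃ T hT (DerivedCategory.Q.map s)
    ((DerivedCategory.Q.map_comp (mappingCone.inr α) s).symm.trans
      ((congrArg DerivedCategory.Q.map h0).trans (DerivedCategory.Q.map_zero _ _)))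
  haveI : IsIso (DerivedCategory.Q.map (Q.ιTruncLE n)) := by
    refine (DerivedCategory.isIso_Q_map_iff_quasiIso _ _).2 ((CochainComplex.quasiIso_ιTruncLE_iff Q n).2 ?_)
    exact (CochainComplex.isLE_iff Q n).2 fun i hi => (HomologicalComplex.exactAt_iff_isZero_homology _ _).2 (hex i hi)
  let E1 : DRing.Cx P := E⟦(1 : ℤ)⟧
  let G' : DRing.toD E1 ⟶ DRing.toD (Q.truncLE n) :=
    (DerivedCategory.Q.commShiftIso (1 : ℤ)).hom.app E ≫ G ≫ inv (DerivedCategory.Q.map (Q.ιTruncLE n))
  haveI : E1.IsKProjective := isKProjective_bounded (a := lo - 1) (b := hi - 1)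
    (fun i hi' => v (i + 1) (by omega)) (fun i => hE (i + 1))
  obtain ⟨φ, hφ⟩ := exists_chainMap G'
  let R := Q.truncLE n
  haveI : IsIso (R.iCycles n) := R.isIso_iCycles n (n + 1) (by simp)
    ((CochainComplex.isZero_of_isStrictlyLE R n (n + 1) (by omega)).eq_of_tgt _ _)
  haveI : Module.Finite P (E1.X n) := (hE (n + 1)).1
  let ψ : E1.X n →ₗ[P] Q.homology n :=
    (φ.f n ≫ inv (R.iCycles n) ≫ R.homologyπ n ≫ HomologicalComplex.homologyMap (Q.ιTruncLE n) n).hom
  refine ⟨LinearMap.range ψ, Submodule.fg_range ψ, fun z => ?_⟩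
  let Hn := DerivedCategory.homologyFunctor (ModuleCat.{u} P) n
  let fQ := (DerivedCategory.homologyFunctorFactors (ModuleCat.{u} P) n).app Q
  let y : Hn.obj (DRing.toD E1) :=
    Hn.map (T.mor₃ ≫ (DerivedCategory.Q.commShiftIso (1 : ℤ)).inv.app E) (fQ.inv z)
  have hkey : HomologicalComplex.homologyMap (φ ≫ Q.ιTruncLE n) n
      ((DerivedCategory.homologyFunctorFactors (ModuleCat.{u} P) n).hom.app E1 y) = a • z := by
    have h1 : DerivedCategory.Q.map (φ ≫ Q.ιTruncLE n) =
        (DerivedCategory.Q.commShiftIso (1 : ℤ)).hom.app E ≫ G := by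
      rw [Functor.map_comp, hφ]
      simp [G']
    have h2 : T.mor₃ ≫ (DerivedCategory.Q.commShiftIso (1 : ℤ)).inv.app E ≫
        DerivedCategory.Q.map (φ ≫ Q.ιTruncLE n) = DerivedCategory.Q.map s := by
      rw [h1, hG, ← Category.assoc ((DerivedCategory.Q.commShiftIso (1 : ℤ)).inv.app E), Iso.inv_hom_id_app, Category.id_comp]
    have h3 := DerivedCategory.homologyFunctorFactors_hom_naturality (φ ≫ Q.ιTruncLE n) n
    have h4 := DerivedCategory.homologyFunctorFactors_hom_naturality s n
    have e1 := ConcreteCategory.congr_hom h3 y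
    have e2 := ConcreteCategory.congr_hom h4 (fQ.inv z)
    simp only [ConcreteCategory.comp_apply] at e1 e2
    have e3 : Hn.map (DerivedCategory.Q.map (φ ≫ Q.ιTruncLE n)) y = Hn.map (DerivedCategory.Q.map s) (fQ.inv z) := by
      rw [← h2, ← Category.assoc, Functor.map_comp _ _ (DerivedCategory.Q.map _), ConcreteCategory.comp_apply]
      rfl
    refine e1.symm.trans ((congrArg _ e3).trans (e2.trans ?_))
    have e4 : fQ.hom (fQ.inv z) = z := Iso.inv_hom_id_apply fQ z
    show HomologicalComplex.homologyMap s n (fQ.hom (fQ.inv z)) = a • z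
    rw [e4, show HomologicalComplex.homologyMap s n = a • HomologicalComplex.homologyMap (𝟙 Q) n from
      ShortComplex.homologyMap_smul (φ := (HomologicalComplex.shortComplexFunctor _ _ n).map (𝟙 Q)) (a := a), HomologicalComplex.homologyMap_id]
    rfl
  obtain ⟨c, hc⟩ := ((ModuleCat.epi_iff_surjective (E1.homologyπ n)).1 inferInstance)
    ((DerivedCategory.homologyFunctorFactors (ModuleCat.{u} P) n).hom.app E1 y)
  refine ⟨E1.iCycles n c, ?_⟩
  rw [← hkey, ← hc]
  change (E1.iCycles n ≫ φ.f n ≫ inv (R.iCycles n) ≫ R.homologyπ n ≫ HomologicalComplex.homologyMap (Q.ιTruncLE n) n) c = _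
  rw [← ConcreteCategory.comp_apply, HomologicalComplex.homologyMap_comp, HomologicalComplex.homologyπ_naturality_assoc,
    ← HomologicalComplex.cyclesMap_i_assoc, IsIso.hom_inv_id_assoc]

end Groth.L29.Src
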