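import Groth.Agent.L29.RelPC.SrcPc
import Groth.Agent.L29.RelPC.SrcCone
import Groth.Agent.L29.RelPC.SrcNull
import Mathlib.RingTheory.Finiteness.Descent

/-!
Pseudo-coherence descends along faithfully flat finitely presented quotients of polynomial extensions.
-/

set_option autoImplicit false
set_option backward.defeqAttrib.useBackward true
set_option backward.isDefEq.respectTransparency false

universe u

open CategoryTheory CategoryTheory.Limits CategoryTheory.Pretriangulated TensorProduct CochainComplex

attribute [local instance] HasDerivedCategory.standard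

namespace Groth.L29.Src

open Groth.L02.PC

section

variable {P P' : Type u} [CommRing P] [CommRing P'] [Algebra P P']

theorem tensMap_comp_cx {F F' F'' : Type u} [AddCommGroup F] [Module P F] [Module P' F] [IsScalarTower P P' F]
    [AddCommGroup F'] [Module P F'] [Module P' F'] [IsScalarTower P P' F']
    [AddCommGroup F''] [Module P F''] [Module P' F''] [IsScalarTower P P' F'']
    (f : F →ₗ[P'] F') (g : F' →ₗ[P'] F'') (C : DRing.Cx P) :
    tensMapCx P P' f C ≫ tensMapCx P P' g C = tensMapCx P P' (g ∘ₗ f) C := by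
  ext i z
  show (tensMap P P' g).app _ ((tensMap P P' f).app _ z) = (tensMap P P' (g ∘ₗ f)).app _ z
  rw [tensMap_app_rTensor, tensMap_app_rTensor, tensMap_app_rTensor, ← LinearMap.comp_apply, ← LinearMap.rTensor_comp]
  rfl

theorem finite_free_tens {F : Type u} [AddCommGroup F] [Module P F] [Module P' F] [IsScalarTower P P' F]
    [Module.Free P' F] [Module.Finite P' F] (Y : ModuleCat.{u} P) [Module.Free P Y] [Module.Finite P Y] :
    Module.Finite P' ((tens P P' F).obj Y) ∧ Module.Free P' ((tens P P' F).obj Y) :=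
  let b := (Module.Free.chooseBasis P' F).tensorProduct (Module.Free.chooseBasis P Y)
  ⟨(Module.Finite.of_basis b : Module.Finite P' (F ⊗[P] Y)), (Module.Free.of_basis b : Module.Free P' (F ⊗[P] Y))⟩

/-- the cone of a map of finite free modules tensored with a finite free complex -/
theorem pc_cone_free {r : ℕ} (D : (Fin r → P') →ₗ[P'] P') {E : DRing.Cx P} {lo hi : ℤ}
    (v : DRing.VanishesOutside E lo hi) (hE : DRing.TermwiseFiniteFree E) (n : ℤ) :
    DRing.IsPseudoCoherent P' n (DRing.toD (coneObj (tensMap P P' D) (E⟦(1 : ℤ)⟧))) := by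
  let E1 : DRing.Cx P := E⟦(1 : ℤ)⟧
  have hz : ∀ i, i < lo - 1 ∨ hi - 1 < i → IsZero (E1.X i) := fun i hi' => v (i + 1) (by omega)
  refine pc_of_bounded_free (a := lo - 2) (b := hi - 1) (fun i hi' => ?_) (fun i => ?_) n
  · exact (mappingCone.isZero_X_iff _ i).2 ⟨(tens P P' _).map_isZero (hz _ (by omega)),
      (tens P P' _).map_isZero (hz _ (by omega))⟩
  · haveI := (hE (i + 1)).1
    haveI := (hE (i + 1)).2
    haveI := (hE (i + 1 + 1)).1
    haveI := (hE (i + 1 + 1)).2
    obtain ⟨a1, a2⟩ := finite_free_tens (P' := P') (F := Fin r → P') (E.X (i + 1 + 1))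
    obtain ⟨b1, b2⟩ := finite_free_tens (P' := P') (F := P') (E.X (i + 1))
    let e := (HomologicalComplex.homotopyCofiber.XIsoBiprod
      ((NatTrans.mapHomologicalComplex (tensMap P P' D) (ComplexShape.up ℤ)).app E1) i (i + 1) rfl ≪≫
        ModuleCat.biprodIsoProd _ _).toLinearEquiv.symm
    haveI : Module.Finite P' (((tensCx P P' (Fin r → P')).obj E1).X (i + 1)) := a1
    haveI : Module.Free P' (((tensCx P P' (Fin r → P')).obj E1).X (i + 1)) := a2
    haveI : Module.Finite P' (((tensCx P P' P').obj E1).X i) := b1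
    haveI : Module.Free P' (((tensCx P P' P').obj E1).X i) := b2
    exact ⟨Module.Finite.equiv e, Module.Free.of_equiv e⟩

/-- top cohomology of the cone -/
theorem finite_coker [Module.Flat P P'] {r : ℕ} (D : (Fin r → P') →ₗ[P'] P') (Q : DRing.Cx P) (n : ℤ)
    (hQ : ∀ i, n < i → IsZero (Q.homology i))
    (h : DRing.IsPseudoCoherent P' n (DRing.toD (coneObj (tensMap P P' D) Q))) :
    Module.Finite P' ((P' ⊗[P] (Q.homology n : ModuleCat.{u} P)) ⧸
      LinearMap.range (AlgebraTensorModule.map D (LinearMap.id : (Q.homology n : ModuleCat.{u} P) →ₗ[P] _))) := by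
  haveI : Module.Flat P (Fin r → P') :=
    Module.Flat.trans P P' (Fin r → P')
  haveI := (exact_tens P P' (Fin r → P')).1
  haveI := (exact_tens P P' (Fin r → P')).2
  haveI := (exact_tens P P' P').1
  haveI := (exact_tens P P' P').2
  let α := (NatTrans.mapHomologicalComplex (tensMap P P' D) (ComplexShape.up ℤ)).app Q
  let T := DerivedCategory.Q.mapTriangle.obj (mappingCone.triangle α)
  have hT : T ∈ distTriang _ := (DerivedCategory.mem_distTriang_iff _).mpr ⟨_, _, α, ⟨Iso.refl _⟩⟩
  let ff := DerivedCategory.homologyFunctorFactors (ModuleCat.{u} P') n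
  have h₁ : ∀ i, n < i → IsZero ((HH i).obj T.obj₁) := fun i hi => (isZero_HH_Q_iff _ i).2
    (((tens P P' (Fin r → P')).map_isZero (hQ i hi)).of_iso ((Q.sc i).mapHomologyIso (tens P P' (Fin r → P'))))
  have h₂ : ∀ i, n < i → IsZero ((HH i).obj T.obj₂) := fun i hi => (isZero_HH_Q_iff _ i).2
    (((tens P P' P').map_isZero (hQ i hi)).of_iso ((Q.sc i).mapHomologyIso (tens P P' P')))
  have hle : LEH T.obj₃ n := fun i hi =>
    (DerivedCategory.HomologySequence.exact₃ T hT i (i + 1) rfl).isZero_X₂
      ((h₂ i hi).eq_of_src _ _) ((h₁ (i + 1) (by omega)).eq_of_tgt _ _)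
  have hfin : Module.Finite P' ((HH n).obj T.obj₃) := pc_finite h hle
  let A := (HH n).map T.mor₁
  let B := (HH n).map T.mor₂
  have hex : Function.Exact A B :=
    (ShortComplex.ShortExact.moduleCat_exact_iff_function_exact _).1
      (DerivedCategory.HomologySequence.exact₂ T hT n)
  haveI : Epi B := (DerivedCategory.HomologySequence.epi_homologyMap_mor₂_iff T hT n (n + 1) rfl).2
    ((h₁ (n + 1) (by omega)).eq_of_tgt _ _)
  have hfq : Module.Finite P' ((HH n).obj T.obj₂ ⧸ LinearMap.range A.hom) :=
    haveI := hfin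
    Module.Finite.equiv ((Submodule.quotEquivOfEq _ _ hex.linearMap_ker_eq.symm).trans
      (LinearMap.quotKerEquivOfSurjective B.hom ((ModuleCat.epi_iff_surjective B).1 inferInstance))).symm
  let i₁ := ff.app ((tensCx P P' (Fin r → P')).obj Q) ≪≫ (Q.sc n).mapHomologyIso (tens P P' (Fin r → P'))
  let i₂ := ff.app ((tensCx P P' P').obj Q) ≪≫ (Q.sc n).mapHomologyIso (tens P P' P')
  have hsq : A ≫ i₂.hom = i₁.hom ≫ (tensMap P P' D).app (Q.homology n) := by
    have e2 := NatTrans.app_homology (tensMap P P' D) (Q.sc n)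
    have e1 := DerivedCategory.homologyFunctorFactors_hom_naturality α n
    show _ ≫ ff.hom.app _ ≫ _ = _
    refine (Category.assoc _ _ _).symm.trans ?_
    refine (congrArg (· ≫ _) e1).trans ?_
    show _ = (ff.hom.app _ ≫ _) ≫ (tensMap P P' D).app (Q.sc n).homology
    rw [e2, Category.assoc, Category.assoc, Iso.hom_inv_id_assoc]
    rfl
  haveI := hfq
  refine Module.Finite.equiv (Submodule.Quotient.equiv (LinearMap.range A.hom) _ i₂.toLinearEquiv ?_)
  show Submodule.map i₂.toLinearEquiv.toLinearMap _ = _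
  rw [← LinearMap.range_comp]
  have : i₂.toLinearEquiv.toLinearMap ∘ₗ A.hom = (AlgebraTensorModule.map D LinearMap.id) ∘ₗ i₁.toLinearEquiv.toLinearMap :=
    congrArg ModuleCat.Hom.hom hsq
  rw [this, LinearMap.range_comp_of_range_eq_top _ i₁.toLinearEquiv.range]

end

variable {P P' B B' C : Type u} [CommRing P] [CommRing P'] [CommRing B] [CommRing B'] [CommRing C]
  [Algebra P P'] [Algebra P B] [Algebra P B'] [Algebra P' B'] [Algebra B B'] [Algebra B' C] [Algebra B C]
  [Algebra P' C] [Algebra P C] [IsScalarTower P P' B'] [IsScalarTower P B B'] [IsScalarTower B B' C]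
  [IsScalarTower P' B' C] [IsScalarTower P B C] [IsScalarTower P P' C]
  [Module.Flat P P'] [Module.Flat B B'] [Module.FaithfullyFlat B C]

theorem step (hq : Quot P P' B B') (hI : (RingHom.ker (algebraMap P B)).FG) (hCs : Function.Surjective (algebraMap B' C))
    (hCpc : DRing.IsPseudoCoherentModule' B' C) (N : DRing.Cx B) {b n : ℤ} (hb : DRing.VanishesAbove N b)
    (hn : DRing.IsPseudoCoherent P (n + 1) (DRing.toD ((DRing.restrictCx (algebraMap P B)).obj N)))
    (hC : DRing.IsPseudoCoherent P' n
      (DRing.toD ((tensCx P P' C).obj ((DRing.restrictCx (algebraMap P B)).obj N)))) :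
    DRing.IsPseudoCoherent P n (DRing.toD ((DRing.restrictCx (algebraMap P B)).obj N)) := by
  classical
  let C₀ := (DRing.restrictCx (algebraMap P B)).obj N
  obtain ⟨E, lo, hi, α, v, fE, happ⟩ := (pc_iff _ _).1 hn
  have := isKProjective_bounded v fE
  obtain ⟨g, rfl⟩ := exists_chainMap α
  rw [isApprox_Q_map_iff] at happ
  let Q := mappingCone g
  have hex : ∀ i, n < i → IsZero (Q.homology i) := fun i hi' => happ i (by omega)
  suffices hZ : Module.Finite P (Q.homology n : ModuleCat.{u} P) by
    let T := DerivedCategory.Q.mapTriangle.obj (mappingCone.triangle g)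
    exact pc_second T ((DerivedCategory.mem_distTriang_iff _).mpr ⟨_, _, g, ⟨Iso.refl _⟩⟩) n
      (pc_of_bounded_free v fE n) (pc_of_finite Q n hex)
  -- the finitely generated submodule absorbing the kernel
  obtain ⟨gens, hgens⟩ := hI
  have hkill : ∀ a ∈ RingHom.ker (algebraMap P B), ∀ i, ∀ x : C₀.X i, a • x = 0 := fun a ha i x => by
    show algebraMap P B a • (show N.X i from x) = 0
    rw [RingHom.mem_ker.1 ha, zero_smul]
  have hWex := fun a : gens => exists_fg_smul g a.1 (hkill a.1 (hgens ▸ Ideal.subset_span a.2)) v fE n hex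
  choose W hWfg hW using hWex
  let W₀ : Submodule P (Q.homology n : ModuleCat.{u} P) := ⨆ a, W a
  have hW₀fg : W₀.FG := Submodule.fg_iSup _ hWfg
  have hW₀ : ∀ a ∈ RingHom.ker (algebraMap P B), ∀ z, a • z ∈ W₀ := by
    intro a ha z
    rw [← hgens] at ha
    induction ha using Submodule.span_induction with
    | mem x hx => exact Submodule.mem_iSup_of_mem ⟨x, hx⟩ (hW ⟨x, hx⟩ z)
    | zero => rw [zero_smul]; exact zero_mem _
    | add x y _ _ hx hy => rw [add_smul]; exact add_mem hx hy
    | smul c x _ hx => rw [smul_eq_mul, mul_smul]; exact Submodule.smul_mem _ c hx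
  -- the kernel of `B' → C` and its cover
  haveI : IsScalarTower B B' B' := inferInstance
  obtain ⟨hJ, hJflat⟩ := ker_cover (B := B) hCpc (Algebra.linearMap B' C) hCs
  let J := LinearMap.ker (Algebra.linearMap B' C)
  haveI := hJflat
  haveI : Module.Finite B' J := Groth.L10.DR.finite_of_pcModule_zero (pc_of_pc' hJ 0)
  obtain ⟨r, u, hu⟩ := Module.Finite.exists_fin' B' J
  obtain ⟨hK, hKflat⟩ := ker_cover (B := B) hJ u hu
  let rB : (Fin r → B') →ₗ[B'] B' := J.subtype ∘ₗ u
  choose x hx using fun j => hq.surj (rB (Pi.single j 1))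
  let D : (Fin r → P') →ₗ[P'] P' := Fintype.linearCombination P' x
  have hDsq : (Algebra.linearMap P' B') ∘ₗ D = (rB.restrictScalars P') ∘ₗ red P' B' r := by
    refine LinearMap.pi_ext' fun j => LinearMap.ext_ring ?_
    show algebraMap P' B' (D (Pi.single j 1)) = rB (fun i => algebraMap P' B' ((Pi.single j (1 : P') : Fin r → P') i))
    rw [Fintype.linearCombination_apply_single, one_smul, hx]
    exact congrArg rB (funext fun i => by
      by_cases hij : i = j
      · subst hij; simp
      · simp [hij])
  letI : ∀ i, Module B (C₀.X i) := fun i => (inferInstance : Module B (N.X i))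
  haveI : ∀ i, IsScalarTower P B (C₀.X i) := fun i => IsScalarTower.of_algebraMap_smul fun _ _ => rfl
  haveI : IsScalarTower P B' C := IsScalarTower.of_algebraMap_smul fun a y => by
    rw [IsScalarTower.algebraMap_apply P P' B', algebraMap_smul, algebraMap_smul]
  -- two triangles
  obtain ⟨w₁, hT₁⟩ := exists_triangle P P'
    (f := (LinearMap.ker u).subtype.restrictScalars P') (g := u.restrictScalars P')
    u.exact_subtype_ker_map hu C₀ fun i =>
      rTensor_injective_quot (B := B) hq.surjB (C₀.X i) _ (u.restrictScalars P) Subtype.val_injective hu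
        u.exact_subtype_ker_map
  haveI : Module.Flat B C := inferInstance
  obtain ⟨w₂, hT₂⟩ := exists_triangle P P'
    (f := J.subtype.restrictScalars P') (g := (Algebra.linearMap B' C).restrictScalars P')
    (Algebra.linearMap B' C).exact_subtype_ker_map hCs C₀ fun i =>
      rTensor_injective_quot (B := B) hq.surjB (C₀.X i) _ ((Algebra.linearMap B' C).restrictScalars P)
        Subtype.val_injective hCs (Algebra.linearMap B' C).exact_subtype_ker_map
  have hKpc := pc_tens_flat hq N hb hn (b - n).toNat (n + 1) le_rfl (by omega) (LinearMap.ker u) hK hKflat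
  let uC := DerivedCategory.Q.map (tensMapCx P P' (u.restrictScalars P') C₀)
  have h12 := rot_of_distTriang _ hT₁
  let rC := tensMapCx P P' (rB.restrictScalars P') C₀
  have comm : uC ≫ DerivedCategory.Q.map (tensMapCx P P' (J.subtype.restrictScalars P') C₀) =
      DerivedCategory.Q.map rC := by
    rw [← Functor.map_comp, tensMap_comp_cx]
    rfl
  let H := Triangulated.someOctahedron comm h12 hT₂
    ((DerivedCategory.mem_distTriang_iff _).mpr ⟨_, _, rC, ⟨Iso.refl _⟩⟩ :
      DerivedCategory.Q.mapTriangle.obj (mappingCone.triangle rC) ∈ distTriang _)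
  have h12pc : DRing.IsPseudoCoherent P' n ((DRing.toD ((tensCx P P' (LinearMap.ker u)).obj C₀))⟦(1 : ℤ)⟧) :=
    pc_shift hKpc 1 n (by omega)
  have hZ13 : DRing.IsPseudoCoherent P' n (DRing.toD (mappingCone rC)) := pc_second _ H.mem n h12pc hC
  -- back to `P'`
  haveI := isIso_red (B := B) hq N r
  haveI : IsIso (tensMapCx P P' (Algebra.linearMap P' B') C₀) :=
    isIso_tensMap_of_killed _ _ hq.surj hq.ker _ fun i a ha => hkill a ha i
  let tD := tensMapCx P P' D C₀
  have hcone : DRing.IsPseudoCoherent P' n (DRing.toD (coneObj (tensMap P P' D) C₀)) := by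
    refine Groth.L02.PC.pc_of_iso (Triangle.π₃.mapIso (isoTriangleOfIso₁₂
      (DerivedCategory.Q.mapTriangle.obj (mappingCone.triangle tD))
      (DerivedCategory.Q.mapTriangle.obj (mappingCone.triangle rC))
      ((DerivedCategory.mem_distTriang_iff _).mpr ⟨_, _, tD, ⟨Iso.refl _⟩⟩)
      ((DerivedCategory.mem_distTriang_iff _).mpr ⟨_, _, rC, ⟨Iso.refl _⟩⟩)
      (DerivedCategory.Q.mapIso (asIso (tensMapCx P P' (red P' B' r) C₀)))
      (DerivedCategory.Q.mapIso (asIso (tensMapCx P P' (Algebra.linearMap P' B') C₀))) ?_)).symm hZ13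
    show DerivedCategory.Q.map tD ≫ DerivedCategory.Q.map _ = DerivedCategory.Q.map _ ≫ DerivedCategory.Q.map rC
    simp only [asIso_hom]
    rw [← Functor.map_comp, ← Functor.map_comp, tensMap_comp_cx, tensMap_comp_cx, hDsq]
  let E1 : DRing.Cx P := E⟦(1 : ℤ)⟧
  obtain ⟨T, hTs, e₁, e₂, e₃⟩ := exists_coneSES (tensMap P P' D) (mappingCone.triangleRotateShortComplex g)
    (mappingCone.triangleRotateShortComplexSplitting g)
  have hQpc : DRing.IsPseudoCoherent P' n (DRing.toD (coneObj (tensMap P P' D) Q)) := by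
    have := pc_second _ (DerivedCategory.triangleOfSES_distinguished hTs) n
      (show DRing.IsPseudoCoherent P' n (DRing.toD T.X₁) by rw [e₁]; exact hcone)
      (show DRing.IsPseudoCoherent P' n (DRing.toD T.X₃) by rw [e₃]; exact pc_cone_free D v fE n)
    have : DRing.IsPseudoCoherent P' n (DRing.toD T.X₂) := this
    rwa [e₂] at this
  haveI := finite_coker D Q n hex hQpc
  let Z := (Q.homology n : ModuleCat.{u} P)
  let M := Z ⧸ W₀
  let π : P' ⊗[P] Z →ₗ[P'] C ⊗[P] M := AlgebraTensorModule.map (Algebra.linearMap P' C) W₀.mkQ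
  have hπ : Function.Surjective π :=
    TensorProduct.map_surjective (show Function.Surjective ((Algebra.linearMap P' C).restrictScalars P) from fun c => by
        obtain ⟨b, rfl⟩ := hCs c
        obtain ⟨a, rfl⟩ := hq.surj b
        exact ⟨a, IsScalarTower.algebraMap_apply P' B' C a⟩) (Submodule.mkQ_surjective W₀)
  have hrange : LinearMap.range (AlgebraTensorModule.map D (LinearMap.id : Z →ₗ[P] Z)) ≤ LinearMap.ker π := by
    rintro _ ⟨z, rfl⟩
    induction z using TensorProduct.induction_on with
    | zero => simp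
    | add a b ha hb => rw [map_add]; exact add_mem ha hb
    | tmul a z =>
      show algebraMap P' C (D a) ⊗ₜ[P] _ = (0 : C ⊗[P] M)
      rw [IsScalarTower.algebraMap_apply P' B' C, show algebraMap P' B' (D a) = rB (red P' B' r a) from
        LinearMap.congr_fun hDsq a, show algebraMap B' C (rB (red P' B' r a)) = 0 from (u (red P' B' r a)).2,
        TensorProduct.zero_tmul]
  haveI : Module.Finite P' (C ⊗[P] M) := Module.Finite.of_surjective _
    (show Function.Surjective (Submodule.liftQ _ π hrange) from fun y => by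
      obtain ⟨z, rfl⟩ := hπ y; exact ⟨Submodule.Quotient.mk z, rfl⟩)
  haveI : Module.Finite C (C ⊗[P] M) := Module.Finite.of_restrictScalars_finite P' C _
  haveI : Module.Finite B (B ⊗[P] M) := by
    haveI : Module.Finite C (C ⊗[B] (B ⊗[P] M)) :=
      Module.Finite.equiv (AlgebraTensorModule.cancelBaseChange P B C C M).symm
    exact Module.Finite.of_finite_tensorProduct_of_faithfullyFlat C
  haveI : Module.Finite P B := Module.Finite.of_surjective (Algebra.linearMap P B) hq.surjB
  haveI : Module.Finite P (B ⊗[P] M) := Module.Finite.trans B _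
  have hbij := rTensor_bijective_of_killed (RingHom.ker (algebraMap P B)) (Algebra.linearMap P B) hq.surjB
    (fun a ha => by
      rw [show a = a • (1 : P) by simp]
      exact Submodule.smul_mem_smul ha trivial) M
    (fun a ha m => by
      obtain ⟨z, rfl⟩ := W₀.mkQ_surjective m
      exact (Submodule.Quotient.mk_eq_zero W₀).2 (hW₀ a ha z))
  haveI : Module.Finite P M :=
    Module.Finite.equiv ((LinearEquiv.ofBijective _ hbij).symm.trans (TensorProduct.lid P M))
  haveI : Module.Finite P W₀ := Module.Finite.of_fg hW₀fg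
  exact Module.Finite.of_submodule_quotient W₀

end Groth.L29.Src
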