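import Groth.Agent.L29.RelPC.SrcCore

/-!
Descending induction: pseudo-coherence along faithfully flat quotients.
-/

set_option autoImplicit false
set_option backward.defeqAttrib.useBackward true
set_option backward.isDefEq.respectTransparency false

universe u

open CategoryTheory CategoryTheory.Limits CategoryTheory.Pretriangulated TensorProduct

attribute [local instance] HasDerivedCategory.standard

namespace Groth.L29.Src

open Groth.L02.PC

variable {P P' B B' C : Type u} [CommRing P] [CommRing P'] [CommRing B] [CommRing B'] [CommRing C]
  [Algebra P P'] [Algebra P B] [Algebra P B'] [Algebra P' B'] [Algebra B B'] [Algebra B' C] [Algebra B C]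
  [Algebra P' C] [Algebra P C] [IsScalarTower P P' B'] [IsScalarTower P B B'] [IsScalarTower B B' C]
  [IsScalarTower P' B' C] [IsScalarTower P B C] [IsScalarTower P P' C]
  [Module.Flat P P'] [Module.Flat B B'] [Module.FaithfullyFlat B C]

theorem descent (hq : Quot P P' B B') (hI : (RingHom.ker (algebraMap P B)).FG)
    (hCs : Function.Surjective (algebraMap B' C)) (hCpc : DRing.IsPseudoCoherentModule' B' C) (N : DRing.Cx B)
    {b m : ℤ} (hb : DRing.VanishesAbove N b)
    (hC : DRing.IsPseudoCoherent P' m
      (DRing.toD ((tensCx P P' C).obj ((DRing.restrictCx (algebraMap P B)).obj N)))) :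
    DRing.IsPseudoCoherent P m (DRing.toD ((DRing.restrictCx (algebraMap P B)).obj N)) := by
  have hbd : LEH (DRing.toD ((DRing.restrictCx (algebraMap P B)).obj N)) (max b m) := fun i hi => by
    rw [isZero_HH_Q_iff, ← HomologicalComplex.exactAt_iff_isZero_homology]
    exact ShortComplex.exact_of_isZero_X₂ _ ((ModuleCat.restrictScalars.{u} _).map_isZero (hb i (by omega)))
  suffices ∀ k : ℕ, m ≤ max b m + 1 - k → DRing.IsPseudoCoherent P (max b m + 1 - k)
      (DRing.toD ((DRing.restrictCx (algebraMap P B)).obj N)) by
    have h := this (max b m + 1 - m).toNat (by omega)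
    rwa [show max b m + 1 - ((max b m + 1 - m).toNat : ℤ) = m by omega] at h
  intro k
  induction k with
  | zero => intro _; simpa using pc_of_LEH hbd
  | succ k ih =>
    intro hk
    exact step hq hI hCs hCpc N hb (b := b)
      (by have := ih (by omega); rwa [show max b m + 1 - ((k + 1 : ℕ) : ℤ) + 1 = max b m + 1 - (k : ℤ) by omega])
      (pc_mono hk hC)

end Groth.L29.Src
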