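import Groth.Agent.L29.RelPC.SrcQuot

/-!
Pseudo-coherence of tensors with flat pseudo-coherent modules.
-/

set_option autoImplicit false
set_option backward.defeqAttrib.useBackward true
set_option backward.isDefEq.respectTransparency false

universe u

open CategoryTheory CategoryTheory.Limits CategoryTheory.Pretriangulated TensorProduct

attribute [local instance] HasDerivedCategory.standard

namespace Groth.L29.Src

open Groth.L02.PC

variable {P P' : Type u} [CommRing P] [CommRing P'] [Algebra P P']

/-- tensor with the ring is extension of scalars -/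
noncomputable def tensSelfIso : ModuleCat.extendScalars.{u, u, u} (algebraMap P P') ≅ tens P P' P' :=
  NatIso.ofComponents (fun M => LinearEquiv.toModuleIso (Groth.L29.FlatBC.extEquiv P P' M))
    fun {M N} g => ModuleCat.hom_ext (LinearMap.ext fun x => by
      induction x using TensorProduct.induction_on with
      | zero => erw [map_zero]
      | add x y hx hy => erw [map_add, map_add, hx, hy]
      | tmul a m => rfl)

theorem pc_tens_free [Module.Flat P P'] {C : DRing.Cx P} {n : ℤ} (h : DRing.IsPseudoCoherent P n (DRing.toD C)) :
    ∀ r : ℕ, DRing.IsPseudoCoherent P' n (DRing.toD ((tensCx P P' (Fin r → P')).obj C)) := by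
  intro r
  induction r with
  | zero =>
    refine pc_mono (show (n - 1) + 1 ≤ n by omega) (pc_of_LEH fun i _ => ?_)
    rw [isZero_HH_Q_iff, ← HomologicalComplex.exactAt_iff_isZero_homology]
    refine ShortComplex.exact_of_isZero_X₂ _ ?_
    exact @ModuleCat.isZero_of_subsingleton P' _ _
      (inferInstanceAs (Subsingleton ((Fin 0 → P') ⊗[P] C.X i)))
  | succ r ih =>
    let f : P' →ₗ[P'] (Fin (r + 1) → P') := LinearMap.single P' (fun _ => P') 0
    let g : (Fin (r + 1) → P') →ₗ[P'] (Fin r → P') := LinearMap.funLeft P' P' Fin.succ
    have hfg : Function.Exact f g := fun v => by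
      constructor
      · intro hv
        refine ⟨v 0, funext fun i => ?_⟩
        refine Fin.cases ?_ (fun j => ?_) i
        · simp [f]
        · have := congrFun hv j
          simp [g] at this
          simp [f, this]
      · rintro ⟨x, rfl⟩
        exact funext fun i => by simp [f, g]
    obtain ⟨_, hT⟩ := exists_triangle P P' hfg
      (LinearMap.funLeft_surjective_of_injective P' P' _ (Fin.succ_injective r)) C fun i => by
      refine Function.LeftInverse.injective (g := ((LinearMap.proj (R := P') (φ := fun _ => P') 0).restrictScalars P).rTensor (C.X i))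
        fun z => ?_
      rw [← LinearMap.comp_apply, ← LinearMap.rTensor_comp]
      rw [show (LinearMap.proj (R := P') (φ := fun _ : Fin (r + 1) => P') 0).restrictScalars P ∘ₗ f.restrictScalars P = LinearMap.id from
        LinearMap.ext fun x => by simp [f], LinearMap.rTensor_id]
      rfl
    have h1 : DRing.IsPseudoCoherent P' n (DRing.toD ((tensCx P P' P').obj C)) := pc_of_iso
      (DerivedCategory.Q.mapIso ((NatIso.mapHomologicalComplex tensSelfIso (ComplexShape.up ℤ)).app C))
      (Groth.L10.RelPC.pc_ext_flat _ (RingHom.flat_algebraMap_iff.2 inferInstance) h)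
    exact pc_second _ hT n h1 ih

variable {B B' : Type u} [CommRing B] [CommRing B'] [Algebra P B] [Algebra P B'] [Algebra P' B'] [Algebra B B']
  [IsScalarTower P P' B'] [IsScalarTower P B B']

/-- the two conditions on a quotient -/
structure Quot (P P' B B' : Type u) [CommRing P] [CommRing P'] [CommRing B] [CommRing B'] [Algebra P P']
    [Algebra P B] [Algebra P' B'] [Algebra P B'] [IsScalarTower P P' B'] : Prop where
  surjB : Function.Surjective (algebraMap P B)
  surj : Function.Surjective (algebraMap P' B')
  ker : LinearMap.ker ((Algebra.linearMap P' B').restrictScalars P) ≤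
    RingHom.ker (algebraMap P B) • (⊤ : Submodule P P')

/-- free modules over `P'` and over `B'` -/
noncomputable abbrev red (P' B' : Type u) [CommRing P'] [CommRing B'] [Algebra P' B'] (r : ℕ) :
    (Fin r → P') →ₗ[P'] (Fin r → B') := (Algebra.linearMap P' B').compLeft (Fin r)

theorem isIso_red (hq : Quot P P' B B') (N : DRing.Cx B) (r : ℕ) :
    IsIso (tensMapCx P P' (red P' B' r) ((DRing.restrictCx (algebraMap P B)).obj N)) := by
  classical
  refine isIso_tensMap_of_killed (RingHom.ker (algebraMap P B)) _ (hq.surj.comp_left) (fun v hv => ?_) _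
    fun i a ha x => ?_
  · rw [← LinearMap.sum_single_apply (φ := fun _ : Fin r => P') v]
    refine Submodule.sum_mem _ fun j _ => ?_
    have hj : v j ∈ RingHom.ker (algebraMap P B) • (⊤ : Submodule P P') := hq.ker (congrFun hv j)
    have := Submodule.mem_map_of_mem (f := LinearMap.single P (fun _ : Fin r => P') j) hj
    rw [Submodule.map_smul''] at this
    exact Submodule.smul_mono le_rfl le_top this
  · show algebraMap P B a • (show N.X i from x) = 0
    rw [RingHom.mem_ker.1 ha, zero_smul]

variable [Module.Flat P P'] [Module.Flat B B']

/-- tensors with flat pseudo-coherent `B'`-modules stay pseudo-coherent -/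
theorem pc_tens_flat (hq : Quot P P' B B') (N : DRing.Cx B) {b n : ℤ} (hb : DRing.VanishesAbove N b)
    (h : DRing.IsPseudoCoherent P n (DRing.toD ((DRing.restrictCx (algebraMap P B)).obj N))) :
    ∀ (j : ℕ) (k : ℤ), n ≤ k → b + 1 - j ≤ k →
      ∀ (F : Type u) [AddCommGroup F] [Module P F] [Module P' F] [Module B' F] [Module B F] [IsScalarTower P P' F]
        [IsScalarTower P' B' F] [IsScalarTower B B' F] [IsScalarTower P B F],
        DRing.IsPseudoCoherentModule' B' F → Module.Flat B F →
        DRing.IsPseudoCoherent P' k (DRing.toD ((tensCx P P' F).obj ((DRing.restrictCx (algebraMap P B)).obj N))) := by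
  intro j
  induction j with
  | zero =>
    intro k _ hk F _ _ _ _ _ _ _ _ _ _ _
    refine pc_mono (show (k - 1) + 1 ≤ k by omega) (pc_of_LEH fun i hi => ?_)
    rw [isZero_HH_Q_iff, ← HomologicalComplex.exactAt_iff_isZero_homology]
    refine ShortComplex.exact_of_isZero_X₂ _ ?_
    exact (tens P P' F).map_isZero ((ModuleCat.restrictScalars.{u} _).map_isZero (hb i (by omega)))
  | succ j ih =>
    intro k hnk hk F _ _ _ _ _ _ _ _ _ hF hflat
    haveI := hflat
    haveI : Module.Finite B' F := Groth.L10.DR.finite_of_pcModule_zero (pc_of_pc' hF 0)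
    haveI : IsScalarTower P B' F := IsScalarTower.of_algebraMap_smul fun a x => by
      rw [IsScalarTower.algebraMap_apply P P' B', algebraMap_smul, algebraMap_smul]
    obtain ⟨r, u, hu⟩ := Module.Finite.exists_fin' B' F
    obtain ⟨hK, hKflat⟩ := ker_cover (B := B) hF u hu
    let C := (DRing.restrictCx (algebraMap P B)).obj N
    have hK' := ih (k + 1) (by omega) (by omega) (LinearMap.ker u) hK hKflat
    haveI := isIso_red (B := B) hq N r
    have hL : DRing.IsPseudoCoherent P' k (DRing.toD ((tensCx P P' (Fin r → B')).obj C)) :=
      pc_of_iso (asIso (DerivedCategory.Q.map (tensMapCx P P' (red P' B' r) C))) (pc_mono hnk (pc_tens_free h r))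
    obtain ⟨_, hT⟩ := exists_triangle P P'
      (f := (LinearMap.ker u).subtype.restrictScalars P') (g := u.restrictScalars P')
      u.exact_subtype_ker_map hu C fun i => by
        letI : Module B (C.X i) := (inferInstance : Module B (N.X i))
        haveI : IsScalarTower P B (C.X i) := IsScalarTower.of_algebraMap_smul fun _ _ => rfl
        haveI : IsScalarTower P B (Fin r → B') := inferInstance
        exact rTensor_injective_quot (B := B) hq.surjB (C.X i) _ (u.restrictScalars P) Subtype.val_injective hu
          u.exact_subtype_ker_map
    exact pc_third _ hT k hK' hL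

end Groth.L29.Src
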