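import Groth.Agent.L10.RelPC.Basic
import Groth.Agent.L10.DRing.FlatDescent
import Mathlib.RingTheory.Flat.Equalizer
import Mathlib.LinearAlgebra.TensorProduct.Tower

/-!
Tensoring complexes of modules over `P` with modules over a `P`-algebra.
-/

set_option autoImplicit false
set_option backward.defeqAttrib.useBackward true
set_option backward.isDefEq.respectTransparency false

universe u

open CategoryTheory CategoryTheory.Limits CategoryTheory.Pretriangulated TensorProduct

attribute [local instance] HasDerivedCategory.standard

namespace Groth.L29.Src

section Tens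

variable (P P' : Type u) [CommRing P] [CommRing P'] [Algebra P P']
variable (F : Type u) [AddCommGroup F] [Module P F] [Module P' F] [IsScalarTower P P' F]

/-- `F ⊗_P -` into modules over `P'` -/
noncomputable def tens : ModuleCat.{u} P ⥤ ModuleCat.{u} P' where
  obj Y := ModuleCat.of P' (F ⊗[P] Y)
  map h := ModuleCat.ofHom (AlgebraTensorModule.lTensor P' F h.hom)
  map_id Y := ModuleCat.hom_ext (LinearMap.ext fun z => by
    change LinearMap.lTensor F LinearMap.id z = z
    rw [LinearMap.lTensor_id]; rfl)
  map_comp f g := ModuleCat.hom_ext (LinearMap.ext fun z => by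
    change LinearMap.lTensor F (g.hom ∘ₗ f.hom) z = LinearMap.lTensor F g.hom (LinearMap.lTensor F f.hom z)
    rw [LinearMap.lTensor_comp]; rfl)

instance tens_additive : (tens P P' F).Additive where
  map_add {X Y} f g := ModuleCat.hom_ext (LinearMap.ext fun z => by
    change LinearMap.lTensor F (f.hom + g.hom) z = LinearMap.lTensor F f.hom z + LinearMap.lTensor F g.hom z
    rw [LinearMap.lTensor_add]; rfl)

/-- on complexes -/
noncomputable abbrev tensCx : DRing.Cx P ⥤ DRing.Cx P' := (tens P P' F).mapHomologicalComplex (ComplexShape.up ℤ)

theorem exact_tens [Module.Flat P F] : PreservesFiniteLimits (tens P P' F) ∧ PreservesFiniteColimits (tens P P' F) := by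
  have h : ∀ S : ShortComplex (ModuleCat.{u} P), S.ShortExact → (S.map (tens P P' F)).ShortExact := fun S hS =>
    have hfg := (ShortComplex.ShortExact.moduleCat_exact_iff_function_exact _).1 hS.exact
    { exact := (ShortComplex.ShortExact.moduleCat_exact_iff_function_exact _).2
        (lTensor_exact F hfg hS.moduleCat_surjective_g)
      mono_f := ConcreteCategory.mono_of_injective _
        (Module.Flat.lTensor_preserves_injective_linearMap _ hS.moduleCat_injective_f)
      epi_g := ConcreteCategory.epi_of_surjective _ (LinearMap.lTensor_surjective _ hS.moduleCat_surjective_g) }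
  have ht : (∀ S : ShortComplex (ModuleCat.{u} P), S.ShortExact → (S.map (tens P P' F)).ShortExact) ↔
      (PreservesFiniteLimits (tens P P' F) ∧ PreservesFiniteColimits (tens P P' F)) :=
    (tens P P' F).exact_tfae.out 0 3
  exact ht.1 h

end Tens

section Maps

variable (P P' : Type u) [CommRing P] [CommRing P'] [Algebra P P']
variable {F F' : Type u} [AddCommGroup F] [Module P F] [Module P' F] [IsScalarTower P P' F]
  [AddCommGroup F'] [Module P F'] [Module P' F'] [IsScalarTower P P' F']

/-- naturality in the module -/
noncomputable def tensMap (f : F →ₗ[P'] F') : tens P P' F ⟶ tens P P' F' where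
  app Y := ModuleCat.ofHom (AlgebraTensorModule.map f (LinearMap.id : (Y : Type u) →ₗ[P] Y))
  naturality {X Y} h := ModuleCat.hom_ext (LinearMap.ext fun z => by
    change AlgebraTensorModule.map f LinearMap.id (LinearMap.lTensor F h.hom z) =
      LinearMap.lTensor F' h.hom (AlgebraTensorModule.map f LinearMap.id z)
    induction z using TensorProduct.induction_on with
    | zero => simp
    | tmul a b => rfl
    | add x y hx hy => simp only [map_add, hx, hy])

/-- on complexes -/
noncomputable abbrev tensMapCx (f : F →ₗ[P'] F') (C : DRing.Cx P) :
    (tensCx P P' F).obj C ⟶ (tensCx P P' F').obj C :=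
  (NatTrans.mapHomologicalComplex (tensMap P P' f) (ComplexShape.up ℤ)).app C

theorem tensMap_app_rTensor (f : F →ₗ[P'] F') (Y : ModuleCat.{u} P) (z : F ⊗[P] Y) :
    (tensMap P P' f).app Y z = (f.restrictScalars P).rTensor Y z := by
  change AlgebraTensorModule.map f LinearMap.id z = _
  induction z using TensorProduct.induction_on with
  | zero => simp
  | tmul a b => rfl
  | add x y hx hy => simp only [map_add, hx, hy]

theorem isIso_tensMap_app (f : F →ₗ[P'] F') (Y : ModuleCat.{u} P)
    (h : Function.Bijective ((f.restrictScalars P).rTensor Y)) : IsIso ((tensMap P P' f).app Y) :=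
  (ConcreteCategory.isIso_iff_bijective _).2 (by
    rwa [show (⇑((tensMap P P' f).app Y)) = (f.restrictScalars P).rTensor Y from
      funext (tensMap_app_rTensor P P' f Y)])

variable {F'' : Type u} [AddCommGroup F''] [Module P F''] [Module P' F''] [IsScalarTower P P' F'']

theorem exists_triangle {f : F →ₗ[P'] F'} {g : F' →ₗ[P'] F''} (hfg : Function.Exact f g)
    (hg : Function.Surjective g) (C : DRing.Cx P)
    (hinj : ∀ i, Function.Injective ((f.restrictScalars P).rTensor (C.X i))) :
    ∃ (w : DRing.toD ((tensCx P P' F'').obj C) ⟶ (DRing.toD ((tensCx P P' F).obj C))⟦(1 : ℤ)⟧),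
      Triangle.mk (DerivedCategory.Q.map (tensMapCx P P' f C)) (DerivedCategory.Q.map (tensMapCx P P' g C)) w ∈
        distinguishedTriangles := by
  let S : ShortComplex (DRing.Cx P') := ShortComplex.mk (tensMapCx P P' f C) (tensMapCx P P' g C) (by
    ext i : 1
    refine ModuleCat.hom_ext (LinearMap.ext fun z => ?_)
    show (tensMap P P' g).app _ ((tensMap P P' f).app _ z) = 0
    rw [tensMap_app_rTensor, tensMap_app_rTensor, ← LinearMap.comp_apply, ← LinearMap.rTensor_comp,
      show (g.restrictScalars P) ∘ₗ (f.restrictScalars P) = 0 from LinearMap.ext fun a => hfg.apply_apply_eq_zero a,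
      LinearMap.rTensor_zero]
    rfl)
  have hS : S.ShortExact := HomologicalComplex.shortExact_of_degreewise_shortExact _ fun i =>
    { exact := (ShortComplex.ShortExact.moduleCat_exact_iff_function_exact _).2 (by
        have h := rTensor_exact (C.X i) (f := f.restrictScalars P) (g := g.restrictScalars P) hfg hg
        intro z
        show (tensMap P P' g).app (C.X i) z = 0 ↔ z ∈ Set.range ⇑((tensMap P P' f).app (C.X i))
        rw [tensMap_app_rTensor, show (⇑((tensMap P P' f).app (C.X i))) = (f.restrictScalars P).rTensor (C.X i) from
          funext (tensMap_app_rTensor P P' f _)]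
        exact h z)
      mono_f := ConcreteCategory.mono_of_injective _ (by
        show Function.Injective ⇑((tensMap P P' f).app (C.X i))
        rw [show (⇑((tensMap P P' f).app (C.X i))) = (f.restrictScalars P).rTensor (C.X i) from
          funext (tensMap_app_rTensor P P' f _)]
        exact hinj i)
      epi_g := ConcreteCategory.epi_of_surjective _ (by
        show Function.Surjective ⇑((tensMap P P' g).app (C.X i))
        rw [show (⇑((tensMap P P' g).app (C.X i))) = (g.restrictScalars P).rTensor (C.X i) from
          funext (tensMap_app_rTensor P P' g _)]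
        exact LinearMap.rTensor_surjective _ (g := g.restrictScalars P) hg) }
  exact ⟨_, DerivedCategory.triangleOfSES_distinguished hS⟩

end Maps

section Quot

variable {P B : Type u} [CommRing P] [CommRing B] [Algebra P B] (hs : Function.Surjective (algebraMap P B))
variable {F F' F'' : Type u} [AddCommGroup F] [Module P F] [AddCommGroup F'] [Module P F'] [Module B F']
  [IsScalarTower P B F'] [AddCommGroup F''] [Module P F''] [Module B F''] [IsScalarTower P B F'']
  [Module B F] [IsScalarTower P B F]
variable (N : Type u) [AddCommGroup N] [Module P N] [Module B N] [IsScalarTower P B N]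

include hs in
theorem rTensor_injective_quot (f : F →ₗ[P] F') (g : F' →ₗ[P] F'') (hf : Function.Injective f)
    (hg : Function.Surjective g) (hfg : Function.Exact f g) [Module.Flat B F''] :
    Function.Injective (f.rTensor N) := by
  let fB : F →ₗ[B] F' := LinearMap.extendScalarsOfSurjective hs f
  let gB : F' →ₗ[B] F'' := LinearMap.extendScalarsOfSurjective hs g
  have h := LinearMap.lTensor_injective_of_exact_of_flat gB hg fB hf hfg N
  have hr : Function.Injective (fB.rTensor N) := by
    intro a b hab
    have hc : ∀ z, fB.lTensor N (TensorProduct.comm B F N z) = TensorProduct.comm B F' N (fB.rTensor N z) := fun z => by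
      induction z using TensorProduct.induction_on with
      | zero => simp
      | tmul a b => rfl
      | add x y hx hy => simp only [map_add, hx, hy]
    exact (TensorProduct.comm B F N).injective (h (by rw [hc, hc, hab]))
  haveI := TensorProduct.CompatibleSMul.of_algebraMap_surjective (R := P) (M := F) (N := N) hs
  haveI := TensorProduct.CompatibleSMul.of_algebraMap_surjective (R := P) (M := F') (N := N) hs
  let e := TensorProduct.equivOfCompatibleSMul P B P F N
  let e' := TensorProduct.equivOfCompatibleSMul P B P F' N
  have hsq : ∀ z, f.rTensor N (e z) = e' (fB.rTensor N z) := fun z => by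
    induction z using TensorProduct.induction_on with
    | zero => simp
    | tmul a b => rfl
    | add x y hx hy => simp only [map_add, hx, hy]
  intro a b hab
  obtain ⟨a, rfl⟩ := e.surjective a
  obtain ⟨b, rfl⟩ := e.surjective b
  rw [hsq, hsq] at hab
  exact congrArg e (hr (e'.injective hab))

end Quot

end Groth.L29.Src
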