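import Groth.Agent.L29.RelPC.SrcPhi
import Groth.Agent.L19.PerfectHom
import Groth.Agent.L29.Dual.FlatBC
import Groth.Agent.L10.RelPC.BC

/-!
Tensors with modules killed by an ideal; kernels of covers; comparisons with extension of scalars.
-/

set_option autoImplicit false
set_option backward.defeqAttrib.useBackward true
set_option backward.isDefEq.respectTransparency false

universe u

open CategoryTheory CategoryTheory.Limits CategoryTheory.Pretriangulated TensorProduct

attribute [local instance] HasDerivedCategory.standard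

namespace Groth.L29.Src

open Groth.L02.PC

variable {P : Type u} [CommRing P]

theorem rTensor_bijective_of_killed {F F' : Type u} [AddCommGroup F] [Module P F] [AddCommGroup F'] [Module P F']
    (I : Ideal P) (f : F →ₗ[P] F') (hf : Function.Surjective f) (hker : LinearMap.ker f ≤ I • (⊤ : Submodule P F))
    (N : Type u) [AddCommGroup N] [Module P N] (hN : ∀ a ∈ I, ∀ x : N, a • x = 0) :
    Function.Bijective (f.rTensor N) := by
  refine ⟨?_, LinearMap.rTensor_surjective N hf⟩
  rw [← LinearMap.ker_eq_bot, eq_bot_iff]
  have hex : Function.Exact ((LinearMap.ker f).subtype.rTensor N) (f.rTensor N) :=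
    rTensor_exact N f.exact_subtype_ker_map hf
  intro z hz
  obtain ⟨w, rfl⟩ := (hex z).1 hz
  induction w using TensorProduct.induction_on with
  | zero => simp
  | add a b ha hb =>
    rw [map_add]
    exact add_mem (ha ((hex _).2 ⟨a, rfl⟩)) (hb ((hex _).2 ⟨b, rfl⟩))
  | tmul a x =>
    show (a : F) ⊗ₜ[P] x ∈ (⊥ : Submodule P (F ⊗[P] N))
    refine Submodule.smul_induction_on (p := fun y => y ⊗ₜ[P] x ∈ (⊥ : Submodule P (F ⊗[P] N))) (hker a.2)
      (fun r hr y _ => ?_) (fun y z hy hz => by rw [TensorProduct.add_tmul]; exact add_mem hy hz)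
    rw [TensorProduct.smul_tmul, hN r hr x, TensorProduct.tmul_zero]
    exact zero_mem _

theorem isIso_tensMap_of_killed {P' : Type u} [CommRing P'] [Algebra P P'] {F F' : Type u}
    [AddCommGroup F] [Module P F] [Module P' F] [IsScalarTower P P' F]
    [AddCommGroup F'] [Module P F'] [Module P' F'] [IsScalarTower P P' F'] (I : Ideal P)
    (f : F →ₗ[P'] F') (hf : Function.Surjective f)
    (hker : LinearMap.ker (f.restrictScalars P) ≤ I • (⊤ : Submodule P F)) (C : DRing.Cx P)
    (hC : ∀ i, ∀ a ∈ I, ∀ x : C.X i, a • x = 0) : IsIso (tensMapCx P P' f C) := by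
  haveI : ∀ i, IsIso ((tensMapCx P P' f C).f i) := fun i =>
    isIso_tensMap_app P P' f (C.X i) (rTensor_bijective_of_killed I _ hf hker (C.X i) (hC i))
  exact HomologicalComplex.Hom.isIso_of_components _

/-- the kernel of a free cover of a flat pseudo-coherent module -/
theorem ker_cover {B B' F L : Type u} [CommRing B] [CommRing B'] [Algebra B B'] [Module.Flat B B']
    [AddCommGroup F] [Module B' F] [Module B F] [IsScalarTower B B' F] [AddCommGroup L] [Module B' L] [Module B L]
    [IsScalarTower B B' L] [Module.Free B' L] [Module.Finite B' L]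
    (hF : DRing.IsPseudoCoherentModule' B' F) [Module.Flat B F] (u : L →ₗ[B'] F) (hu : Function.Surjective u) :
    DRing.IsPseudoCoherentModule' B' (LinearMap.ker u) ∧ Module.Flat B (LinearMap.ker u) := by
  haveI : Module.Flat B L := Module.Flat.trans B B' L
  refine ⟨pc'_of_forall fun m => ?_,
    Groth.L19.PerfectHom.flat_ker_of_surjective (u.restrictScalars B) hu⟩
  let S : ShortComplex (ModuleCat.{u} B') := ShortComplex.mk (ModuleCat.ofHom (LinearMap.ker u).subtype)
    (ModuleCat.ofHom u) (ModuleCat.hom_ext (LinearMap.ext fun x => x.2))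
  have hS : S.ShortExact :=
    { exact := (ShortComplex.ShortExact.moduleCat_exact_iff_function_exact _).2 u.exact_subtype_ker_map
      mono_f := ConcreteCategory.mono_of_injective _ Subtype.val_injective
      epi_g := ConcreteCategory.epi_of_surjective _ hu }
  have hL : DRing.IsPseudoCoherent' B' (Dual.inD B' L) :=
    ⟨(HomologicalComplex.single _ (ComplexShape.up ℤ) 0).obj (ModuleCat.of B' L), 0,
      fun i hi => HomologicalComplex.isZero_single_obj_X _ _ _ _ (by omega), fun i => by
        by_cases hi : i = 0
        · subst hi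
          let e : L ≃ₗ[B'] ((HomologicalComplex.single (ModuleCat.{u} B') (ComplexShape.up ℤ) 0).obj
            (ModuleCat.of B' L)).X 0 :=
            (HomologicalComplex.singleObjXSelf (ComplexShape.up ℤ) (0 : ℤ) (ModuleCat.of B' L)).symm.toLinearEquiv
          exact ⟨Module.Finite.equiv e, Module.Free.of_equiv e⟩
        · haveI := ModuleCat.subsingleton_of_isZero
            (HomologicalComplex.isZero_single_obj_X (ComplexShape.up ℤ) (0 : ℤ) (ModuleCat.of B' L) i hi)
          exact ⟨inferInstance, inferInstance⟩,
      ⟨((DerivedCategory.singleFunctorIsoCompQ (ModuleCat.{u} B') 0).app (ModuleCat.of B' L)).symm⟩⟩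
  obtain ⟨m, rfl⟩ : ∃ m', m = m' + 1 := ⟨m - 1, by omega⟩
  exact pc_first _ hS.singleTriangle_distinguished m (pc_of_pc' hL (m + 1)) (pc_of_pc' hF m)

end Groth.L29.Src
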